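import Mathlib
import Groth.Agent.GrCoreLib.Acyclic
import Groth.Agent.LocCohLib.LocalCriterion
import Groth.Agent.GrInjLib.Ext

/-!
# Modules without higher local cohomology
-/

set_option autoImplicit false
set_option linter.style.haveILetI false
set_option linter.unusedSectionVars false
universe u

open DirectSum GrInjLib CategoryTheory Groth.Agent.LocCohLib Groth.Agent.GrCoreLib

namespace Groth.Agent.GrKunnethLib

/-- The higher local cohomology of `X` with support in `a` vanishes. -/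
def Acyc {R : Type u} [CommRing R] (a : Ideal R) (X : Type u) [AddCommGroup X] [Module R X] : Prop :=
  ∀ j : ℕ, Subsingleton ((localCohomology a (j + 1)).obj (ModuleCat.of R X) : Type u)

variable {R : Type u} [CommRing R] {a : Ideal R} {X : Type u} [AddCommGroup X] [Module R X]

theorem acyc_of_torsion [IsNoetherianRing R] (h : ∀ x : X, x ∈ GrLC.gam a X) : Acyc a X := fun j =>
  subsingleton_of_torsion (ModuleCat.of R X) (fun x => h x) j

theorem acyc_of_bijective {c : R} (hc : c ∈ a) (h : Function.Bijective (fun x : X => c • x)) :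
    Acyc a X := fun j => subsingleton_H_of_bijective a X c hc h (j + 1)

/-- A module which is a finite sum of acyclic pieces is acyclic. -/
theorem acyc_of_endos {κ : Type*} (s : Finset κ) (P : κ → X →ₗ[R] X)
    (hsum : ∀ x, ∑ l ∈ s, P l x = x) (h : ∀ l ∈ s, Acyc a (LinearMap.range (P l))) : Acyc a X := by
  classical
  intro j
  refine subsingleton_of_forall_eq 0 fun z => ?_
  let F := localCohomology a (j + 1)
  have hid : (∑ l ∈ s, ModuleCat.ofHom (P l) : ModuleCat.of R X ⟶ ModuleCat.of R X) = 𝟙 _ := by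
    refine ModuleCat.hom_ext (LinearMap.ext fun x => ?_)
    rw [ModuleCat.hom_sum, LinearMap.sum_apply]
    exact hsum x
  have hzero : ∀ l ∈ s, F.map (ModuleCat.ofHom (P l)) = 0 := by
    intro l hl
    have hf : ModuleCat.ofHom (P l) =
        ModuleCat.ofHom (P l).rangeRestrict ≫ ModuleCat.ofHom (LinearMap.range (P l)).subtype := rfl
    rw [hf, F.map_comp]
    haveI := h l hl j
    have h0 : F.map (ModuleCat.ofHom (P l).rangeRestrict) = 0 :=
      ModuleCat.hom_ext (LinearMap.ext fun _ => Subsingleton.elim _ _)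
    rw [h0, Limits.zero_comp]
  have h1 : F.map (𝟙 (ModuleCat.of R X)) = 0 := by
    rw [← hid, F.map_sum]
    exact Finset.sum_eq_zero hzero
  rw [F.map_id] at h1
  exact LinearMap.congr_fun (congrArg ModuleCat.Hom.hom h1) z

theorem Acyc.prod {Y : Type u} [AddCommGroup Y] [Module R Y] (hX : Acyc a X) (hY : Acyc a Y) :
    Acyc a (X × Y) := by
  have hr : ∀ (Z : Type u) [AddCommGroup Z] [Module R Z] (e : (X × Y) →ₗ[R] (X × Y))
      (i : Z ≃ₗ[R] LinearMap.range e), Acyc a Z → Acyc a (LinearMap.range e) := by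
    intro Z _ _ e i hZ j
    haveI := hZ j
    exact ((localCohomology a (j + 1)).mapIso i.toModuleIso).toLinearEquiv.symm.toEquiv.subsingleton
  refine acyc_of_endos (Finset.univ : Finset Bool)
    (fun b => cond b (LinearMap.inl R X Y ∘ₗ LinearMap.fst R X Y) (LinearMap.inr R X Y ∘ₗ LinearMap.snd R X Y))
    (fun x => by simp) fun b _ => ?_
  cases b
  · refine hr Y _ ?_ hY
    exact LinearEquiv.ofInjective (LinearMap.inr R X Y) LinearMap.inr_injective ≪≫ₗ LinearEquiv.ofEq _ _ (by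
      show LinearMap.range (LinearMap.inr R X Y) = LinearMap.range (LinearMap.inr R X Y ∘ₗ LinearMap.snd R X Y)
      rw [LinearMap.range_comp_of_range_eq_top _ (LinearMap.range_eq_top.2 Prod.snd_surjective)])
  · refine hr X _ ?_ hX
    exact LinearEquiv.ofInjective (LinearMap.inl R X Y) LinearMap.inl_injective ≪≫ₗ LinearEquiv.ofEq _ _ (by
      show LinearMap.range (LinearMap.inl R X Y) = LinearMap.range (LinearMap.inl R X Y ∘ₗ LinearMap.fst R X Y)
      rw [LinearMap.range_comp_of_range_eq_top _ (LinearMap.range_eq_top.2 Prod.fst_surjective)])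

section Graded

variable {ι : Type} [AddCommGroup ι] [DecidableEq ι] {σ : Type u} [SetLike σ R] [AddSubgroupClass σ R]
  (𝒜 : ι → σ) [GradedRing 𝒜]

theorem acyc_starInj [IsNoetherianRing R] (X : GrLC.GMod.{u} 𝒜) (hX : GrLC.IsStarInj 𝒜 X.gr)
    (a : HomogeneousIdeal 𝒜) : Acyc a.toIdeal X.carrier := fun j =>
  subsingleton_locCoh 𝒜 X.gr hX a j

variable {𝒜} {M : Type u} [AddCommGroup M] [Module R M] {ℳ : ι → AddSubgroup M} [Decomposition ℳ]
  [SetLike.GradedSMul 𝒜 ℳ] (Y : GrRes 𝒜 ℳ) (F : GrLC.StarInjRes 𝒜 ℳ)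

/-- The comparison between a resolution by acyclic modules and a *injective one. -/
theorem exists_compare_acyc [IsNoetherianRing R] (a : HomogeneousIdeal 𝒜) {S : Set R}
    (hS : S ⊆ {x : R | SetLike.IsHomogeneousElem 𝒜 x}) (s : Finset R) (hs : (s : Set R) ⊆ S)
    (has : a.toIdeal = Ideal.span (s : Set R)) (hY : ∀ n, Acyc a.toIdeal (Y.X n).carrier) :
    ∃ ψ : ∀ n, (Y.X n).carrier →ₗ[R] (F.X n).carrier,
      (∀ n, GrLC.IsGrHom (Y.X n).gr (F.X n).gr (ψ n)) ∧
      (∀ i, ∀ y ∈ Y.cocyc a i, ψ i y ∈ F.cocyc a i) ∧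
      (∀ i, ∀ y ∈ Y.cocyc a i, (ψ i y ∈ F.cobdy a i ↔ y ∈ Y.cobdy a i)) ∧
      ∀ i g, ∀ f ∈ F.cocyc a i, f ∈ (F.X i).gr g →
        ∃ y ∈ Y.cocyc a i, y ∈ (Y.X i).gr g ∧ f - ψ i y ∈ F.cobdy a i := by
  obtain ⟨ψ, hψg, hψ0, hψd⟩ := exists_chainMap Y F
  have sq : ∀ n, coneD Y F ψ n ≫ coneD Y F ψ (n + 1) = 0 := by
    intro n
    apply ModuleCat.hom_ext
    cases n with
    | zero =>
      refine LinearMap.ext fun (y : (Y.X 0).carrier) => Prod.ext ?_ ?_
      · show -(Y.d 1 (-(Y.d 0 y))) = 0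
        rw [map_neg, neg_neg, Y.d_comp_d]
      · show ψ 1 (-(Y.d 0 y)) + F.d 0 (ψ 0 y) = 0
        rw [map_neg, hψd, neg_add_cancel]
    | succ n =>
      refine LinearMap.ext fun (x : (Y.X (n + 1)).carrier × (F.X n).carrier) => Prod.ext ?_ ?_
      · show -(Y.d (n + 2) (-(Y.d (n + 1) x.1))) = 0
        rw [map_neg, neg_neg, Y.d_comp_d]
      · show ψ (n + 2) (-(Y.d (n + 1) x.1)) + F.d (n + 1) (ψ (n + 1) x.1 + F.d n x.2) = 0
        rw [map_neg, hψd, map_add, GrInjLib.d_comp_d, add_zero, neg_add_cancel]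
  let K : CochainComplex (ModuleCat.{u} R) ℕ := CochainComplex.of (coneX Y F) (coneD Y F ψ) sq
  have hd : ∀ n, K.d n (n + 1) = coneD Y F ψ n := fun n => CochainComplex.of_d ..
  let Z : ModuleCat.{u} R := ModuleCat.of R PUnit.{u + 1}
  haveI : Subsingleton (Z : Type u) := inferInstanceAs (Subsingleton PUnit.{u + 1})
  haveI : ∀ j, Subsingleton ((localCohomology (Ideal.span (s : Set R)) j).obj Z : Type u) := by
    intro j
    cases j with
    | zero => exact (h0Equiv (Ideal.span (s : Set R)) Z).toEquiv.subsingleton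
    | succ j =>
      exact subsingleton_of_setFlasque (S := S) Z
        (fun t _ b _ k => ⟨0, fun z => ⟨0, Subsingleton.elim _ _⟩⟩) s hs j
  have hex0 : ∀ x, (K.d 0 1).hom x = 0 → x = 0 := by
    intro (x : (Y.X 0).carrier) hx
    rw [hd] at hx
    have h1 : -(Y.d 0 x) = 0 := congrArg Prod.fst hx
    have h2 : ψ 0 x = 0 := congrArg Prod.snd hx
    have hk : x ∈ LinearMap.ker (Y.d 0) := neg_eq_zero.1 h1
    rw [Y.exact_zero] at hk
    obtain ⟨m, rfl⟩ := hk
    rw [hψ0] at h2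
    show Y.ε m = 0
    rw [F.ε_injective (h2.trans (map_zero F.ε).symm), map_zero]
  have hexs : ∀ (n : ℕ) x, (K.d (n + 1) (n + 2)).hom x = 0 → ∃ y, (K.d n (n + 1)).hom y = x := by
    intro n (x : (Y.X (n + 1)).carrier × (F.X n).carrier) hx
    rw [hd] at hx
    have h1 : -(Y.d (n + 1) x.1) = 0 := congrArg Prod.fst hx
    have h2 : ψ (n + 1) x.1 + F.d n x.2 = 0 := congrArg Prod.snd hx
    have hk : x.1 ∈ LinearMap.ker (Y.d (n + 1)) := neg_eq_zero.1 h1
    rw [Y.exact_succ] at hk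
    obtain ⟨y, hy⟩ := hk
    have hy' : ψ (n + 1) x.1 = F.d n (ψ n y) := by rw [← hy, hψd]
    have hker : x.2 + ψ n y ∈ LinearMap.ker (F.d n) := by
      rw [LinearMap.mem_ker, map_add, ← hy']
      exact (add_comm _ _).trans h2
    cases n with
    | zero =>
      rw [F.exact_zero] at hker
      obtain ⟨m, hm⟩ := hker
      refine ⟨(-y + Y.ε m : (Y.X 0).carrier), ?_⟩
      rw [hd]
      refine Prod.ext ?_ ?_
      · show -(Y.d 0 (-y + Y.ε m)) = x.1
        rw [map_add, show Y.d 0 (Y.ε m) = 0 from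
          (SetLike.ext_iff.1 Y.exact_zero _).2 ⟨m, rfl⟩, map_neg, add_zero, neg_neg, hy]
      · show ψ 0 (-y + Y.ε m) = x.2
        rw [map_add, hψ0, hm, map_neg]
        abel
    | succ n =>
      rw [F.exact_succ] at hker
      obtain ⟨w, hw⟩ := hker
      refine ⟨((-y, w) : (Y.X (n + 1)).carrier × (F.X n).carrier), ?_⟩
      rw [hd]
      refine Prod.ext ?_ ?_
      · show -(Y.d (n + 1) (-y)) = x.1
        rw [map_neg, neg_neg, hy]
      · show ψ (n + 1) (-y) + F.d n w = x.2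
        rw [map_neg, hw]
        abel
  have hac : ∀ (n j : ℕ),
      Subsingleton ((localCohomology (Ideal.span (s : Set R)) (j + 1)).obj (K.X n) : Type u) := by
    intro n j
    rw [← has]
    cases n with
    | zero => exact hY 0 j
    | succ n =>
      exact ((hY (n + 1)).prod (acyc_starInj 𝒜 (F.X n) (F.starInj n) a)) j
  have key : ∀ i, ZI (Ideal.span (s : Set R)) K i ≤ BI (Ideal.span (s : Set R)) K i := fun i =>
    Presents.le_of_subsingleton (presents_of_acyclic (M := Z) (0 : Z ⟶ K.X 0)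
      (fun a b _ => Subsingleton.elim (α := PUnit.{u + 1}) a b)
      (fun x => ⟨fun hx => ⟨0, by rw [hex0 x hx]; rfl⟩, fun ⟨m, hm⟩ => by
        rw [← hm]; exact map_zero (K.d 0 1).hom⟩) hexs hac i)
  have hfst : ∀ {n} {p : (Y.X (n + 1)).carrier × (F.X n).carrier},
      p ∈ GrLC.gam a.toIdeal ((Y.X (n + 1)).carrier × (F.X n).carrier) →
        p.1 ∈ GrLC.gam a.toIdeal (Y.X (n + 1)).carrier ∧ p.2 ∈ GrLC.gam a.toIdeal (F.X n).carrier :=
    fun h => ⟨map_gam (LinearMap.fst R _ _) _ h, map_gam (LinearMap.snd R _ _) _ h⟩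
  have hpair : ∀ {n} {y : (Y.X (n + 1)).carrier} {f : (F.X n).carrier},
      y ∈ GrLC.gam a.toIdeal (Y.X (n + 1)).carrier → f ∈ GrLC.gam a.toIdeal (F.X n).carrier →
        (y, f) ∈ GrLC.gam a.toIdeal ((Y.X (n + 1)).carrier × (F.X n).carrier) := by
    intro n y f hy hf
    rw [show (y, f) = LinearMap.inl R _ (F.X n).carrier y + LinearMap.inr R (Y.X (n + 1)).carrier _ f
      by simp]
    exact add_mem (map_gam _ _ hy) (map_gam _ _ hf)
  have hdiv : ∀ n, ∀ p : (Y.X (n + 1)).carrier × (F.X n).carrier,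
      p ∈ GrLC.gam a.toIdeal _ → Y.d (n + 1) p.1 = 0 → ψ (n + 1) p.1 + F.d n p.2 = 0 →
      ∃ q ∈ GrLC.gam a.toIdeal (coneX Y F n : Type u), (coneD Y F ψ n).hom q = p := by
    intro n p hp h1 h2
    have h := key (n + 1) (x := (p : K.X (n + 1))) ⟨by rw [← has]; exact hp, by
      refine LinearMap.mem_ker.2 ?_
      rw [hd]
      exact Prod.ext (show -(Y.d (n + 1) p.1) = 0 by rw [h1, neg_zero]) h2⟩
    obtain ⟨q, hq, hqe⟩ := mem_BI_succ.1 h
    rw [← has] at hq
    rw [hd] at hqe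
    exact ⟨q, hq, hqe⟩
  have hcob : ∀ i, ∀ y ∈ Y.cobdy a i, ψ i y ∈ F.cobdy a i := by
    intro i y hy
    cases i with
    | zero => rw [show y = 0 from hy, map_zero]; exact zero_mem _
    | succ n =>
      obtain ⟨w, hw, rfl⟩ := hy
      exact ⟨ψ n w, map_gam _ _ hw, (hψd n w).symm⟩
  refine ⟨ψ, hψg, fun i y hy => ⟨map_gam _ _ hy.1, ?_⟩, fun i y hy => ⟨fun h => ?_, hcob i y⟩,
    fun i g f hf hfg => ?_⟩
  · show F.d i (ψ i y) = 0
    rw [← hψd, LinearMap.mem_ker.1 hy.2, map_zero]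
  · cases i with
    | zero =>
      have h' : ψ 0 y = 0 := h
      exact hex0 y (by
        rw [hd]
        exact Prod.ext (show -(Y.d 0 y) = 0 by rw [LinearMap.mem_ker.1 hy.2, neg_zero]) h')
    | succ n =>
      obtain ⟨w, hw, hwe⟩ := h
      obtain ⟨q, hq, hqe⟩ := hdiv n (y, -w) (hpair hy.1 (neg_mem hw)) hy.2 (by
        show ψ (n + 1) y + F.d n (-w) = 0
        rw [map_neg, hwe, add_neg_cancel])
      cases n with
      | zero =>
        exact ⟨-(q : (Y.X 0).carrier), neg_mem hq,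
          (map_neg (Y.d 0) _).trans (congrArg Prod.fst hqe)⟩
      | succ n =>
        exact ⟨-(q : (Y.X (n + 1)).carrier × (F.X n).carrier).1, neg_mem (hfst hq).1,
          (map_neg (Y.d (n + 1)) _).trans (congrArg Prod.fst hqe)⟩
  · obtain ⟨q, hq, hqe⟩ := hdiv i (0, f) (hpair (zero_mem _) hf.1) (map_zero _) (by
      show ψ (i + 1) 0 + F.d i f = 0
      rw [map_zero, zero_add]
      exact hf.2)
    have main : ∃ y ∈ GrLC.gam a.toIdeal (Y.X i).carrier, Y.d i y = 0 ∧ f - ψ i y ∈ F.cobdy a i := by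
      cases i with
      | zero =>
        refine ⟨(q : (Y.X 0).carrier), hq, neg_eq_zero.1 (congrArg Prod.fst hqe), ?_⟩
        have h2 : ψ 0 (q : (Y.X 0).carrier) = f := congrArg Prod.snd hqe
        rw [h2, sub_self]
        exact zero_mem _
      | succ n =>
        refine ⟨(q : (Y.X (n + 1)).carrier × (F.X n).carrier).1, (hfst hq).1,
          neg_eq_zero.1 (congrArg Prod.fst hqe), ?_⟩
        have h2 : ψ (n + 1) (q : (Y.X (n + 1)).carrier × (F.X n).carrier).1 +
            F.d n (q : (Y.X (n + 1)).carrier × (F.X n).carrier).2 = f := congrArg Prod.snd hqe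
        rw [← h2, add_sub_cancel_left]
        exact ⟨_, (hfst hq).2, rfl⟩
    obtain ⟨y, hy1, hy2, hy3⟩ := main
    refine ⟨proj (Y.X i).gr g y, ⟨mem_homogeneous _ (gam_homogeneous _ a) hy1 g, ?_⟩, proj_mem _ g y, ?_⟩
    · show Y.d i (proj (Y.X i).gr g y) = 0
      rw [← proj_map₀ _ _ (Y.d_grHom i), hy2, map_zero]
    · have := mem_homogeneous _ (cobdy_homogeneous F a i) hy3 g
      rwa [map_sub, proj_of_mem _ hfg, proj_map₀ _ _ (hψg i)] at this

end Graded

end Groth.Agent.GrKunnethLib
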