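import Mathlib
import Groth.Prelude.Def_GrSeg
import Groth.Agent.GrSegreLib.Finite

/-!
# The diagonal part of a tensor product of graded modules, as a module over the Segre product
-/

set_option autoImplicit false
set_option linter.unusedSectionVars false
universe u

open scoped TensorProduct
open DirectSum

namespace Groth.Agent.GrKunnethLib

/-- A grading of a vector space given by projections. -/
structure Proj (k : Type u) [Field k] (V : Type u) [AddCommGroup V] [Module k V] where
  /-- the projections -/
  p : ℤ → V →ₗ[k] V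
  p_p : ∀ g h x, p g (p h x) = if g = h then p h x else 0
  span_range : ⨆ g, LinearMap.range (p g) = ⊤

variable {k : Type u} [Field k] {V W : Type u} [AddCommGroup V] [Module k V] [AddCommGroup W] [Module k W]

namespace Proj

variable (G : Proj k V) (G' : Proj k W)

theorem induction_p {P : V → Prop} (h0 : P 0) (hadd : ∀ a b, P a → P b → P (a + b))
    (hp : ∀ g x, P (G.p g x)) (x : V) : P x := by
  refine Submodule.iSup_induction _ (motive := P)
    (by rw [G.span_range]; trivial : x ∈ ⨆ g, LinearMap.range (G.p g)) ?_ h0 hadd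
  rintro g _ ⟨y, rfl⟩
  exact hp g y

theorem p_self (g : ℤ) (x : V) : G.p g (G.p g x) = G.p g x := by rw [G.p_p, if_pos rfl]

theorem p_ne {g h : ℤ} (hne : g ≠ h) (x : V) : G.p g (G.p h x) = 0 := by rw [G.p_p, if_neg hne]

theorem mem_range_p {g : ℤ} {x : V} : x ∈ LinearMap.range (G.p g) ↔ G.p g x = x :=
  ⟨by rintro ⟨y, rfl⟩; exact G.p_self g y, fun h => ⟨x, h⟩⟩

theorem pair_induction {P : V ⊗[k] W → Prop} (h0 : P 0) (hadd : ∀ a b, P a → P b → P (a + b))
    (hp : ∀ g h x y, P (G.p g x ⊗ₜ[k] G'.p h y)) (z : V ⊗[k] W) : P z := by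
  induction z using TensorProduct.induction_on with
  | zero => exact h0
  | tmul x y =>
    induction x using G.induction_p with
    | h0 => rw [TensorProduct.zero_tmul]; exact h0
    | hadd a b ha hb => rw [TensorProduct.add_tmul]; exact hadd _ _ ha hb
    | hp g x =>
      induction y using G'.induction_p with
      | h0 => rw [TensorProduct.tmul_zero]; exact h0
      | hadd a b ha hb => rw [TensorProduct.tmul_add]; exact hadd _ _ ha hb
      | hp h y => exact hp g h x y
  | add a b ha hb => exact hadd _ _ ha hb

/-- The projection of bidegree `(g, g)`. -/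
noncomputable def pp (g : ℤ) : V ⊗[k] W →ₗ[k] V ⊗[k] W := TensorProduct.map (G.p g) (G'.p g)

theorem pp_pp (g h : ℤ) (z : V ⊗[k] W) : pp G G' g (pp G G' h z) = if g = h then pp G G' h z else 0 := by
  induction z using TensorProduct.induction_on with
  | zero => simp
  | tmul x y =>
    simp only [pp, TensorProduct.map_tmul]
    rw [G.p_p, G'.p_p]
    split_ifs <;> simp
  | add a b ha hb => simp only [map_add, ha, hb]; split_ifs <;> simp

theorem support_finite (z : V ⊗[k] W) : {g | pp G G' g z ≠ 0}.Finite := by
  induction z using pair_induction G G' with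
  | h0 => simp
  | hadd a b ha hb =>
    refine (ha.union hb).subset fun g hg => ?_
    by_contra h
    simp only [Set.mem_union, Set.mem_setOf_eq, not_or, not_not] at h
    exact hg (by rw [map_add, h.1, h.2, add_zero])
  | hp g h x y =>
    refine (Set.finite_singleton g).subset fun j hj => ?_
    by_contra hne
    exact hj (by rw [pp, TensorProduct.map_tmul, G.p_ne hne, TensorProduct.zero_tmul])

/-- The projection onto the diagonal part. -/
noncomputable def diag : V ⊗[k] W →ₗ[k] V ⊗[k] W where
  toFun z := ∑ᶠ g, pp G G' g z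
  map_add' a b := by
    simp only [map_add]
    exact finsum_add_distrib (support_finite G G' a) (support_finite G G' b)
  map_smul' c a := by
    simp only [map_smul, RingHom.id_apply]
    exact (smul_finsum' c (support_finite G G' a)).symm

theorem diag_apply (z : V ⊗[k] W) : diag G G' z = ∑ᶠ g, pp G G' g z := rfl

theorem diag_tmul (g h : ℤ) (x : V) (y : W) :
    diag G G' (G.p g x ⊗ₜ[k] G'.p h y) = if g = h then G.p g x ⊗ₜ[k] G'.p h y else 0 := by
  rw [diag_apply, finsum_eq_single _ g]
  · rw [pp, TensorProduct.map_tmul, G.p_self]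
    split_ifs with e
    · subst e; rw [G'.p_self]
    · rw [G'.p_ne e, TensorProduct.tmul_zero]
  · intro j hj
    rw [pp, TensorProduct.map_tmul, G.p_ne hj, TensorProduct.zero_tmul]

theorem diag_diag (z : V ⊗[k] W) : diag G G' (diag G G' z) = diag G G' z := by
  induction z using pair_induction G G' with
  | h0 => simp
  | hadd a b ha hb => simp only [map_add, ha, hb]
  | hp g h x y =>
    rw [diag_tmul]
    split_ifs with e
    · rw [diag_tmul, if_pos e]
    · rw [map_zero]

theorem pp_diag (g : ℤ) (z : V ⊗[k] W) : pp G G' g (diag G G' z) = pp G G' g z := by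
  induction z using pair_induction G G' with
  | h0 => simp
  | hadd a b ha hb => simp only [map_add, ha, hb]
  | hp i j x y =>
    rw [diag_tmul]
    split_ifs with e
    · rfl
    · rw [map_zero, pp, TensorProduct.map_tmul, G.p_p, G'.p_p]
      split_ifs with h1 h2
      · exact absurd (h1.symm.trans h2) e
      · rw [TensorProduct.tmul_zero]
      · rw [TensorProduct.zero_tmul]
      · rw [TensorProduct.zero_tmul]

theorem diag_pp (g : ℤ) (z : V ⊗[k] W) : diag G G' (pp G G' g z) = pp G G' g z := by
  induction z using TensorProduct.induction_on with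
  | zero => simp
  | tmul x y => rw [pp, TensorProduct.map_tmul, diag_tmul, if_pos rfl]
  | add a b ha hb => simp only [map_add, ha, hb]

theorem exists_sum_pp (z : V ⊗[k] W) : ∃ s : Finset ℤ, diag G G' z = ∑ g ∈ s, pp G G' g z :=
  ⟨(support_finite G G' z).toFinset, finsum_eq_sum_of_support_subset _ (fun g hg => by
    simpa using hg)⟩

variable {G G'}

/-- Maps shifting both degrees by `e` commute with the diagonal projection. -/
theorem diag_map_comm {e : ℤ} {f : V →ₗ[k] V} {f' : W →ₗ[k] W}
    (hf : ∀ g x, f (G.p g x) = G.p (g + e) (f x)) (hf' : ∀ g x, f' (G'.p g x) = G'.p (g + e) (f' x))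
    (z : V ⊗[k] W) : diag G G' (TensorProduct.map f f' z) = TensorProduct.map f f' (diag G G' z) := by
  induction z using pair_induction G G' with
  | h0 => simp
  | hadd a b ha hb => simp only [map_add, ha, hb]
  | hp g h x y =>
    rw [diag_tmul, TensorProduct.map_tmul, hf, hf', diag_tmul]
    by_cases e' : g = h
    · rw [if_pos (by omega), if_pos e', TensorProduct.map_tmul, hf, hf']
    · rw [if_neg (by omega), if_neg e', map_zero]

theorem pp_map_comm {e : ℤ} {f : V →ₗ[k] V} {f' : W →ₗ[k] W}
    (hf : ∀ g x, f (G.p g x) = G.p (g + e) (f x)) (hf' : ∀ g x, f' (G'.p g x) = G'.p (g + e) (f' x))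
    (g : ℤ) (z : V ⊗[k] W) :
    pp G G' (g + e) (TensorProduct.map f f' z) = TensorProduct.map f f' (pp G G' g z) := by
  induction z using TensorProduct.induction_on with
  | zero => simp
  | tmul x y => simp only [pp, TensorProduct.map_tmul, hf, hf']
  | add a b ha hb => simp only [map_add, ha, hb]

end Proj

section Segre

variable {R S T : Type u} [CommRing R] [CommRing S] [CommRing T] [Algebra k R] [Algebra k S] [Algebra k T]
  [Module R V] [IsScalarTower k R V] [Module S W] [IsScalarTower k S W]

/-- A tensor product of modules as a module over an algebra mapping to the tensor product of the algebras. -/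
def TW (ψ : T →ₐ[k] R ⊗[k] S) (V W : Type u) [AddCommGroup V] [Module k V] [AddCommGroup W] [Module k W] :
    Type u :=
  let _ := ψ
  V ⊗[k] W

noncomputable instance (ψ : T →ₐ[k] R ⊗[k] S) : AddCommGroup (TW ψ V W) :=
  inferInstanceAs (AddCommGroup (V ⊗[k] W))

noncomputable instance (ψ : T →ₐ[k] R ⊗[k] S) : Module k (TW ψ V W) :=
  inferInstanceAs (Module k (V ⊗[k] W))

variable (ψ : T →ₐ[k] R ⊗[k] S)

/-- The identification with the tensor product. -/
noncomputable def TW.val : TW ψ V W ≃ₗ[k] V ⊗[k] W := LinearEquiv.refl k (V ⊗[k] W)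

theorem act_one (z : V ⊗[k] W) : GrSeg.act k R S V W 1 z = z := by
  rw [Algebra.TensorProduct.one_def]
  induction z using TensorProduct.induction_on with
  | zero => simp
  | tmul x y => rw [GrSeg.act_tmul, one_smul, one_smul]
  | add a b ha hb => rw [map_add, ha, hb]

noncomputable instance : Module T (TW ψ V W) where
  smul t z := GrSeg.act k R S V W (ψ t) (TW.val ψ z)
  one_smul z := by
    show GrSeg.act k R S V W (ψ 1) (TW.val ψ z) = _
    rw [map_one, act_one]
    rfl
  mul_smul t t' z := by
    show GrSeg.act k R S V W (ψ (t * t')) _ = GrSeg.act k R S V W (ψ t) (GrSeg.act k R S V W (ψ t') _)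
    rw [map_mul]
    exact Groth.Agent.GrSegreLib.act_mul _ _ _
  smul_zero t := map_zero (GrSeg.act k R S V W (ψ t))
  smul_add t a b := map_add (GrSeg.act k R S V W (ψ t)) _ _
  add_smul t t' z := by
    show GrSeg.act k R S V W (ψ (t + t')) _ = GrSeg.act k R S V W (ψ t) _ + GrSeg.act k R S V W (ψ t') _
    rw [map_add, map_add, LinearMap.add_apply]
  zero_smul z := by
    show GrSeg.act k R S V W (ψ 0) _ = _
    rw [map_zero, map_zero, LinearMap.zero_apply]
    rfl

theorem TW.val_smul (t : T) (z : TW ψ V W) :
    TW.val ψ (t • z) = GrSeg.act k R S V W (ψ t) (TW.val ψ z) := rfl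

instance : IsScalarTower k T (TW ψ V W) :=
  IsScalarTower.of_algebraMap_smul fun c z => (TW.val ψ).injective (by
    rw [TW.val_smul, map_smul, AlgHom.commutes, Algebra.algebraMap_eq_smul_one, map_smul,
      LinearMap.smul_apply, act_one])

variable {V' W' : Type u} [AddCommGroup V'] [Module k V'] [Module R V'] [IsScalarTower k R V']
  [AddCommGroup W'] [Module k W'] [Module S W'] [IsScalarTower k S W']

theorem map_act (f : V →ₗ[R] V') (f' : W →ₗ[S] W') (w : R ⊗[k] S) (z : V ⊗[k] W) :
    TensorProduct.map (f.restrictScalars k) (f'.restrictScalars k) (GrSeg.act k R S V W w z) =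
      GrSeg.act k R S V' W' w (TensorProduct.map (f.restrictScalars k) (f'.restrictScalars k) z) := by
  induction w using TensorProduct.induction_on with
  | zero => simp
  | tmul a b =>
    induction z using TensorProduct.induction_on with
    | zero => simp
    | tmul x y =>
      simp only [GrSeg.act_tmul, TensorProduct.map_tmul, LinearMap.restrictScalars_apply, map_smul]
    | add x y hx hy => simp only [map_add, hx, hy]
  | add a b ha hb => simp only [map_add, LinearMap.add_apply, ha, hb]

/-- A pair of maps as a map over the algebra. -/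
noncomputable def TW.map (f : V →ₗ[R] V') (f' : W →ₗ[S] W') : TW ψ V W →ₗ[T] TW ψ V' W' where
  toFun z := (TW.val ψ).symm (TensorProduct.map (f.restrictScalars k) (f'.restrictScalars k) (TW.val ψ z))
  map_add' a b := by simp only [map_add]
  map_smul' t z := (TW.val ψ).injective (by
    simp only [RingHom.id_apply, LinearEquiv.apply_symm_apply, TW.val_smul]
    exact map_act f f' _ _)

theorem TW.val_map (f : V →ₗ[R] V') (f' : W →ₗ[S] W') (z : TW ψ V W) :
    TW.val ψ (TW.map ψ f f' z) =
      TensorProduct.map (f.restrictScalars k) (f'.restrictScalars k) (TW.val ψ z) := rfl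

variable {ψ} {𝒜 : ℤ → Submodule k R} {ℬ : ℤ → Submodule k S} {𝒯 : ℤ → Submodule k T}
  (hdegT : ∀ n : ℤ, (𝒯 n).map ψ.toLinearMap = GrSeg.segrePiece k 𝒜 ℬ n)
  {G : Proj k V} {G' : Proj k W}
  (hG : ∀ (e : ℤ) (a : R), a ∈ 𝒜 e → ∀ g x, a • G.p g x = G.p (g + e) (a • x))
  (hG' : ∀ (e : ℤ) (b : S), b ∈ ℬ e → ∀ g x, b • G'.p g x = G'.p (g + e) (b • x))

include hdegT hG hG' in
theorem pp_smul {e : ℤ} {t : T} (ht : t ∈ 𝒯 e) (g : ℤ) (z : TW ψ V W) :
    Proj.pp G G' (g + e) (TW.val ψ (t • z)) =
      GrSeg.act k R S V W (ψ t) (Proj.pp G G' g (TW.val ψ z)) := by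
  have hmem : ψ t ∈ GrSeg.segrePiece k 𝒜 ℬ e := (hdegT e).le ⟨t, ht, rfl⟩
  rw [TW.val_smul]
  generalize TW.val ψ z = w
  generalize ψ t = v at hmem ⊢
  induction hmem using Submodule.span_induction with
  | mem x hx =>
    obtain ⟨a, ha, b, hb, rfl⟩ := hx
    induction w using TensorProduct.induction_on with
    | zero => simp
    | tmul x y => simp only [Proj.pp, GrSeg.act_tmul, TensorProduct.map_tmul, hG e a ha, hG' e b hb]
    | add x y hx hy => simp only [map_add, hx, hy]
  | zero => simp
  | add x y _ _ hx hy => simp only [map_add, LinearMap.add_apply, hx, hy]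
  | smul c x _ hx => simp only [map_smul, LinearMap.smul_apply, hx]

variable [GradedAlgebra 𝒯]

include hdegT hG hG' in
theorem diag_smul (t : T) (z : TW ψ V W) :
    Proj.diag G G' (TW.val ψ (t • z)) = GrSeg.act k R S V W (ψ t) (Proj.diag G G' (TW.val ψ z)) := by
  induction t using DirectSum.Decomposition.inductionOn 𝒯 with
  | zero => simp [TW.val_smul]
  | @homogeneous e s =>
    simp only [Proj.diag_apply]
    have h1 : ∀ g, Proj.pp G G' g (TW.val ψ ((s : T) • z)) =
        GrSeg.act k R S V W (ψ s) (Proj.pp G G' (g - e) (TW.val ψ z)) := fun g => by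
      rw [← pp_smul hdegT hG hG' s.2 (g - e) z, sub_add_cancel]
    rw [finsum_congr h1]
    show _ = (GrSeg.act k R S V W (ψ s)).toAddMonoidHom (∑ᶠ g, Proj.pp G G' g (TW.val ψ z))
    rw [AddMonoidHom.map_finsum _ (Proj.support_finite G G' _)]
    exact finsum_comp_equiv (Equiv.subRight e)
      (f := fun g => GrSeg.act k R S V W (ψ s) (Proj.pp G G' g (TW.val ψ z)))
  | add a b ha hb =>
    simp only [TW.val_smul] at ha hb ⊢
    simp only [map_add, LinearMap.add_apply, ha, hb]

/-- The diagonal projection over the Segre product. -/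
noncomputable def diagT : TW ψ V W →ₗ[T] TW ψ V W where
  toFun z := (TW.val ψ).symm (Proj.diag G G' (TW.val ψ z))
  map_add' a b := by simp only [map_add]
  map_smul' t z := (TW.val ψ).injective (by
    simp only [RingHom.id_apply, LinearEquiv.apply_symm_apply, TW.val_smul]
    exact diag_smul hdegT hG hG' t z)

theorem val_diagT (z : TW ψ V W) :
    TW.val ψ (diagT hdegT hG hG' z) = Proj.diag G G' (TW.val ψ z) := rfl

end Segre

end Groth.Agent.GrKunnethLib
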