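import Mathlib

/-!
# Products of subspaces inside a tensor product over a field
-/

set_option autoImplicit false
universe u

open scoped TensorProduct

namespace Groth.Agent.GrKunnethLib

variable {k : Type u} [Field k] {V W V' W' : Type u} [AddCommGroup V] [Module k V] [AddCommGroup W]
  [Module k W] [AddCommGroup V'] [Module k V'] [AddCommGroup W'] [Module k W']

/-- The span of the tensors `x ⊗ y` with `x ∈ A`, `y ∈ B`. -/
def box (A : Submodule k V) (B : Submodule k W) : Submodule k (V ⊗[k] W) :=
  Submodule.map₂ (TensorProduct.mk k V W) A B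

theorem tmul_mem_box {A : Submodule k V} {B : Submodule k W} {x : V} {y : W} (hx : x ∈ A)
    (hy : y ∈ B) : x ⊗ₜ[k] y ∈ box A B :=
  Submodule.apply_mem_map₂ _ hx hy

theorem box_le {A : Submodule k V} {B : Submodule k W} {P : Submodule k (V ⊗[k] W)}
    (h : ∀ x ∈ A, ∀ y ∈ B, x ⊗ₜ[k] y ∈ P) : box A B ≤ P :=
  Submodule.map₂_le.2 h

theorem box_mono {A A' : Submodule k V} {B B' : Submodule k W} (hA : A ≤ A') (hB : B ≤ B') :
    box A B ≤ box A' B' :=
  Submodule.map₂_le_map₂ hA hB

theorem box_top_top : box (⊤ : Submodule k V) (⊤ : Submodule k W) = ⊤ := by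
  refine eq_top_iff.2 fun z hz => ?_
  clear hz
  induction z using TensorProduct.induction_on with
  | zero => exact zero_mem _
  | tmul x y => exact tmul_mem_box trivial trivial
  | add a b ha hb => exact add_mem ha hb

/-- A pair of maps with values in `A` and `B` maps into the product of `A` and `B`. -/
theorem map_mem_box (f : V' →ₗ[k] V) (g : W' →ₗ[k] W) {A : Submodule k V} {B : Submodule k W}
    (hf : ∀ x, f x ∈ A) (hg : ∀ y, g y ∈ B) (z : V' ⊗[k] W') :
    TensorProduct.map f g z ∈ box A B := by
  induction z using TensorProduct.induction_on with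
  | zero => rw [map_zero]; exact zero_mem _
  | tmul x y => rw [TensorProduct.map_tmul]; exact tmul_mem_box (hf x) (hg y)
  | add a b ha hb => rw [map_add]; exact add_mem ha hb

theorem map_box (f : V →ₗ[k] V') (g : W →ₗ[k] W') (A : Submodule k V) (B : Submodule k W) :
    (box A B).map (TensorProduct.map f g) = box (A.map f) (B.map g) := by
  refine le_antisymm (Submodule.map_le_iff_le_comap.2 (box_le fun x hx y hy => ?_))
    (box_le ?_)
  · rw [Submodule.mem_comap, TensorProduct.map_tmul]
    exact tmul_mem_box (Submodule.mem_map_of_mem hx) (Submodule.mem_map_of_mem hy)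
  · rintro _ ⟨x, hx, rfl⟩ _ ⟨y, hy, rfl⟩
    exact ⟨x ⊗ₜ[k] y, tmul_mem_box hx hy, TensorProduct.map_tmul _ _ _ _⟩

/-- A retraction onto a subspace. -/
theorem exists_proj (A : Submodule k V) :
    ∃ p : V →ₗ[k] V, (∀ x, p x ∈ A) ∧ ∀ x ∈ A, p x = x := by
  obtain ⟨g, hg⟩ := LinearMap.exists_extend (LinearMap.id : A →ₗ[k] A)
  refine ⟨A.subtype ∘ₗ g, fun x => (g x).2, fun x hx => ?_⟩
  exact congrArg Subtype.val (LinearMap.congr_fun hg ⟨x, hx⟩)

/-- Maps fixing `A` and `B` fix the product. -/
theorem map_eq_self_of_mem_box {A : Submodule k V} {B : Submodule k W} {f : V →ₗ[k] V}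
    {g : W →ₗ[k] W} (hf : ∀ x ∈ A, f x = x) (hg : ∀ y ∈ B, g y = y) {z : V ⊗[k] W}
    (hz : z ∈ box A B) : TensorProduct.map f g z = z := by
  refine (box_le (P := LinearMap.eqLocus (TensorProduct.map f g) LinearMap.id) fun x hx y hy => ?_) hz
  show TensorProduct.map f g (x ⊗ₜ[k] y) = x ⊗ₜ[k] y
  rw [TensorProduct.map_tmul, hf x hx, hg y hy]

theorem box_inf (A : Submodule k V) (B : Submodule k W) :
    box A ⊤ ⊓ box ⊤ B = box A B := by
  refine le_antisymm ?_ (le_inf (box_mono le_rfl le_top) (box_mono le_top le_rfl))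
  rintro z ⟨h1, h2⟩
  obtain ⟨p, hp, hp'⟩ := exists_proj A
  obtain ⟨q, hq, hq'⟩ := exists_proj B
  have e1 : TensorProduct.map p LinearMap.id z = z :=
    map_eq_self_of_mem_box hp' (fun y _ => rfl) h1
  have e2 : TensorProduct.map LinearMap.id q z = z :=
    map_eq_self_of_mem_box (fun x _ => rfl) hq' h2
  have e : TensorProduct.map p q z = z := by
    conv_rhs => rw [← e1, ← e2]
    rw [← LinearMap.comp_apply, ← TensorProduct.map_comp]
    rfl
  rw [← e]
  exact map_mem_box p q hp hq z

/-- Being killed by the quotient map of a pair of subspaces. -/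
theorem ker_map_mkQ (A : Submodule k V) (B : Submodule k W) :
    LinearMap.ker (TensorProduct.map A.mkQ B.mkQ) = box A ⊤ ⊔ box ⊤ B := by
  refine le_antisymm (fun z hz => ?_) (sup_le (box_le fun x hx y _ => ?_) (box_le fun x _ y hy => ?_))
  · obtain ⟨p, hp, hp'⟩ := exists_proj A
    obtain ⟨q, hq, hq'⟩ := exists_proj B
    have hkerp : A ≤ LinearMap.ker (LinearMap.id - p) := fun x hx => by
      rw [LinearMap.mem_ker, LinearMap.sub_apply, LinearMap.id_apply, hp' x hx, sub_self]
    have hkerq : B ≤ LinearMap.ker (LinearMap.id - q) := fun x hx => by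
      rw [LinearMap.mem_ker, LinearMap.sub_apply, LinearMap.id_apply, hq' x hx, sub_self]
    let a := A.liftQ (LinearMap.id - p) hkerp
    let b := B.liftQ (LinearMap.id - q) hkerq
    have h0 : TensorProduct.map (LinearMap.id - p) (LinearMap.id - q) z = 0 := by
      have e1 : (LinearMap.id - p : V →ₗ[k] V) = a ∘ₗ A.mkQ := (Submodule.liftQ_mkQ _ _ _).symm
      have e2 : (LinearMap.id - q : W →ₗ[k] W) = b ∘ₗ B.mkQ := (Submodule.liftQ_mkQ _ _ _).symm
      rw [e1, e2, TensorProduct.map_comp, LinearMap.comp_apply, LinearMap.mem_ker.1 hz, map_zero]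
    have hid : ∀ w : V ⊗[k] W, TensorProduct.map (LinearMap.id - p) (LinearMap.id - q) w =
        w - TensorProduct.map LinearMap.id q w - TensorProduct.map p (LinearMap.id - q) w := by
      intro w
      induction w using TensorProduct.induction_on with
      | zero => simp
      | tmul x y =>
        simp only [TensorProduct.map_tmul, LinearMap.sub_apply, LinearMap.id_apply,
          TensorProduct.sub_tmul, TensorProduct.tmul_sub]
        abel
      | add a b ha hb => simp only [map_add, ha, hb]; abel
    have hz' : z = TensorProduct.map LinearMap.id q z + TensorProduct.map p (LinearMap.id - q) z := by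
      rw [hid z, sub_sub, sub_eq_zero] at h0
      exact h0
    rw [hz']
    exact add_mem (Submodule.mem_sup_right (map_mem_box (A := ⊤) _ _ (fun _ => trivial) hq z))
      (Submodule.mem_sup_left (map_mem_box (B := ⊤) _ _ hp (fun _ => trivial) z))
  · rw [LinearMap.mem_ker, TensorProduct.map_tmul, Submodule.mkQ_apply A x,
      (Submodule.Quotient.mk_eq_zero A).2 hx, TensorProduct.zero_tmul]
  · rw [LinearMap.mem_ker, TensorProduct.map_tmul, Submodule.mkQ_apply B y,
      (Submodule.Quotient.mk_eq_zero B).2 hy, TensorProduct.tmul_zero]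

theorem map_mkQ_surjective (A : Submodule k V) (B : Submodule k W) :
    Function.Surjective (TensorProduct.map A.mkQ B.mkQ) := by
  intro z
  induction z using TensorProduct.induction_on with
  | zero => exact ⟨0, map_zero _⟩
  | tmul x y =>
    obtain ⟨a, rfl⟩ := A.mkQ_surjective x
    obtain ⟨b, rfl⟩ := B.mkQ_surjective y
    exact ⟨a ⊗ₜ[k] b, TensorProduct.map_tmul _ _ _ _⟩
  | add a b ha hb =>
    obtain ⟨x, rfl⟩ := ha
    obtain ⟨y, rfl⟩ := hb
    exact ⟨x + y, map_add _ _ _⟩

/-- The product as a tensor product. -/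
noncomputable def boxEquiv (A : Submodule k V) (B : Submodule k W) : A ⊗[k] B ≃ₗ[k] box A B :=
  LinearEquiv.ofBijective ((TensorProduct.map A.subtype B.subtype).codRestrict (box A B)
      fun z => map_mem_box _ _ (fun x => x.2) (fun y => y.2) z) <| by
    constructor
    · intro z z' h
      obtain ⟨p, hp, hp'⟩ := exists_proj A
      obtain ⟨q, hq, hq'⟩ := exists_proj B
      have key : ∀ w : A ⊗[k] B, TensorProduct.map (p.codRestrict A hp) (q.codRestrict B hq)
          (TensorProduct.map A.subtype B.subtype w) = w := fun w => by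
        rw [← LinearMap.comp_apply, ← TensorProduct.map_comp,
          show (p.codRestrict A hp) ∘ₗ A.subtype = LinearMap.id from
            LinearMap.ext fun x => Subtype.ext (hp' x x.2),
          show (q.codRestrict B hq) ∘ₗ B.subtype = LinearMap.id from
            LinearMap.ext fun x => Subtype.ext (hq' x x.2),
          TensorProduct.map_id, LinearMap.id_apply]
      rw [← key z, ← key z']
      exact congrArg (TensorProduct.map _ _) (congrArg Subtype.val h)
    · rintro ⟨w, hw⟩
      suffices h : w ∈ LinearMap.range (TensorProduct.map A.subtype B.subtype) by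
        obtain ⟨z, hz⟩ := h
        exact ⟨z, Subtype.ext hz⟩
      exact box_le (P := LinearMap.range (TensorProduct.map A.subtype B.subtype)) (fun x hx y hy => ⟨(⟨x, hx⟩ : A) ⊗ₜ[k] (⟨y, hy⟩ : B),
        TensorProduct.map_tmul _ _ _ _⟩) hw

theorem finrank_box (A : Submodule k V) (B : Submodule k W) :
    Module.finrank k (box A B) = Module.finrank k A * Module.finrank k B := by
  rw [← (boxEquiv A B).finrank_eq, Module.finrank_tensorProduct]

instance finiteDimensional_box (A : Submodule k V) (B : Submodule k W) [FiniteDimensional k A]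
    [FiniteDimensional k B] : FiniteDimensional k (box A B) :=
  Module.Finite.equiv (boxEquiv A B)

end Groth.Agent.GrKunnethLib
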