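import Mathlib
import Groth.Agent.GrKunnethLib.Box

/-!
# Cochain complexes over a field as graded spaces with a differential; the Künneth theorem
-/

set_option autoImplicit false
set_option linter.unusedSectionVars false
universe u

open scoped TensorProduct

namespace Groth.Agent.GrKunnethLib

/-- A cochain complex in degrees `≥ 0`, as one space with degree projections. -/
structure Cx (k : Type u) [Field k] (V : Type u) [AddCommGroup V] [Module k V] where
  /-- the projections on the degrees -/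
  π : ℕ → V →ₗ[k] V
  /-- the differential -/
  d : V →ₗ[k] V
  /-- the sign of the degree -/
  σ : V →ₗ[k] V
  π_π : ∀ n m x, π n (π m x) = if n = m then π m x else 0
  span_range : ⨆ n, LinearMap.range (π n) = ⊤
  d_π : ∀ n x, π (n + 1) (d x) = d (π n x)
  π_zero_d : ∀ x, π 0 (d x) = 0
  σ_π : ∀ n x, σ (π n x) = (-1 : k) ^ n • π n x
  d_d : ∀ x, d (d x) = 0

variable {k : Type u} [Field k] {V W : Type u} [AddCommGroup V] [Module k V] [AddCommGroup W] [Module k W]

namespace Cx

variable (C : Cx k V)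

theorem induction_π {P : V → Prop} (h0 : P 0) (hadd : ∀ a b, P a → P b → P (a + b))
    (hπ : ∀ n x, P (C.π n x)) (x : V) : P x := by
  refine Submodule.iSup_induction _ (motive := P) (by rw [C.span_range]; trivial : x ∈ ⨆ n, LinearMap.range (C.π n)) ?_ h0 hadd
  rintro n _ ⟨y, rfl⟩
  exact hπ n y

theorem ext_π {X : Type u} [AddCommGroup X] [Module k X] {f g : V →ₗ[k] X}
    (h : ∀ n x, f (C.π n x) = g (C.π n x)) (x : V) : f x = g x := by
  induction x using C.induction_π with
  | h0 => rw [map_zero, map_zero]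
  | hadd a b ha hb => rw [map_add, map_add, ha, hb]
  | hπ n x => exact h n x

theorem π_self (n : ℕ) (x : V) : C.π n (C.π n x) = C.π n x := by rw [C.π_π, if_pos rfl]

theorem π_σ (n : ℕ) (x : V) : C.π n (C.σ x) = C.σ (C.π n x) := by
  refine C.ext_π (f := C.π n ∘ₗ C.σ) (g := C.σ ∘ₗ C.π n) (fun m y => ?_) x
  simp only [LinearMap.comp_apply, C.σ_π, map_smul, C.π_π]
  split_ifs with h
  · subst h; rw [C.σ_π]
  · rw [smul_zero, map_zero]

theorem σ_σ (x : V) : C.σ (C.σ x) = x := by
  refine C.ext_π (f := C.σ ∘ₗ C.σ) (g := LinearMap.id) (fun n y => ?_) x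
  simp only [LinearMap.comp_apply, LinearMap.id_apply, C.σ_π, map_smul, smul_smul, ← mul_pow]
  rw [show ((-1 : k) * -1) = 1 by ring, one_pow, one_smul]

theorem d_π_eq (n : ℕ) (x : V) : C.d (C.π n x) = C.π (n + 1) (C.d (C.π n x)) := by
  rw [← C.d_π, C.π_self]

theorem d_σ (x : V) : C.d (C.σ x) = - C.σ (C.d x) := by
  refine C.ext_π (f := C.d ∘ₗ C.σ) (g := -(C.σ ∘ₗ C.d)) (fun n y => ?_) x
  simp only [LinearMap.comp_apply, LinearMap.neg_apply, C.σ_π, map_smul]
  rw [← C.d_π n y, C.σ_π, pow_succ, mul_neg_one, neg_smul, neg_neg]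

/-- The cycles. -/
def Z : Submodule k V := LinearMap.ker C.d

/-- The boundaries. -/
def B : Submodule k V := LinearMap.range C.d

theorem mem_Z {x : V} : x ∈ C.Z ↔ C.d x = 0 := LinearMap.mem_ker

theorem B_le_Z : C.B ≤ C.Z := by rintro _ ⟨x, rfl⟩; exact C.d_d x

theorem π_mem_Z {x : V} (hx : x ∈ C.Z) (n : ℕ) : C.π n x ∈ C.Z := by
  rw [mem_Z] at hx ⊢
  rw [← C.d_π, hx, map_zero]

theorem σ_mem_Z {x : V} (hx : x ∈ C.Z) : C.σ x ∈ C.Z := by
  rw [mem_Z] at hx ⊢
  rw [C.d_σ, hx, map_zero, neg_zero]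

theorem π_mem_B {x : V} (hx : x ∈ C.B) (n : ℕ) : C.π n x ∈ C.B := by
  obtain ⟨y, rfl⟩ := hx
  cases n with
  | zero => rw [C.π_zero_d]; exact zero_mem _
  | succ m => exact ⟨C.π m y, (C.d_π m y).symm⟩

theorem π_ne {n m : ℕ} (h : n ≠ m) (x : V) : C.π n (C.π m x) = 0 := by rw [C.π_π, if_neg h]

/-- A degree part of the cohomology, inside `V ⧸ B`. -/
def Hgr (n : ℕ) : Submodule k (V ⧸ C.B) := (C.Z ⊓ LinearMap.range (C.π n)).map C.B.mkQ

/-- The degree projection of `V ⧸ B`. -/
noncomputable def πB (n : ℕ) : (V ⧸ C.B) →ₗ[k] V ⧸ C.B :=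
  C.B.mapQ C.B (C.π n) fun _ hx => C.π_mem_B hx n

theorem πB_of_mem {n m : ℕ} {z : V ⧸ C.B} (hz : z ∈ C.Hgr m) :
    C.πB n z = if n = m then z else 0 := by
  obtain ⟨x, ⟨-, y, rfl⟩, rfl⟩ := hz
  show C.B.mkQ (C.π n (C.π m y)) = _
  rw [C.π_π]
  split_ifs <;> simp

variable (C' : Cx k W)

/-- The differential of a tensor product. -/
noncomputable def tD : V ⊗[k] W →ₗ[k] V ⊗[k] W :=
  TensorProduct.map C.d LinearMap.id + TensorProduct.map C.σ C'.d

theorem tD_tmul (x : V) (y : W) : tD C C' (x ⊗ₜ[k] y) = C.d x ⊗ₜ[k] y + C.σ x ⊗ₜ[k] C'.d y := by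
  simp [tD]

theorem tD_tD (z : V ⊗[k] W) : tD C C' (tD C C' z) = 0 := by
  induction z using TensorProduct.induction_on with
  | zero => simp
  | tmul x y =>
    simp only [tD_tmul, map_add, C.d_d, C'.d_d, C.d_σ, TensorProduct.zero_tmul, TensorProduct.tmul_zero,
      TensorProduct.neg_tmul]
    abel
  | add a b ha hb => rw [map_add, map_add, ha, hb, add_zero]

/-- The degree projection of a tensor product. -/
noncomputable def tπ (n : ℕ) : V ⊗[k] W →ₗ[k] V ⊗[k] W :=
  ∑ p ∈ Finset.HasAntidiagonal.antidiagonal n, TensorProduct.map (C.π p.1) (C'.π p.2)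

theorem tπ_tmul_π (n i j : ℕ) (x : V) (y : W) :
    tπ C C' n (C.π i x ⊗ₜ[k] C'.π j y) =
      if n = i + j then C.π i x ⊗ₜ[k] C'.π j y else 0 := by
  simp only [tπ, LinearMap.sum_apply, TensorProduct.map_tmul]
  split_ifs with h
  · rw [Finset.sum_eq_single (i, j)]
    · rw [C.π_self, C'.π_self]
    · rintro ⟨a, b⟩ hab hne
      by_cases ha : a = i
      · subst ha
        have hb : b ≠ j := fun e => hne (by rw [e])
        rw [C'.π_ne hb, TensorProduct.tmul_zero]
      · rw [C.π_ne ha, TensorProduct.zero_tmul]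
    · intro hn
      exact absurd (Finset.HasAntidiagonal.mem_antidiagonal.2 h.symm) hn
  · refine Finset.sum_eq_zero ?_
    rintro ⟨a, b⟩ hab
    rw [Finset.HasAntidiagonal.mem_antidiagonal] at hab
    by_cases ha : a = i
    · have hb : b ≠ j := by rintro rfl; exact h (by rw [← hab, ha])
      rw [C'.π_ne hb, TensorProduct.tmul_zero]
    · rw [C.π_ne ha, TensorProduct.zero_tmul]

theorem tensor_induction {P : V ⊗[k] W → Prop} (h0 : P 0) (hadd : ∀ a b, P a → P b → P (a + b))
    (hπ : ∀ i j x y, P (C.π i x ⊗ₜ[k] C'.π j y)) (z : V ⊗[k] W) : P z := by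
  induction z using TensorProduct.induction_on with
  | zero => exact h0
  | tmul x y =>
    induction x using C.induction_π with
    | h0 => rw [TensorProduct.zero_tmul]; exact h0
    | hadd a b ha hb => rw [TensorProduct.add_tmul]; exact hadd _ _ ha hb
    | hπ i x =>
      induction y using C'.induction_π with
      | h0 => rw [TensorProduct.tmul_zero]; exact h0
      | hadd a b ha hb => rw [TensorProduct.tmul_add]; exact hadd _ _ ha hb
      | hπ j y => exact hπ i j x y
  | add a b ha hb => exact hadd _ _ ha hb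

/-- The tensor product of two complexes. -/
noncomputable def tensor : Cx k (V ⊗[k] W) where
  π := tπ C C'
  d := tD C C'
  σ := TensorProduct.map C.σ C'.σ
  π_π n m z := by
    induction z using tensor_induction C C' with
    | h0 => simp
    | hadd a b ha hb => simp only [map_add, ha, hb]; split_ifs <;> simp
    | hπ i j x y =>
      by_cases h : m = i + j
      · subst h
        simp only [tπ_tmul_π, if_true]
      · simp only [tπ_tmul_π, if_neg h, map_zero]
        split_ifs <;> rfl
  span_range := by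
    refine eq_top_iff.2 fun z hz => ?_
    clear hz
    induction z using tensor_induction C C' with
    | h0 => exact zero_mem _
    | hadd a b ha hb => exact add_mem ha hb
    | hπ i j x y =>
      exact Submodule.mem_iSup_of_mem (i + j) ⟨C.π i x ⊗ₜ[k] C'.π j y, by rw [tπ_tmul_π, if_pos rfl]⟩
  d_π n z := by
    induction z using tensor_induction C C' with
    | h0 => simp
    | hadd a b ha hb => simp only [map_add, ha, hb]
    | hπ i j x y =>
      have h1 : C.d (C.π i x) = C.π (i + 1) (C.d x) := (C.d_π i x).symm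
      have h2 : C'.d (C'.π j y) = C'.π (j + 1) (C'.d y) := (C'.d_π j y).symm
      rw [tπ_tmul_π, tD_tmul, map_add, h1, h2, C.σ_π, ← TensorProduct.smul_tmul', map_smul,
        tπ_tmul_π, tπ_tmul_π]
      by_cases h : n = i + j
      · subst h
        rw [if_pos (by omega), if_pos (by omega), if_pos rfl, tD_tmul, h1, h2, C.σ_π,
          ← TensorProduct.smul_tmul']
      · rw [if_neg (by omega), if_neg (by omega), if_neg h, map_zero, smul_zero, add_zero]
  π_zero_d z := by
    induction z using tensor_induction C C' with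
    | h0 => simp
    | hadd a b ha hb => simp only [map_add, ha, hb, add_zero]
    | hπ i j x y =>
      have h1 : C.d (C.π i x) = C.π (i + 1) (C.d x) := (C.d_π i x).symm
      have h2 : C'.d (C'.π j y) = C'.π (j + 1) (C'.d y) := (C'.d_π j y).symm
      rw [tD_tmul, map_add, h1, h2, C.σ_π, ← TensorProduct.smul_tmul', map_smul,
        tπ_tmul_π, tπ_tmul_π, if_neg (by omega), if_neg (by omega), smul_zero, add_zero]
  σ_π n z := by
    induction z using tensor_induction C C' with
    | h0 => simp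
    | hadd a b ha hb => simp only [map_add, ha, hb, smul_add]
    | hπ i j x y =>
      rw [tπ_tmul_π]
      split_ifs with h
      · rw [TensorProduct.map_tmul, C.σ_π, C'.σ_π, TensorProduct.smul_tmul_smul, ← pow_add, h]
      · rw [map_zero, smul_zero]
  d_d := tD_tD C C'

/-- A complex over a field has a partial inverse of its differential. -/
theorem exists_quasi_inverse :
    ∃ u : V →ₗ[k] V, ∀ x, C.d (u (C.d x)) = C.d x := by
  obtain ⟨g, hg⟩ := C.d.rangeRestrict.exists_rightInverse_of_surjective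
    (LinearMap.range_rangeRestrict C.d)
  obtain ⟨e, he⟩ := LinearMap.exists_extend (p := LinearMap.range C.d) g
  refine ⟨e, fun x => ?_⟩
  have h1 : e (C.d x) = g ⟨C.d x, ⟨x, rfl⟩⟩ := LinearMap.congr_fun he ⟨C.d x, ⟨x, rfl⟩⟩
  rw [h1]
  exact congrArg Subtype.val (LinearMap.congr_fun hg ⟨C.d x, ⟨x, rfl⟩⟩)

/-- The kernel of `d ⊗ 1`. -/
theorem mem_box_Z_top {z : V ⊗[k] W}
    (hz : TensorProduct.map C.d (LinearMap.id : W →ₗ[k] W) z = 0) : z ∈ box C.Z ⊤ := by
  obtain ⟨u, hu⟩ := C.exists_quasi_inverse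
  have key : ∀ w : V ⊗[k] W, TensorProduct.map (LinearMap.id - u ∘ₗ C.d) (LinearMap.id : W →ₗ[k] W) w =
      w - TensorProduct.map u LinearMap.id (TensorProduct.map C.d LinearMap.id w) := fun w => by
    induction w using TensorProduct.induction_on with
    | zero => simp
    | tmul x y => simp [TensorProduct.sub_tmul]
    | add a b ha hb => simp only [map_add, ha, hb]; abel
  have h := key z
  rw [hz, map_zero, sub_zero] at h
  rw [← h]
  exact map_mem_box _ _ (fun x => by simp [mem_Z, hu]) (fun _ => Submodule.mem_top) z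

/-- The kernel of `1 ⊗ d`. -/
theorem mem_box_top_Z {z : V ⊗[k] W}
    (hz : TensorProduct.map (LinearMap.id : V →ₗ[k] V) C'.d z = 0) : z ∈ box ⊤ C'.Z := by
  obtain ⟨u, hu⟩ := C'.exists_quasi_inverse
  have key : ∀ w : V ⊗[k] W, TensorProduct.map (LinearMap.id : V →ₗ[k] V) (LinearMap.id - u ∘ₗ C'.d) w =
      w - TensorProduct.map LinearMap.id u (TensorProduct.map LinearMap.id C'.d w) := fun w => by
    induction w using TensorProduct.induction_on with
    | zero => simp
    | tmul x y => simp [TensorProduct.tmul_sub]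
    | add a b ha hb => simp only [map_add, ha, hb]; abel
  have h := key z
  rw [hz, map_zero, sub_zero] at h
  rw [← h]
  exact map_mem_box _ _ (fun _ => Submodule.mem_top) (fun x => by simp [mem_Z, hu]) z

/-- The kernel of `d ⊗ d`. -/
theorem mem_box_sup {z : V ⊗[k] W} (hz : TensorProduct.map C.d C'.d z = 0) :
    z ∈ box C.Z ⊤ ⊔ box ⊤ C'.Z := by
  obtain ⟨u, hu⟩ := C.exists_quasi_inverse
  obtain ⟨u', hu'⟩ := C'.exists_quasi_inverse
  have key : ∀ w : V ⊗[k] W, w = TensorProduct.map (LinearMap.id - u ∘ₗ C.d) LinearMap.id w +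
      TensorProduct.map (u ∘ₗ C.d) (LinearMap.id - u' ∘ₗ C'.d) w +
      TensorProduct.map u u' (TensorProduct.map C.d C'.d w) := fun w => by
    induction w using TensorProduct.induction_on with
    | zero => simp
    | tmul x y => simp [TensorProduct.sub_tmul, TensorProduct.tmul_sub]
    | add a b ha hb =>
      conv_lhs => rw [ha, hb]
      simp only [map_add]
      abel
  rw [key z, hz, map_zero, add_zero]
  exact add_mem (Submodule.mem_sup_left (map_mem_box _ _ (fun x => by simp [mem_Z, hu]) (fun _ => Submodule.mem_top) z))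
    (Submodule.mem_sup_right (map_mem_box _ _ (fun _ => Submodule.mem_top) (fun x => by simp [mem_Z, hu']) z))

theorem tmul_mem_Z {x : V} {y : W} (hx : x ∈ C.Z) (hy : y ∈ C'.Z) :
    x ⊗ₜ[k] y ∈ (tensor C C').Z := by
  rw [mem_Z] at hx hy ⊢
  show tD C C' _ = 0
  rw [tD_tmul, hx, hy, TensorProduct.zero_tmul, TensorProduct.tmul_zero, add_zero]

theorem box_Z_le : box C.Z C'.Z ≤ (tensor C C').Z := box_le fun _ hx _ hy => tmul_mem_Z C C' hx hy

/-- Every cycle is a product of cycles up to a boundary. -/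
theorem exists_cycle_decomp {z : V ⊗[k] W} (hz : z ∈ (tensor C C').Z) :
    ∃ c ∈ box C.Z C'.Z, ∃ w, z = c + tD C C' w := by
  replace hz : tD C C' z = 0 := hz
  have hsq : ∀ w : V ⊗[k] W, TensorProduct.map C.σ LinearMap.id
      (TensorProduct.map C.σ (LinearMap.id : W →ₗ[k] W) w) = w := fun w => by
    induction w using TensorProduct.induction_on with
    | zero => simp
    | tmul x y => simp [C.σ_σ]
    | add a b ha hb => simp only [map_add, ha, hb]
  set v := TensorProduct.map C.d (LinearMap.id : W →ₗ[k] W) z with hv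
  have hv1 : v ∈ box C.B ⊤ := map_mem_box (A := C.B) (B := ⊤) _ _ (fun x => ⟨x, rfl⟩) (fun _ => Submodule.mem_top) z
  have hv2 : v ∈ box ⊤ C'.B := by
    have h : v = - TensorProduct.map C.σ C'.d z := eq_neg_of_add_eq_zero_left hz
    rw [h]
    exact neg_mem (map_mem_box (A := ⊤) (B := C'.B) _ _ (fun _ => Submodule.mem_top) (fun x => ⟨x, rfl⟩) z)
  obtain ⟨e, he⟩ : ∃ e, TensorProduct.map C.d C'.d e = v := by
    have h : box C.B C'.B ≤ LinearMap.range (TensorProduct.map C.d C'.d) := by
      refine box_le ?_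
      rintro _ ⟨x, rfl⟩ _ ⟨y, rfl⟩
      exact ⟨x ⊗ₜ[k] y, TensorProduct.map_tmul _ _ _ _⟩
    exact h (by rw [← box_inf]; exact ⟨hv1, hv2⟩)
  set e' := TensorProduct.map C.σ (LinearMap.id : W →ₗ[k] W) e with he'
  have hD : ∀ f, TensorProduct.map C.d (LinearMap.id : W →ₗ[k] W)
      (tD C C' (TensorProduct.map C.σ LinearMap.id f)) = TensorProduct.map C.d C'.d f := fun f => by
    induction f using TensorProduct.induction_on with
    | zero => simp
    | tmul x y => simp [tD_tmul, C.d_d, C.σ_σ]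
    | add a b ha hb => simp only [map_add, ha, hb]
  refine ⟨z - tD C C' e', ?_, e', by abel⟩
  have h1 : TensorProduct.map C.d (LinearMap.id : W →ₗ[k] W) (z - tD C C' e') = 0 := by
    rw [map_sub, he', hD, he, ← hv, sub_self]
  have h2 : TensorProduct.map C.σ C'.d (z - tD C C' e') = 0 := by
    have h : tD C C' (z - tD C C' e') = 0 := by rw [map_sub, hz, tD_tD, sub_zero]
    replace h : TensorProduct.map C.d (LinearMap.id : W →ₗ[k] W) (z - tD C C' e') +
        TensorProduct.map C.σ C'.d (z - tD C C' e') = 0 := h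
    rwa [h1, zero_add] at h
  have h3 : TensorProduct.map (LinearMap.id : V →ₗ[k] V) C'.d (z - tD C C' e') = 0 := by
    have h := congrArg (TensorProduct.map C.σ (LinearMap.id : W →ₗ[k] W)) h2
    rw [map_zero, ← LinearMap.comp_apply, ← TensorProduct.map_comp, LinearMap.id_comp,
      show C.σ ∘ₗ C.σ = LinearMap.id from LinearMap.ext C.σ_σ] at h
    exact h
  rw [← box_inf]
  exact ⟨C.mem_box_Z_top h1, C'.mem_box_top_Z h3⟩

/-- A product of cycles which is a boundary is made of boundaries. -/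
theorem mem_boundary_box {z : V ⊗[k] W} (hz : z ∈ box C.Z C'.Z) {w : V ⊗[k] W}
    (hw : tD C C' w = z) : z ∈ box C.B C'.Z ⊔ box C.Z C'.B := by
  have h0 : TensorProduct.map C.d C'.d w = 0 := by
    have h1 : TensorProduct.map (LinearMap.id : V →ₗ[k] V) C'.d z = 0 := by
      have hle : box C.Z C'.Z ≤ LinearMap.ker (TensorProduct.map (LinearMap.id : V →ₗ[k] V) C'.d) :=
        box_le fun x _ y hy => by
          rw [LinearMap.mem_ker, TensorProduct.map_tmul, C'.mem_Z.1 hy, TensorProduct.tmul_zero]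
      exact hle hz
    have key : ∀ f : V ⊗[k] W, TensorProduct.map (LinearMap.id : V →ₗ[k] V) C'.d (tD C C' f) =
        TensorProduct.map C.d C'.d f := fun f => by
      induction f using TensorProduct.induction_on with
      | zero => simp
      | tmul x y => simp [tD_tmul, C'.d_d]
      | add a b ha hb => simp only [map_add, ha, hb]
    rw [← key, hw, h1]
  obtain ⟨w1, hw1, w2, hw2, rfl⟩ := Submodule.mem_sup.1 (mem_box_sup C C' h0)
  rw [map_add] at hw
  have e1 : ∀ a ∈ box C.Z (⊤ : Submodule k W), tD C C' a ∈ box C.Z C'.B := by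
    refine fun a ha => (box_le (P := (box C.Z C'.B).comap (tD C C')) fun x hx y _ => ?_) ha
    rw [Submodule.mem_comap, tD_tmul, C.mem_Z.1 hx, TensorProduct.zero_tmul, zero_add]
    exact tmul_mem_box (C.σ_mem_Z hx) ⟨y, rfl⟩
  have e2 : ∀ a ∈ box (⊤ : Submodule k V) C'.Z, tD C C' a ∈ box C.B C'.Z := by
    refine fun a ha => (box_le (P := (box C.B C'.Z).comap (tD C C')) fun x _ y hy => ?_) ha
    rw [Submodule.mem_comap, tD_tmul, C'.mem_Z.1 hy, TensorProduct.tmul_zero, add_zero]
    exact tmul_mem_box ⟨x, rfl⟩ hy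
  rw [← hw]
  exact add_mem (Submodule.mem_sup_right (e1 w1 hw1)) (Submodule.mem_sup_left (e2 w2 hw2))

/-- Products with a boundary factor are boundaries. -/
theorem boundary_box_le : box C.B C'.Z ⊔ box C.Z C'.B ≤ (tensor C C').B := by
  refine sup_le (box_le ?_) (box_le ?_)
  · rintro _ ⟨x, rfl⟩ y hy
    refine ⟨x ⊗ₜ[k] y, ?_⟩
    show tD C C' _ = _
    rw [tD_tmul, C'.mem_Z.1 hy, TensorProduct.tmul_zero, add_zero]
  · rintro x hx _ ⟨y, rfl⟩
    refine ⟨C.σ x ⊗ₜ[k] y, ?_⟩
    show tD C C' _ = _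
    rw [tD_tmul, C.σ_σ, C.mem_Z.1 (C.σ_mem_Z hx), TensorProduct.zero_tmul, zero_add]

/-- A product of cycles is a boundary iff it dies in `V ⧸ B ⊗ W ⧸ B`. -/
theorem mem_B_iff {z : V ⊗[k] W} (hz : z ∈ box C.Z C'.Z) :
    z ∈ (tensor C C').B ↔ TensorProduct.map C.B.mkQ C'.B.mkQ z = 0 := by
  rw [← LinearMap.mem_ker, ker_map_mkQ]
  constructor
  · rintro ⟨w, hw⟩
    exact (sup_le_sup (box_mono le_rfl le_top) (box_mono le_top le_rfl) :
      box C.B C'.Z ⊔ box C.Z C'.B ≤ box C.B ⊤ ⊔ box ⊤ C'.B) (mem_boundary_box C C' hz hw)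
  · intro h
    obtain ⟨p, hp, hp'⟩ := exists_proj C.Z
    obtain ⟨q, hq, hq'⟩ := exists_proj C'.Z
    refine boundary_box_le C C' ?_
    rw [← map_eq_self_of_mem_box hp' hq' hz]
    have hle : box C.B ⊤ ⊔ box ⊤ C'.B ≤
        (box C.B C'.Z ⊔ box C.Z C'.B).comap (TensorProduct.map p q) := by
      refine sup_le (box_le fun x hx y _ => ?_) (box_le fun x _ y hy => ?_)
      · rw [Submodule.mem_comap, TensorProduct.map_tmul, hp' x (C.B_le_Z hx)]
        exact Submodule.mem_sup_left (tmul_mem_box hx (hq y))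
      · rw [Submodule.mem_comap, TensorProduct.map_tmul, hq' y (C'.B_le_Z hy)]
        exact Submodule.mem_sup_right (tmul_mem_box (hp x) hy)
    exact hle h

theorem tπ_mem_box {z : V ⊗[k] W} (hz : z ∈ box C.Z C'.Z) (n : ℕ) :
    tπ C C' n z ∈ box C.Z C'.Z := by
  refine (box_le (P := (box C.Z C'.Z).comap (tπ C C' n)) fun x hx y hy => ?_) hz
  simp only [Submodule.mem_comap, tπ, LinearMap.sum_apply, TensorProduct.map_tmul]
  exact Submodule.sum_mem _ fun p _ => tmul_mem_box (C.π_mem_Z hx _) (C'.π_mem_Z hy _)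

end Cx

end Groth.Agent.GrKunnethLib
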