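import Mathlib
import Groth.Agent.GrKunnethLib.Cx

/-!
# Dimensions in the Künneth theorem and the sequence of a product of quotient complexes
-/

set_option autoImplicit false
set_option linter.unusedSectionVars false
universe u

open scoped TensorProduct

namespace Groth.Agent.GrKunnethLib.Cx

variable {k : Type u} [Field k] {V W : Type u} [AddCommGroup V] [Module k V] [AddCommGroup W] [Module k W]
  (C : Cx k V) (C' : Cx k W)

theorem exists_sum_π (x : V) : ∃ s : Finset ℕ, ∀ t : Finset ℕ, s ⊆ t → ∑ n ∈ t, C.π n x = x := by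
  classical
  induction x using C.induction_π with
  | h0 => exact ⟨∅, fun t _ => by simp⟩
  | hadd a b ha hb =>
    obtain ⟨s, hs⟩ := ha
    obtain ⟨t, ht⟩ := hb
    refine ⟨s ∪ t, fun r hr => ?_⟩
    simp only [map_add, Finset.sum_add_distrib]
    rw [hs r (Finset.union_subset_left hr), ht r (Finset.union_subset_right hr)]
  | hπ n x =>
    refine ⟨{n}, fun t ht => ?_⟩
    rw [Finset.sum_eq_single n (fun m _ hm => C.π_ne hm x) (fun h => absurd (ht (Finset.mem_singleton_self n)) h),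
      C.π_self]

theorem mem_range_π {n : ℕ} {x : V} : x ∈ LinearMap.range (C.π n) ↔ C.π n x = x :=
  ⟨by rintro ⟨y, rfl⟩; exact C.π_self n y, fun h => ⟨x, h⟩⟩

/-- A subspace stable under projections and differential. -/
structure Stable (A : Submodule k V) : Prop where
  π_mem : ∀ n, ∀ x ∈ A, C.π n x ∈ A
  d_mem : ∀ x ∈ A, C.d x ∈ A

variable {C C'}

theorem Stable.σ_mem {A : Submodule k V} (h : C.Stable A) {x : V} (hx : x ∈ A) : C.σ x ∈ A := by
  obtain ⟨s, hs⟩ := C.exists_sum_π x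
  rw [← hs s subset_rfl, map_sum]
  exact Submodule.sum_mem _ fun n _ => by rw [C.σ_π]; exact A.smul_mem _ (h.π_mem n x hx)

/-- The quotient complex. -/
noncomputable def quot (C : Cx k V) (A : Submodule k V) (h : C.Stable A) : Cx k (V ⧸ A) where
  π n := A.mapQ A (C.π n) (h.π_mem n)
  d := A.mapQ A C.d h.d_mem
  σ := A.mapQ A C.σ fun _ => h.σ_mem
  π_π n m := by
    rintro ⟨x⟩
    show A.mkQ (C.π n (C.π m x)) = if n = m then A.mkQ (C.π m x) else 0
    rw [C.π_π]
    split_ifs <;> simp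
  span_range := by
    refine eq_top_iff.2 fun z hz => ?_
    clear hz
    obtain ⟨x, rfl⟩ := A.mkQ_surjective z
    induction x using C.induction_π with
    | h0 => rw [map_zero]; exact zero_mem _
    | hadd a b ha hb => rw [map_add]; exact add_mem ha hb
    | hπ n x => exact Submodule.mem_iSup_of_mem n ⟨A.mkQ x, rfl⟩
  d_π n := by
    rintro ⟨x⟩
    exact congrArg A.mkQ (C.d_π n x)
  π_zero_d := by
    rintro ⟨x⟩
    exact (congrArg A.mkQ (C.π_zero_d x)).trans (map_zero _)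
  σ_π n := by
    rintro ⟨x⟩
    exact congrArg A.mkQ (C.σ_π n x)
  d_d := by
    rintro ⟨x⟩
    exact (congrArg A.mkQ (C.d_d x)).trans (map_zero _)

theorem quot_π_mkQ {A : Submodule k V} (h : C.Stable A) (n : ℕ) (x : V) :
    (C.quot A h).π n (A.mkQ x) = A.mkQ (C.π n x) := rfl

theorem quot_d_mkQ {A : Submodule k V} (h : C.Stable A) (x : V) :
    (C.quot A h).d (A.mkQ x) = A.mkQ (C.d x) := rfl

theorem quot_σ_mkQ {A : Submodule k V} (h : C.Stable A) (x : V) :
    (C.quot A h).σ (A.mkQ x) = A.mkQ (C.σ x) := rfl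

variable (C C')

theorem tπ_decomp (n : ℕ) (z : V ⊗[k] W) :
    tπ C C' n z = ∑ p ∈ Finset.HasAntidiagonal.antidiagonal n, TensorProduct.map (C.π p.1) (C'.π p.2) z := by
  simp [tπ, LinearMap.sum_apply]

/-- The image of a degree of the cycles in the tensor product of the cohomologies. -/
def HHgr (n : ℕ) : Submodule k ((V ⧸ C.B) ⊗[k] (W ⧸ C'.B)) :=
  ⨆ p ∈ Finset.HasAntidiagonal.antidiagonal n, box (C.Hgr p.1) (C'.Hgr p.2)

/-- The products of cycles of a total degree. -/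
noncomputable def Lgr (n : ℕ) : Submodule k (V ⊗[k] W) :=
  box C.Z C'.Z ⊓ LinearMap.range (tπ C C' n)

theorem map_Lgr (n : ℕ) :
    (Lgr C C' n).map (TensorProduct.map C.B.mkQ C'.B.mkQ) = HHgr C C' n := by
  refine le_antisymm ?_ ?_
  · rintro _ ⟨z, ⟨hz1, hz2⟩, rfl⟩
    have hzn : tπ C C' n z = z := (tensor C C').mem_range_π.1 hz2
    rw [← hzn, tπ_decomp, map_sum]
    refine Submodule.sum_mem _ fun p hp => ?_
    refine Submodule.mem_iSup_of_mem p (Submodule.mem_iSup_of_mem hp ?_)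
    have hle : box C.Z C'.Z ≤ (box (C.Hgr p.1) (C'.Hgr p.2)).comap
        (TensorProduct.map C.B.mkQ C'.B.mkQ ∘ₗ TensorProduct.map (C.π p.1) (C'.π p.2)) := by
      refine box_le fun x hx y hy => ?_
      rw [Submodule.mem_comap, LinearMap.comp_apply, TensorProduct.map_tmul, TensorProduct.map_tmul]
      exact tmul_mem_box ⟨_, ⟨C.π_mem_Z hx _, x, rfl⟩, rfl⟩ ⟨_, ⟨C'.π_mem_Z hy _, y, rfl⟩, rfl⟩
    exact hle hz1
  · refine iSup₂_le fun p hp => box_le ?_
    rintro _ ⟨x, ⟨hx, x', rfl⟩, rfl⟩ _ ⟨y, ⟨hy, y', rfl⟩, rfl⟩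
    refine ⟨C.π p.1 x' ⊗ₜ[k] C'.π p.2 y', ⟨tmul_mem_box hx hy, ?_⟩, TensorProduct.map_tmul _ _ _ _⟩
    refine ⟨C.π p.1 x' ⊗ₜ[k] C'.π p.2 y', ?_⟩
    rw [tπ_tmul_π, if_pos (Finset.HasAntidiagonal.mem_antidiagonal.1 hp).symm]

theorem Lgr_le_cycles (n : ℕ) :
    Lgr C C' n ≤ (tensor C C').Z ⊓ LinearMap.range ((tensor C C').π n) :=
  fun _ hz => ⟨box_Z_le C C' hz.1, hz.2⟩

/-- Two surjections with the same kernel. -/
theorem exists_equiv_of_common {L X Y : Type u} [AddCommGroup L] [Module k L] [AddCommGroup X]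
    [Module k X] [AddCommGroup Y] [Module k Y] (f : L →ₗ[k] X) (g : L →ₗ[k] Y)
    (hf : Function.Surjective f) (hg : Function.Surjective g) (h : ∀ c, f c = 0 ↔ g c = 0) :
    ∃ e : X ≃ₗ[k] Y, ∀ c, e (f c) = g c := by
  have hk : LinearMap.ker f = LinearMap.ker g := by
    ext c
    simp only [LinearMap.mem_ker]
    exact h c
  refine ⟨(f.quotKerEquivOfSurjective hf).symm ≪≫ₗ Submodule.quotEquivOfEq _ _ hk ≪≫ₗ
    g.quotKerEquivOfSurjective hg, fun c => ?_⟩
  simp only [LinearEquiv.trans_apply]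
  rw [show (f.quotKerEquivOfSurjective hf).symm (f c) = Submodule.Quotient.mk c from
    (LinearEquiv.symm_apply_eq _).2 rfl]
  rfl

/-- The dimension of a finite sum of subspaces separated by projections. -/
theorem finrank_iSup_of_proj {X : Type u} [AddCommGroup X] [Module k X] {ι : Type} [DecidableEq ι]
    (s : Finset ι) (P : ι → Submodule k X) (p : ι → X →ₗ[k] X)
    (hp : ∀ i ∈ s, ∀ j ∈ s, ∀ y ∈ P j, p i y = if i = j then y else 0)
    (hfin : ∀ i ∈ s, FiniteDimensional k (P i)) :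
    FiniteDimensional k (⨆ i ∈ s, P i : Submodule k X) ∧
      Module.finrank k (⨆ i ∈ s, P i : Submodule k X) = ∑ i ∈ s, Module.finrank k (P i) := by
  induction s using Finset.induction_on with
  | empty =>
    have h0 : (⨆ i ∈ (∅ : Finset ι), P i : Submodule k X) = ⊥ := by simp
    rw [h0, Finset.sum_empty, finrank_bot]
    exact ⟨inferInstance, rfl⟩
  | insert a s ha ih =>
    obtain ⟨h1, h2⟩ := ih (fun i hi j hj => hp i (Finset.mem_insert_of_mem hi) j (Finset.mem_insert_of_mem hj))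
      (fun i hi => hfin i (Finset.mem_insert_of_mem hi))
    haveI := h1
    haveI := hfin a (Finset.mem_insert_self a s)
    rw [Finset.iSup_insert, Finset.sum_insert ha, ← h2]
    refine ⟨inferInstance, ?_⟩
    have hdis : P a ⊓ (⨆ i ∈ s, P i) = ⊥ := by
      rw [eq_bot_iff]
      rintro y ⟨hy, hy'⟩
      have hk : (⨆ i ∈ s, P i) ≤ LinearMap.ker (p a) := iSup₂_le fun j hj z hz => by
        rw [LinearMap.mem_ker, hp a (Finset.mem_insert_self a s) j (Finset.mem_insert_of_mem hj) z hz,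
          if_neg (fun e => ha (by rw [e]; exact hj))]
      have h0 := LinearMap.mem_ker.1 (hk hy')
      rw [hp a (Finset.mem_insert_self a s) a (Finset.mem_insert_self a s) y hy, if_pos rfl] at h0
      exact (Submodule.mem_bot k).2 h0
    have h := Submodule.finrank_sup_add_finrank_inf_eq (P a) (⨆ i ∈ s, P i)
    rw [hdis, finrank_bot, add_zero] at h
    exact h

/-- Every class of degree `n` comes from a product of cycles of degree `n`. -/
theorem exists_Lgr_class {n : ℕ} {z : V ⊗[k] W} (hz : z ∈ (tensor C C').Z)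
    (hzn : z ∈ LinearMap.range ((tensor C C').π n)) :
    ∃ c ∈ Lgr C C' n, z - c ∈ (tensor C C').B := by
  obtain ⟨c, hc, w, rfl⟩ := exists_cycle_decomp C C' hz
  refine ⟨tπ C C' n c, ⟨tπ_mem_box C C' hc n, c, rfl⟩, ?_⟩
  have h := (tensor C C').mem_range_π.1 hzn
  change tπ C C' n (c + tD C C' w) = c + tD C C' w at h
  rw [← h, map_add, add_sub_cancel_left]
  exact (tensor C C').π_mem_B ⟨w, rfl⟩ n

/-- The Künneth isomorphism in degree `n`. -/
theorem exists_kunneth (n : ℕ) :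
    ∃ e : (tensor C C').Hgr n ≃ₗ[k] HHgr C C' n, ∀ (x : (tensor C C').Hgr n) (c : V ⊗[k] W),
      c ∈ Lgr C C' n → (x : (V ⊗[k] W) ⧸ (tensor C C').B) = (tensor C C').B.mkQ c →
        (e x : (V ⧸ C.B) ⊗[k] (W ⧸ C'.B)) = TensorProduct.map C.B.mkQ C'.B.mkQ c := by
  let f : Lgr C C' n →ₗ[k] (tensor C C').Hgr n :=
    ((tensor C C').B.mkQ ∘ₗ (Lgr C C' n).subtype).codRestrict _ fun c =>
      Submodule.mem_map_of_mem (Lgr_le_cycles C C' n c.2)
  let g : Lgr C C' n →ₗ[k] HHgr C C' n :=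
    (TensorProduct.map C.B.mkQ C'.B.mkQ ∘ₗ (Lgr C C' n).subtype).codRestrict _ fun c =>
      (map_Lgr C C' n).le ⟨c, c.2, rfl⟩
  have hf : Function.Surjective f := by
    rintro ⟨_, z, ⟨hz, hzn⟩, rfl⟩
    obtain ⟨c, hc, hcz⟩ := exists_Lgr_class C C' hz hzn
    exact ⟨⟨c, hc⟩, Subtype.ext ((Submodule.Quotient.eq _).2 hcz).symm⟩
  have hg : Function.Surjective g := by
    rintro ⟨y, hy⟩
    obtain ⟨c, hc, rfl⟩ := (map_Lgr C C' n).ge hy
    exact ⟨⟨c, hc⟩, rfl⟩
  have hker : ∀ c, f c = 0 ↔ g c = 0 := by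
    rintro ⟨c, hc⟩
    constructor
    · intro h
      exact Subtype.ext ((mem_B_iff C C' hc.1).1 ((Submodule.Quotient.mk_eq_zero _).1 (congrArg Subtype.val h)))
    · intro h
      exact Subtype.ext ((Submodule.Quotient.mk_eq_zero _).2 ((mem_B_iff C C' hc.1).2 (congrArg Subtype.val h)))
  obtain ⟨e, he⟩ := @exists_equiv_of_common k _ (Lgr C C' n) ((tensor C C').Hgr n) (HHgr C C' n) _ _ _ _ _ _ f g hf hg hker
  refine ⟨e, fun x c hc hx => ?_⟩
  rw [show x = f ⟨c, hc⟩ from Subtype.ext hx, he]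
  rfl

/-- The dimension of a degree of the tensor product of the cohomologies. -/
theorem finrank_HHgr (n : ℕ)
    (hC : ∀ i, i ≤ n → FiniteDimensional k (C.Hgr i)) (hC' : ∀ i, i ≤ n → FiniteDimensional k (C'.Hgr i)) :
    FiniteDimensional k (HHgr C C' n) ∧ Module.finrank k (HHgr C C' n) =
      ∑ p ∈ Finset.HasAntidiagonal.antidiagonal n,
        Module.finrank k (C.Hgr p.1) * Module.finrank k (C'.Hgr p.2) := by
  obtain ⟨h1, h2⟩ := finrank_iSup_of_proj (k := k) (Finset.HasAntidiagonal.antidiagonal n)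
    (fun p => box (C.Hgr p.1) (C'.Hgr p.2)) (fun p => TensorProduct.map (C.πB p.1) (C'.πB p.2))
    (fun p hp q hq y hy => by
      rw [Finset.HasAntidiagonal.mem_antidiagonal] at hp hq
      by_cases h : p = q
      · subst h
        rw [if_pos rfl]
        refine (box_le (P := LinearMap.eqLocus (TensorProduct.map (C.πB p.1) (C'.πB p.2)) LinearMap.id)
          fun a ha b hb => ?_) hy
        show TensorProduct.map _ _ (a ⊗ₜ[k] b) = a ⊗ₜ[k] b
        rw [TensorProduct.map_tmul, C.πB_of_mem ha, C'.πB_of_mem hb, if_pos rfl, if_pos rfl]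
      · rw [if_neg h]
        refine LinearMap.mem_ker.1 ((box_le (P := LinearMap.ker (TensorProduct.map (C.πB p.1) (C'.πB p.2)))
          fun a ha b hb => ?_) hy)
        rw [LinearMap.mem_ker, TensorProduct.map_tmul, C.πB_of_mem ha,
          if_neg (fun e => h (Prod.ext e (by omega))), TensorProduct.zero_tmul])
    (fun p hp => by
      rw [Finset.HasAntidiagonal.mem_antidiagonal] at hp
      haveI := hC p.1 (by omega)
      haveI := hC' p.2 (by omega)
      infer_instance)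
  refine ⟨h1, h2.trans (Finset.sum_congr rfl fun p _ => ?_)⟩
  exact finrank_box _ _

theorem finrank_Hgr_tensor (n : ℕ)
    (hC : ∀ i, i ≤ n → FiniteDimensional k (C.Hgr i)) (hC' : ∀ i, i ≤ n → FiniteDimensional k (C'.Hgr i)) :
    FiniteDimensional k ((tensor C C').Hgr n) ∧ Module.finrank k ((tensor C C').Hgr n) =
      ∑ p ∈ Finset.HasAntidiagonal.antidiagonal n,
        Module.finrank k (C.Hgr p.1) * Module.finrank k (C'.Hgr p.2) := by
  obtain ⟨e, -⟩ := exists_kunneth C C' n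
  obtain ⟨hfin, hrk⟩ := finrank_HHgr C C' n hC hC'
  exact ⟨Module.Finite.equiv e.symm, e.finrank_eq.trans hrk⟩

variable {C C'} {A : Submodule k V} {A' : Submodule k W} (hA : C.Stable A) (hA' : C'.Stable A')

/-- The kernel onto the product of quotients. -/
noncomputable def Kq (A : Submodule k V) (A' : Submodule k W) : Submodule k (V ⊗[k] W) :=
  LinearMap.ker (TensorProduct.map A.mkQ A'.mkQ)

include hA hA' in
theorem qq_tD (z : V ⊗[k] W) : TensorProduct.map A.mkQ A'.mkQ (tD C C' z) =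
    tD (C.quot A hA) (C'.quot A' hA') (TensorProduct.map A.mkQ A'.mkQ z) := by
  induction z using TensorProduct.induction_on with
  | zero => simp
  | tmul x y =>
    rw [tD_tmul, map_add, TensorProduct.map_tmul, TensorProduct.map_tmul, TensorProduct.map_tmul, tD_tmul]
    rfl
  | add a b ha hb => simp only [map_add, ha, hb]

include hA hA' in
theorem qq_tπ (n : ℕ) (z : V ⊗[k] W) : TensorProduct.map A.mkQ A'.mkQ (tπ C C' n z) =
    tπ (C.quot A hA) (C'.quot A' hA') n (TensorProduct.map A.mkQ A'.mkQ z) := by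
  induction z using TensorProduct.induction_on with
  | zero => simp
  | tmul x y =>
    simp only [tπ_decomp, map_sum, TensorProduct.map_tmul]
    rfl
  | add a b ha hb => simp only [map_add, ha, hb]

include hA hA' in
theorem stable_Kq : (tensor C C').Stable (Kq A A') where
  π_mem n x hx := by
    show _ ∈ LinearMap.ker _
    rw [LinearMap.mem_ker]
    show TensorProduct.map A.mkQ A'.mkQ (tπ C C' n x) = 0
    rw [qq_tπ hA hA', LinearMap.mem_ker.1 hx, map_zero]
  d_mem x hx := by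
    show _ ∈ LinearMap.ker _
    rw [LinearMap.mem_ker]
    show TensorProduct.map A.mkQ A'.mkQ (tD C C' x) = 0
    rw [qq_tD hA hA', LinearMap.mem_ker.1 hx, map_zero]

end Groth.Agent.GrKunnethLib.Cx

namespace Groth.Agent.GrKunnethLib.Cx

variable {k : Type u} [Field k] {V : Type u} [AddCommGroup V] [Module k V] (T : Cx k V) (K : Submodule k V)

/-- The cohomology of a stable subspace, inside the ambient space modulo its boundaries. -/
def Hrel (n : ℕ) : Submodule k (V ⧸ K.map T.d) :=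
  (T.Z ⊓ K ⊓ LinearMap.range (T.π n)).map (K.map T.d).mkQ

variable {T K}

theorem Hrel_mk_eq_zero_iff {x : V} : (K.map T.d).mkQ x = 0 ↔ ∃ w ∈ K, T.d w = x :=
  (Submodule.Quotient.mk_eq_zero _).trans Submodule.mem_map

/-- The sequence of a quotient complex, one degree at a time: when the ambient complex is exact in
degree `n + 1`, the degree `n` of the quotient maps onto the degree `n + 1` of the kernel, with kernel
the classes of ambient cycles. -/
theorem exists_connecting {W : Type u} [AddCommGroup W] [Module k W] {Q : Cx k W} (q : V →ₗ[k] W)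
    (hq : Function.Surjective q) (hqd : ∀ x, q (T.d x) = Q.d (q x)) (hqπ : ∀ n x, q (T.π n x) = Q.π n (q x))
    (hK : K = LinearMap.ker q) (n : ℕ)
    (hex : ∀ z ∈ T.Z, T.π (n + 1) z = z → z ∈ T.B) :
    ∃ Φ : Q.Hgr n →ₗ[k] T.Hrel K (n + 1), Function.Surjective Φ ∧
      (∀ (c : V) (hc : T.π n c = c) (hdc : T.d c ∈ K) (hm : Q.B.mkQ (q c) ∈ Q.Hgr n),
        (Φ ⟨Q.B.mkQ (q c), hm⟩ : V ⧸ K.map T.d) = (K.map T.d).mkQ (T.d c)) ∧
      (LinearMap.ker Φ).map (Q.Hgr n).subtype = (T.Z ⊓ LinearMap.range (T.π n)).map (Q.B.mkQ ∘ₗ q) := by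
  subst hK
  let L : Submodule k V := (LinearMap.ker q).comap T.d ⊓ LinearMap.range (T.π n)
  have hB : ∀ c ∈ L, q c ∈ Q.Z ⊓ LinearMap.range (Q.π n) := fun c hc =>
    ⟨Q.mem_Z.2 (by rw [← hqd]; exact hc.1), ⟨q c, by rw [← hqπ, T.mem_range_π.1 hc.2]⟩⟩
  let b : L →ₗ[k] Q.Hgr n :=
    (Q.B.mkQ ∘ₗ q ∘ₗ L.subtype).codRestrict _ fun c => Submodule.mem_map_of_mem (hB c c.2)
  let a : L →ₗ[k] T.Hrel (LinearMap.ker q) (n + 1) :=
    (((LinearMap.ker q).map T.d).mkQ ∘ₗ T.d ∘ₗ L.subtype).codRestrict _ fun c =>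
      Submodule.mem_map_of_mem ⟨⟨T.mem_Z.2 (T.d_d _), c.2.1⟩,
        ⟨T.d c, by rw [T.d_π, T.mem_range_π.1 c.2.2]; rfl⟩⟩
  have hb : Function.Surjective b := by
    rintro ⟨_, y, ⟨hy, hyn⟩, rfl⟩
    obtain ⟨c, hc⟩ := hq y
    have hc' : q (T.π n c) = y := by rw [hqπ, hc, Q.mem_range_π.1 hyn]
    refine ⟨⟨T.π n c, ⟨?_, c, rfl⟩⟩, Subtype.ext (congrArg Q.B.mkQ hc')⟩
    show q (T.d (T.π n c)) = 0
    rw [hqd, hc']
    exact Q.mem_Z.1 hy
  have ha : Function.Surjective a := by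
    rintro ⟨_, z, ⟨⟨hz, hzK⟩, hzn⟩, rfl⟩
    obtain ⟨w, hw⟩ := hex z hz (T.mem_range_π.1 hzn)
    have hw' : T.d (T.π n w) = z := by rw [← T.d_π, hw, T.mem_range_π.1 hzn]
    exact ⟨⟨T.π n w, ⟨by show q (T.d (T.π n w)) = 0; rw [hw']; exact hzK, w, rfl⟩⟩,
      Subtype.ext (congrArg ((LinearMap.ker q).map T.d).mkQ hw')⟩
  have hker : LinearMap.ker b ≤ LinearMap.ker a := by
    rintro ⟨c, hc1, hc2⟩ h
    have h' : q c ∈ Q.B := (Submodule.Quotient.mk_eq_zero _).1 (congrArg Subtype.val h)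
    obtain ⟨y, hy⟩ := h'
    obtain ⟨w, rfl⟩ := hq y
    rw [LinearMap.mem_ker, ← Subtype.coe_inj]
    refine Hrel_mk_eq_zero_iff.2 ⟨c - T.d w, ?_, ?_⟩
    · rw [LinearMap.mem_ker, map_sub, hqd, hy, sub_self]
    · rw [map_sub, T.d_d, sub_zero, LinearMap.comp_apply]
      rfl
  let Φ := (LinearMap.ker b).liftQ a hker ∘ₗ (b.quotKerEquivOfSurjective hb).symm.toLinearMap
  have hΦ : ∀ c, Φ (b c) = a c := fun c => by
    simp only [Φ, LinearMap.comp_apply, LinearEquiv.coe_coe]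
    rw [show (b.quotKerEquivOfSurjective hb).symm (b c) = Submodule.Quotient.mk c from
      (LinearEquiv.symm_apply_eq _).2 rfl]
    rfl
  refine ⟨Φ, fun y => ?_, fun c hc hdc hm => ?_, ?_⟩
  · obtain ⟨c, rfl⟩ := ha y
    exact ⟨b c, hΦ c⟩
  · exact congrArg Subtype.val (hΦ ⟨c, hdc, c, hc⟩)
  · refine le_antisymm ?_ ?_
    · rintro _ ⟨y, hy, rfl⟩
      obtain ⟨⟨c, hc1, hc2⟩, rfl⟩ := hb y
      rw [SetLike.mem_coe, LinearMap.mem_ker, hΦ, ← Subtype.coe_inj] at hy
      obtain ⟨w, hwK, hw⟩ := Hrel_mk_eq_zero_iff.1 hy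
      refine ⟨c - T.π n w, ⟨T.mem_Z.2 ?_, Submodule.sub_mem _ hc2 ⟨w, rfl⟩⟩, ?_⟩
      · rw [map_sub, ← T.d_π, hw]
        show T.d c - T.π (n + 1) (T.d c) = 0
        rw [T.d_π, T.mem_range_π.1 hc2, sub_self]
      · show Q.B.mkQ (q (c - T.π n w)) = Q.B.mkQ (q c)
        rw [map_sub, hqπ, LinearMap.mem_ker.1 hwK, map_zero, sub_zero]
    · rintro _ ⟨c, ⟨hc1, hc2⟩, rfl⟩
      have hcL : c ∈ L := ⟨by show q (T.d c) = 0; rw [T.mem_Z.1 hc1, map_zero], hc2⟩
      refine ⟨b ⟨c, hcL⟩, ?_, rfl⟩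
      rw [SetLike.mem_coe, LinearMap.mem_ker, hΦ, ← Subtype.coe_inj]
      refine Hrel_mk_eq_zero_iff.2 ⟨0, zero_mem _, ?_⟩
      rw [map_zero]
      exact (T.mem_Z.1 hc1).symm

end Groth.Agent.GrKunnethLib.Cx
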