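import Mathlib
import Groth.Prelude.Def_GrLC
import Groth.Agent.GrInjLib.Resolution
import Groth.Agent.GrKunnethLib.Les
import Groth.Agent.GrKunnethLib.Diag

/-!
# A *injective resolution as one complex over the base field
-/

set_option autoImplicit false
set_option linter.style.haveILetI false
set_option linter.unusedSectionVars false
universe u

open DirectSum GrInjLib

namespace Groth.Agent.GrKunnethLib

variable {k R : Type u} [Field k] [CommRing R] [Algebra k R] {𝒜 : ℤ → Submodule k R} [GradedAlgebra 𝒜]
  {M : Type u} [AddCommGroup M] [Module R M] {τ : Type u} [SetLike τ M] [AddSubgroupClass τ M]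
  {ℳ : ℤ → τ} [Decomposition ℳ] [SetLike.GradedSMul 𝒜 ℳ]

/-- The sum of the terms of a resolution. -/
def Big (E : GrLC.StarInjRes 𝒜 ℳ) : Type u := ⨁ n, (E.X n).carrier

variable (E : GrLC.StarInjRes 𝒜 ℳ)

noncomputable instance : AddCommGroup (Big E) := inferInstanceAs (AddCommGroup (⨁ n, (E.X n).carrier))

noncomputable instance : Module R (Big E) := inferInstanceAs (Module R (⨁ n, (E.X n).carrier))

noncomputable instance : Module k (Big E) := Module.compHom _ (algebraMap k R)

instance : IsScalarTower k R (Big E) := IsScalarTower.of_algebraMap_smul fun _ _ => rfl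

/-- Inclusion of a term. -/
noncomputable def inc (n : ℕ) : (E.X n).carrier →ₗ[R] Big E :=
  DirectSum.lof R ℕ (fun n => (E.X n).carrier) n

/-- Projection onto a term. -/
noncomputable def coord (n : ℕ) : Big E →ₗ[R] (E.X n).carrier :=
  DirectSum.component R ℕ (fun n => (E.X n).carrier) n

theorem coord_inc (n : ℕ) (x : (E.X n).carrier) : coord E n (inc E n x) = x :=
  DirectSum.component.lof_self (R := R) (M := fun n => (E.X n).carrier) n x

theorem coord_inc_ne {n m : ℕ} (h : n ≠ m) (x : (E.X m).carrier) : coord E n (inc E m x) = 0 := by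
  show DirectSum.component R ℕ (fun n => (E.X n).carrier) n
    (DirectSum.lof R ℕ (fun n => (E.X n).carrier) m x) = 0
  rw [DirectSum.component.of, dif_neg (Ne.symm h)]

theorem big_induction {P : Big E → Prop} (h0 : P 0) (hadd : ∀ a b, P a → P b → P (a + b))
    (hinc : ∀ n x, P (inc E n x)) (z : Big E) : P z :=
  DirectSum.induction_on z h0 (fun n x => hinc n x) hadd

theorem inc_injective (n : ℕ) : Function.Injective (inc E n) := fun x y h => by
  rw [← coord_inc E n x, h, coord_inc]

/-- Maps out of the sum. -/
noncomputable def fromTerms {X : Type u} [AddCommGroup X] [Module R X]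
    (f : ∀ n, (E.X n).carrier →ₗ[R] X) : Big E →ₗ[R] X :=
  DirectSum.toModule R ℕ X f

theorem fromTerms_inc {X : Type u} [AddCommGroup X] [Module R X]
    (f : ∀ n, (E.X n).carrier →ₗ[R] X) (n : ℕ) (x : (E.X n).carrier) :
    fromTerms E f (inc E n x) = f n x :=
  DirectSum.toModule_lof R (M := fun n => (E.X n).carrier) (φ := f) n x

/-- The projection on a term, as an endomorphism. -/
noncomputable def termProj (n : ℕ) : Big E →ₗ[R] Big E := inc E n ∘ₗ coord E n

theorem termProj_inc (n m : ℕ) (x : (E.X m).carrier) :
    termProj E n (inc E m x) = if n = m then inc E m x else 0 := by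
  split_ifs with h
  · subst h; exact congrArg (inc E n) (coord_inc E n x)
  · exact (congrArg (inc E n) (coord_inc_ne E h x)).trans (map_zero _)

/-- The differential. -/
noncomputable def bigD : Big E →ₗ[R] Big E := fromTerms E fun n => inc E (n + 1) ∘ₗ E.d n

theorem bigD_inc (n : ℕ) (x : (E.X n).carrier) : bigD E (inc E n x) = inc E (n + 1) (E.d n x) :=
  fromTerms_inc E _ n x

/-- The sign. -/
noncomputable def bigSign : Big E →ₗ[R] Big E := fromTerms E fun n => ((-1 : R) ^ n) • inc E n

theorem bigSign_inc (n : ℕ) (x : (E.X n).carrier) : bigSign E (inc E n x) = ((-1 : R) ^ n) • inc E n x :=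
  fromTerms_inc E _ n x

theorem d_d_term (n : ℕ) (x : (E.X n).carrier) : E.d (n + 1) (E.d n x) = 0 := by
  rw [← LinearMap.mem_ker, E.exact_succ]
  exact ⟨x, rfl⟩

/-- The resolution as a complex over the base field. -/
noncomputable def bigCx : Cx k (Big E) where
  π n := (termProj E n).restrictScalars k
  d := (bigD E).restrictScalars k
  σ := (bigSign E).restrictScalars k
  π_π n m z := by
    induction z using big_induction E with
    | h0 => simp
    | hadd a b ha hb => simp only [map_add, ha, hb]; split_ifs <;> simp
    | hinc j x =>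
      simp only [LinearMap.restrictScalars_apply, termProj_inc]
      by_cases h : m = j
      · subst h; rw [if_pos rfl, termProj_inc]
      · rw [if_neg h, map_zero]; split_ifs <;> rfl
  span_range := by
    refine eq_top_iff.2 fun z hz => ?_
    clear hz
    induction z using big_induction E with
    | h0 => exact zero_mem _
    | hadd a b ha hb => exact add_mem ha hb
    | hinc j x =>
      refine Submodule.mem_iSup_of_mem j ⟨inc E j x, ?_⟩
      rw [LinearMap.restrictScalars_apply, termProj_inc, if_pos rfl]
  d_π n z := by
    induction z using big_induction E with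
    | h0 => simp
    | hadd a b ha hb => simp only [map_add, ha, hb]
    | hinc j x =>
      simp only [LinearMap.restrictScalars_apply, bigD_inc, termProj_inc]
      by_cases h : n = j
      · subst h; rw [if_pos rfl, if_pos rfl, bigD_inc]
      · rw [if_neg (by omega), if_neg h, map_zero]
  π_zero_d z := by
    induction z using big_induction E with
    | h0 => simp
    | hadd a b ha hb => simp only [map_add, ha, hb, add_zero]
    | hinc j x =>
      simp only [LinearMap.restrictScalars_apply, bigD_inc, termProj_inc]
      rw [if_neg (by omega)]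
  σ_π n z := by
    induction z using big_induction E with
    | h0 => simp
    | hadd a b ha hb => simp only [map_add, ha, hb, smul_add]
    | hinc j x =>
      simp only [LinearMap.restrictScalars_apply, termProj_inc]
      split_ifs with h
      · subst h
        rw [bigSign_inc, ← algebraMap_smul R ((-1 : k) ^ n), map_pow, map_neg, map_one]
      · rw [map_zero, smul_zero]
  d_d z := by
    induction z using big_induction E with
    | h0 => simp
    | hadd a b ha hb => simp only [map_add, ha, hb, add_zero]
    | hinc j x => simp only [LinearMap.restrictScalars_apply, bigD_inc, d_d_term, map_zero]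

theorem piece_smul_algebraMap (X : GrLC.GMod.{u} 𝒜) {g : ℤ} (c : k) {x : X.carrier} (hx : x ∈ X.gr g) :
    algebraMap k R c • x ∈ X.gr g := by
  have h := GrInjLib.smul_mem 𝒜 X.gr (SetLike.algebraMap_mem_graded 𝒜 c) hx
  rwa [zero_add] at h

/-- The additive projection on an internal degree. -/
noncomputable def bigPAdd (g : ℤ) : Big E →+ Big E :=
  DirectSum.toAddMonoid fun n => (inc E n).toAddMonoidHom.comp (proj (E.X n).gr g)

theorem bigPAdd_inc (g : ℤ) (n : ℕ) (x : (E.X n).carrier) :
    bigPAdd E g (inc E n x) = inc E n (proj (E.X n).gr g x) :=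
  DirectSum.toAddMonoid_of (β := fun n => (E.X n).carrier)
    (fun n => (inc E n).toAddMonoidHom.comp (proj (E.X n).gr g)) n x

/-- The projection on an internal degree. -/
noncomputable def bigP (g : ℤ) : Big E →ₗ[k] Big E where
  toFun := bigPAdd E g
  map_add' := map_add _
  map_smul' c z := by
    induction z using big_induction E with
    | h0 => simp
    | hadd a b ha hb => simp only [smul_add, map_add, RingHom.id_apply] at *; rw [ha, hb]
    | hinc n x =>
      simp only [RingHom.id_apply]
      rw [show c • inc E n x = inc E n (algebraMap k R c • x) from (map_smul (inc E n) _ x).symm,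
        bigPAdd_inc, bigPAdd_inc]
      have h := proj_smul 𝒜 (E.X n).gr (SetLike.algebraMap_mem_graded 𝒜 c) x g
      rw [zero_add] at h
      rw [h]
      exact map_smul (inc E n) _ _

theorem bigP_inc (g : ℤ) (n : ℕ) (x : (E.X n).carrier) :
    bigP E g (inc E n x) = inc E n (proj (E.X n).gr g x) :=
  bigPAdd_inc E g n x

/-- The grading of the sum by internal degree. -/
noncomputable def bigProj : Proj k (Big E) where
  p := bigP E
  p_p g h z := by
    induction z using big_induction E with
    | h0 => simp
    | hadd a b ha hb => simp only [map_add, ha, hb]; split_ifs <;> simp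
    | hinc n x =>
      simp only [bigP_inc]
      by_cases e : g = h
      · subst e; rw [if_pos rfl, proj_of_mem _ (proj_mem _ _ _)]
      · rw [if_neg e, proj_of_mem_ne _ (proj_mem _ _ _) (Ne.symm e), map_zero]
  span_range := by
    refine eq_top_iff.2 fun z hz => ?_
    clear hz
    induction z using big_induction E with
    | h0 => exact zero_mem _
    | hadd a b ha hb => exact add_mem ha hb
    | hinc n x =>
      induction x using DirectSum.Decomposition.inductionOn (E.X n).gr with
      | zero => rw [map_zero]; exact zero_mem _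
      | add a b ha hb => rw [map_add]; exact add_mem ha hb
      | @homogeneous g y =>
        refine Submodule.mem_iSup_of_mem g ⟨inc E n y, ?_⟩
        rw [bigP_inc, proj_of_mem _ y.2]

theorem bigP_smul (e : ℤ) (a : R) (ha : a ∈ 𝒜 e) (g : ℤ) (z : Big E) :
    a • (bigProj E).p g z = (bigProj E).p (g + e) (a • z) := by
  show a • bigP E g z = bigP E (g + e) (a • z)
  induction z using big_induction E with
  | h0 => simp
  | hadd a b ha hb => simp only [map_add, smul_add, ha, hb]
  | hinc n x =>
    rw [bigP_inc, ← map_smul (inc E n), ← map_smul (inc E n), bigP_inc, add_comm g e,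
      proj_smul 𝒜 (E.X n).gr ha]

/-- Degree-shifting maps commute with the projections. -/
theorem bigP_comm (f : Big E →ₗ[R] Big E) (δ : ℤ)
    (hf : ∀ n, ∀ g, ∀ x ∈ (E.X n).gr g, bigP E (g + δ) (f (inc E n x)) = f (inc E n x))
    (g : ℤ) (z : Big E) : f (bigP E g z) = bigP E (g + δ) (f z) := by
  induction z using big_induction E with
  | h0 => simp
  | hadd a b ha hb => simp only [map_add, ha, hb]
  | hinc n x =>
    induction x using DirectSum.Decomposition.inductionOn (E.X n).gr with
    | zero => simp
    | add a b ha hb => simp only [map_add, ha, hb]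
    | @homogeneous h y =>
      rw [bigP_inc]
      by_cases e : h = g
      · subst e
        rw [proj_of_mem _ y.2, hf n h _ y.2]
      · rw [proj_of_mem_ne _ y.2 e, map_zero, map_zero, ← hf n h _ y.2]
        exact ((bigProj E).p_ne (g := g + δ) (h := h + δ) (by omega) _).symm

theorem bigP_termProj (g : ℤ) (n : ℕ) (z : Big E) :
    termProj E n (bigP E g z) = bigP E g (termProj E n z) := by
  have h := bigP_comm E (termProj E n) 0 (fun m j x hx => by
    rw [add_zero, termProj_inc]
    split_ifs with e
    · rw [bigP_inc, proj_of_mem _ hx]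
    · rw [map_zero]) g z
  rwa [add_zero] at h

theorem bigP_bigD (g : ℤ) (z : Big E) : bigD E (bigP E g z) = bigP E g (bigD E z) := by
  have h := bigP_comm E (bigD E) 0 (fun m j x hx => by
    rw [add_zero, bigD_inc, bigP_inc, proj_of_mem _ (E.d_grHom m j x hx)]) g z
  rwa [add_zero] at h

theorem bigP_bigSign (g : ℤ) (z : Big E) : bigSign E (bigP E g z) = bigP E g (bigSign E z) := by
  induction z using big_induction E with
  | h0 => simp
  | hadd a b ha hb => simp only [map_add, ha, hb]
  | hinc m x =>
    rw [bigP_inc, bigSign_inc, bigSign_inc, ← map_smul (inc E m), ← map_smul (inc E m), bigP_inc]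
    have hmem : ((-1 : R) ^ m) ∈ 𝒜 0 := by
      have h := SetLike.algebraMap_mem_graded 𝒜 ((-1 : k) ^ m)
      rwa [map_pow, map_neg, map_one] at h
    have h := proj_smul 𝒜 (E.X m).gr hmem x g
    rw [zero_add] at h
    rw [h]

/-- The augmentation. -/
noncomputable def bigε : M →ₗ[R] Big E := inc E 0 ∘ₗ E.ε

/-- Exactness in positive degrees. -/
theorem exact_bigD {n : ℕ} {x : (E.X (n + 1)).carrier} (hx : bigD E (inc E (n + 1) x) = 0) :
    ∃ y, bigD E (inc E n y) = inc E (n + 1) x := by
  rw [bigD_inc] at hx
  have h : E.d (n + 1) x = 0 := inc_injective E _ (hx.trans (map_zero _).symm)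
  rw [← LinearMap.mem_ker, E.exact_succ] at h
  obtain ⟨y, rfl⟩ := h
  exact ⟨y, bigD_inc E n y⟩

/-- Torsion is tested term by term. -/
theorem mem_gam_iff (a : Ideal R) (z : Big E) :
    z ∈ GrLC.gam a (Big E) ↔ ∀ n, coord E n z ∈ GrLC.gam a (E.X n).carrier := by
  refine ⟨fun ⟨N, hN⟩ n => ⟨N, fun r hr => by rw [← map_smul, hN r hr, map_zero]⟩, fun h => ?_⟩
  classical
  have hz : z = ∑ n ∈ DFinsupp.support (show ⨁ n, (E.X n).carrier from z), inc E n (coord E n z) :=
    (DirectSum.sum_support_of (show ⨁ n, (E.X n).carrier from z)).symm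
  rw [hz]
  refine Submodule.sum_mem _ fun n _ => ?_
  obtain ⟨N, hN⟩ := h n
  exact ⟨N, fun r hr => by rw [← map_smul, hN r hr, map_zero]⟩

end Groth.Agent.GrKunnethLib
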