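import Mathlib
import Groth.Agent.GrInjLib.Hull
import Groth.Agent.GrInjLib.Primes
import Groth.Agent.GrCoreLib.Flasque
import Groth.Agent.GrCoreLib.CoarseCoh

/-!
# Splitting a *injective module into a torsion part and parts with invertible homogeneous elements
-/

set_option autoImplicit false
set_option linter.style.haveILetI false
set_option linter.unusedSectionVars false
universe u

open DirectSum GrInjLib

namespace Groth.Agent.GrKunnethLib

variable {R : Type u} [CommRing R] [IsNoetherianRing R] {σ : Type u} [SetLike σ R] [AddSubgroupClass σ R]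
  {𝒜 : ℤ → σ} [GradedRing 𝒜] {X : GrLC.GMod.{u} 𝒜}

/-- A projection on whose image a homogeneous element of positive degree is invertible. -/
def IsInvPiece (a : Ideal R) (P : X.carrier →ₗ[R] X.carrier) : Prop :=
  (∀ x, P (P x) = P x) ∧ GrLC.IsGrHom X.gr X.gr P ∧
    ∃ (e : ℤ) (c : R) (U : X.carrier →ₗ[R] X.carrier), 0 < e ∧ c ∈ 𝒜 e ∧ c ∈ a ∧
      GrLC.IsGrHomDeg X.gr X.gr U (-e) ∧ ∀ x, U (c • x) = P x ∧ P (U x) = U x ∧ U (P x) = U x

/-- Every homogeneous torsion submodule of a *injective module is a direct summand. -/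
theorem exists_gam_retraction (hX : GrLC.IsStarInj 𝒜 X.gr) (J : HomogeneousIdeal 𝒜) :
    ∃ r : X.carrier →ₗ[R] X.carrier, GrLC.IsGrHom X.gr X.gr r ∧
      (∀ x, r x ∈ GrLC.gam J.toIdeal X.carrier) ∧ ∀ x ∈ GrLC.gam J.toIdeal X.carrier, r x = x := by
  obtain ⟨E, Q, ⟨hEh, hLE, hess⟩, -, -, p, hp, hpE, hpid⟩ :=
    exists_hull_in 𝒜 X.gr hX _ (gam_homogeneous X.gr J)
  have hE : E ≤ GrLC.gam J.toIdeal X.carrier := by
    intro x hx
    refine mem_of_proj_mem X.gr fun g => ?_
    set y := proj X.gr g x with hy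
    have hyE : y ∈ E := mem_homogeneous X.gr hEh hx g
    suffices hrad : J.toIdeal ≤ (annH (R := R) y).radical by
      obtain ⟨n, hn⟩ := Ideal.exists_pow_le_of_le_radical_of_fg hrad (IsNoetherian.noetherian _)
      exact ⟨n, fun r hr => hn hr⟩
    suffices key : ∀ i, ∀ r ∈ 𝒜 i, r ∈ J.toIdeal → r ∈ (annH (R := R) y).radical by
      intro r hr
      classical
      rw [← DirectSum.sum_support_decompose 𝒜 r]
      exact Submodule.sum_mem _ fun i _ => key i _ (SetLike.coe_mem _) (J.isHomogeneous i hr)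
    intro i r hr hrJ
    obtain ⟨n, hn⟩ := monotone_stabilizes_iff_noetherian.2 (inferInstance : IsNoetherianRing R)
      ⟨fun n => annH (R := R) (r ^ n • y), monotone_nat_of_le_succ fun n t ht => by
        rw [mem_annH] at ht ⊢
        rw [pow_succ', mul_smul, smul_comm, ht, smul_zero]⟩
    refine ⟨n, ?_⟩
    rw [mem_annH]
    by_contra h0
    have hmem : r ^ n • y ∈ X.gr (n • i + g) :=
      smul_mem 𝒜 X.gr (SetLike.pow_mem_graded n hr) (proj_mem X.gr g x)
    have hP := hess (R ∙ (r ^ n • y)) (span_singleton_homogeneous 𝒜 X.gr hmem)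
      ((Submodule.span_singleton_le_iff_mem _ _).2 (E.smul_mem _ hyE))
      (by rwa [Ne, Submodule.span_singleton_eq_bot])
    obtain ⟨w, ⟨hwP, hwL⟩, hw0⟩ := Submodule.exists_mem_ne_zero_of_ne_bot hP
    obtain ⟨c, rfl⟩ := Submodule.mem_span_singleton.1 hwP
    obtain ⟨N, hN⟩ := hwL
    apply hw0
    have h2 : c ∈ annH (R := R) (r ^ (n + N) • y) := by
      rw [mem_annH, pow_add, mul_comm, mul_smul, smul_comm]
      exact hN _ (Ideal.pow_mem_pow hrJ N)
    have h3 := hn (n + N) (Nat.le_add_right n N)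
    simp only [OrderHom.coe_mk] at h3
    rw [← h3, mem_annH] at h2
    exact h2
  exact ⟨p, hp, fun x => hE (hpE x), fun x hx => hpid x (hLE hx)⟩

theorem exists_split_list (hX : GrLC.IsStarInj 𝒜 X.gr) {a : HomogeneousIdeal 𝒜} :
    ∀ (L : List R), (∀ c ∈ L, c ∈ a.toIdeal ∧ ∃ e : ℤ, 0 < e ∧ c ∈ 𝒜 e) →
      ∃ (r : X.carrier →ₗ[R] X.carrier) (Ps : List (X.carrier →ₗ[R] X.carrier)),
        GrLC.IsGrHom X.gr X.gr r ∧
        (∀ x, r x ∈ GrLC.gam (Ideal.span {c | c ∈ L}) X.carrier) ∧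
        (∀ x ∈ GrLC.gam (Ideal.span {c | c ∈ L}) X.carrier, r x = x) ∧
        (∀ P ∈ Ps, IsInvPiece a.toIdeal P) ∧ Ps.sum + r = LinearMap.id := by
  intro L
  induction L with
  | nil =>
    intro _
    refine ⟨LinearMap.id, [], fun g x hx => hx, fun x => ?_, fun x _ => rfl, by simp, by simp⟩
    refine ⟨1, fun c hc => ?_⟩
    rw [pow_one] at hc
    simp only [List.not_mem_nil, Set.setOf_false, Ideal.span_empty, Ideal.mem_bot] at hc
    rw [hc, zero_smul]
  | cons c L ih =>
    intro hL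
    obtain ⟨r, Ps, hr, hrmem, hrfix, hPs, hsum⟩ := ih fun d hd => hL d (List.mem_cons_of_mem c hd)
    obtain ⟨hca, e, he, hce⟩ := hL c List.mem_cons_self
    have hhom : ∀ M : List R, (∀ d ∈ M, ∃ e : ℤ, 0 < e ∧ d ∈ 𝒜 e) →
        (Ideal.span {d | d ∈ M}).IsHomogeneous 𝒜 := fun M hM =>
      Ideal.homogeneous_span 𝒜 _ fun d hd => by obtain ⟨e, -, h⟩ := hM d hd; exact ⟨e, h⟩
    let J : HomogeneousIdeal 𝒜 :=
      ⟨Ideal.span {d | d ∈ L}, hhom L fun d hd => (hL d (List.mem_cons_of_mem c hd)).2⟩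
    let J' : HomogeneousIdeal 𝒜 := ⟨Ideal.span {d | d ∈ c :: L}, hhom _ fun d hd => (hL d hd).2⟩
    have hJJ' : GrLC.gam J'.toIdeal X.carrier ≤ GrLC.gam J.toIdeal X.carrier := by
      rintro x ⟨n, hn⟩
      refine ⟨n, fun d hd => hn d (Ideal.pow_right_mono (Ideal.span_mono ?_) n hd)⟩
      exact fun d hd => List.mem_cons_of_mem c hd
    have hcmem : ∀ x ∈ GrLC.gam J.toIdeal X.carrier, ∀ l : ℕ, c ^ l • x = 0 →
        x ∈ GrLC.gam J'.toIdeal X.carrier := by
      intro x hx l hl
      suffices h : J'.toIdeal ≤ (annH (R := R) x).radical by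
        obtain ⟨n, hn⟩ := Ideal.exists_pow_le_of_le_radical_of_fg h (IsNoetherian.noetherian _)
        exact ⟨n, fun d hd => hn hd⟩
      refine Ideal.span_le.2 fun d hd => ?_
      obtain ⟨n, hn⟩ := hx
      rcases List.mem_cons.1 hd with rfl | hd
      · exact ⟨l, hl⟩
      · exact ⟨n, hn _ (Ideal.pow_mem_pow (Ideal.subset_span (show d ∈ {t : R | t ∈ L} from hd)) n)⟩
    obtain ⟨r', hr', hr'mem, hr'fix⟩ := exists_gam_retraction hX J'
    let r₁ := r' ∘ₗ r
    let P := r - r₁
    have hr₁fix : ∀ x ∈ GrLC.gam J'.toIdeal X.carrier, r₁ x = x := fun x hx => by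
      show r' (r x) = x
      rw [hrfix x (hJJ' hx), hr'fix x hx]
    have hrr : ∀ x, r (r x) = r x := fun x => hrfix _ (hrmem x)
    have h1 : ∀ x, r (r₁ x) = r₁ x := fun x => hrfix _ (hJJ' (hr'mem _))
    have h2 : ∀ x, r₁ (r x) = r₁ x := fun x => congrArg r' (hrr x)
    have h3 : ∀ x, r₁ (r₁ x) = r₁ x := fun x => hr₁fix _ (hr'mem _)
    have hPP : ∀ x, P (P x) = P x := fun x => by
      simp only [P, LinearMap.sub_apply, map_sub, hrr, h1, h2, h3, sub_self, sub_zero]
    have hPJ : ∀ x, P x ∈ GrLC.gam J.toIdeal X.carrier := fun x =>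
      Submodule.sub_mem _ (hrmem x) (hJJ' (hr'mem _))
    have hr₁hom : GrLC.IsGrHom X.gr X.gr r₁ := fun g x hx => hr' g _ (hr g x hx)
    have hPhom : GrLC.IsGrHom X.gr X.gr P := fun g x hx =>
      sub_mem (hr g x hx) (hr₁hom g x hx)
    have hinj : ∀ x, ∀ l : ℕ, c ^ l • P x = 0 → P x = 0 := fun x l hl => by
      have h := hr₁fix _ (hcmem _ (hPJ x) l hl)
      rw [show r₁ (P x) = 0 by simp only [P, LinearMap.sub_apply, map_sub, h2, h3, sub_self]] at h
      exact h.symm
    have hsurj : ∀ x, ∃ y, P y = y ∧ c • y = P x := by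
      intro x
      obtain ⟨l, hl⟩ := Groth.Agent.GrCoreLib.exists_div_piece 𝒜 X hX J hce 1
      induction x using DirectSum.Decomposition.inductionOn X.gr with
      | zero => exact ⟨0, map_zero _, by rw [map_zero, smul_zero]⟩
      | add a b ha hb =>
        obtain ⟨y, hy, hy'⟩ := ha
        obtain ⟨z, hz, hz'⟩ := hb
        exact ⟨y + z, by rw [map_add, hy, hz], by rw [smul_add, hy', hz', map_add]⟩
      | @homogeneous g z =>
        obtain ⟨w, -, -, hw⟩ := hl g (P z) (hPhom g _ z.2) (hPJ z)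
        rw [pow_one] at hw
        refine ⟨P w, hPP w, ?_⟩
        have h0 : c ^ l • P (c • w - P z) = 0 := by rw [← map_smul, hw, map_zero]
        have h4 := hinj _ l h0
        rw [map_sub, map_smul, hPP, sub_eq_zero] at h4
        exact h4
    choose u hu1 hu2 using hsurj
    have huniq : ∀ y y', P y = y → P y' = y' → c • y = c • y' → y = y' := by
      intro y y' hy hy' h
      have h0 : c ^ 1 • P (y - y') = 0 := by rw [pow_one, ← map_smul, smul_sub, h, sub_self, map_zero]
      have h4 := hinj _ 1 h0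
      rwa [map_sub, hy, hy', sub_eq_zero] at h4
    let U : X.carrier →ₗ[R] X.carrier :=
      { toFun := u
        map_add' := fun x y => huniq _ _ (hu1 _) (by rw [map_add, hu1, hu1])
          (by rw [smul_add, hu2, hu2, hu2, map_add])
        map_smul' := fun d x => huniq _ _ (hu1 _) (by simp only [RingHom.id_apply, map_smul, hu1])
          (by simp only [RingHom.id_apply]; rw [smul_comm, hu2, hu2, map_smul]) }
    have hU : GrLC.IsGrHomDeg X.gr X.gr U (-e) := by
      intro g x hx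
      have hy1 : P (proj X.gr (g + -e) (U x)) = proj X.gr (g + -e) (U x) := by
        rw [← proj_map₀ _ _ hPhom]
        exact congrArg (proj X.gr _) (hu1 x)
      have hy2 : c • proj X.gr (g + -e) (U x) = P x := by
        have h := congrArg (proj X.gr g) (hu2 x)
        rw [proj_of_mem X.gr (hPhom g x hx)] at h
        have h' := proj_smul 𝒜 X.gr hce (U x) (g + -e)
        rw [show e + (g + -e) = g from by omega] at h'
        exact h'.symm.trans h
      rw [show U x = proj X.gr (g + -e) (U x) from huniq _ _ (hu1 x) hy1 (by rw [hy2]; exact hu2 x)]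
      exact proj_mem _ _ _
    refine ⟨r₁, P :: Ps, hr₁hom, fun x => hr'mem _, hr₁fix, ?_, ?_⟩
    · intro Q hQ
      rcases List.mem_cons.1 hQ with rfl | hQ
      · refine ⟨hPP, hPhom, e, c, U, he, hce, hca, hU, fun x => ⟨?_, hu1 x, ?_⟩⟩
        · exact huniq _ _ (hu1 _) (hPP x) (by rw [show c • U (c • x) = P (c • x) from hu2 _, map_smul])
        · exact huniq _ _ (hu1 _) (hu1 _) (by rw [show c • U (P x) = P (P x) from hu2 _, hPP]; exact (hu2 x).symm)
      · exact hPs Q hQ
    · rw [List.sum_cons, ← hsum]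
      show r - r₁ + Ps.sum + r₁ = Ps.sum + r
      abel

/-- A *injective module splits into its torsion part and pieces with invertible elements. -/
theorem exists_split (hX : GrLC.IsStarInj 𝒜 X.gr) {a : HomogeneousIdeal 𝒜} (s : Finset R)
    (hs : ∀ c ∈ s, ∃ e : ℤ, 0 < e ∧ c ∈ 𝒜 e) (has : a.toIdeal = Ideal.span (s : Set R)) :
    ∃ (n : ℕ) (P : Fin n → X.carrier →ₗ[R] X.carrier),
      (∀ x, ∑ l, P l x = x) ∧ (∀ l x, P l (P l x) = P l x) ∧ (∀ l, GrLC.IsGrHom X.gr X.gr (P l)) ∧
      ∀ l, (∀ x, P l x ∈ GrLC.gam a.toIdeal X.carrier) ∨ IsInvPiece a.toIdeal (P l) := by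
  obtain ⟨r, Ps, hr, hrmem, hrfix, hPs, hsum⟩ := exists_split_list hX (a := a) s.toList (fun c hc => by
    rw [Finset.mem_toList] at hc
    exact ⟨has ▸ Ideal.subset_span hc, hs c hc⟩)
  have hset : {c | c ∈ s.toList} = (s : Set R) := Set.ext fun c => Finset.mem_toList
  rw [hset, ← has] at hrmem hrfix
  refine ⟨Ps.length + 1, Fin.cases r fun i => Ps.get i, fun x => ?_, fun l => ?_, fun l => ?_, fun l => ?_⟩
  · rw [Fin.sum_univ_succ]
    simp only [Fin.cases_zero, Fin.cases_succ]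
    rw [← LinearMap.sum_apply, ← List.sum_ofFn, List.ofFn_get, ← LinearMap.add_apply, add_comm, hsum,
      LinearMap.id_apply]
  · cases l using Fin.cases with
    | zero => exact fun x => hrfix _ (hrmem x)
    | succ i => exact (hPs _ (Ps.get_mem i)).1
  · cases l using Fin.cases with
    | zero => exact hr
    | succ i => exact (hPs _ (Ps.get_mem i)).2.1
  · cases l using Fin.cases with
    | zero => exact Or.inl hrmem
    | succ i => exact Or.inr (hPs _ (Ps.get_mem i))

end Groth.Agent.GrKunnethLib
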