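import Mathlib
import Groth.Prelude.Def_GrLC
import Groth.Agent.GrKunnethLib.Big
import Groth.Agent.GrKunnethLib.Split

/-!
# Torsion of a tensor product of *injective resolutions over a Segre product
-/

set_option autoImplicit false
set_option linter.style.haveILetI false
set_option linter.unusedSectionVars false
universe u

open scoped TensorProduct
open DirectSum GrInjLib

namespace Groth.Agent.GrKunnethLib

section Ideals

variable {k R S : Type u} [Field k] [CommRing R] [CommRing S] [Algebra k R] [Algebra k S]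
  {T : Type u} [CommRing T] [Algebra k T] {ψ : T →ₐ[k] R ⊗[k] S}
  {V W : Type u} [AddCommGroup V] [Module k V] [Module R V] [IsScalarTower k R V]
  [AddCommGroup W] [Module k W] [Module S W] [IsScalarTower k S W]

theorem act_eq_zero_of_mem_map_left {I : Ideal R} {x : V} (hx : ∀ r ∈ I, r • x = 0) {w : R ⊗[k] S}
    (hw : w ∈ I.map (Algebra.TensorProduct.includeLeft : R →ₐ[k] R ⊗[k] S)) (y : W) :
    GrSeg.act k R S V W w (x ⊗ₜ[k] y) = 0 := by
  rw [Ideal.map] at hw
  induction hw using Submodule.span_induction with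
  | mem v hv =>
    obtain ⟨r, hr, rfl⟩ := hv
    rw [Algebra.TensorProduct.includeLeft_apply, GrSeg.act_tmul, hx r hr, TensorProduct.zero_tmul]
  | zero => rw [map_zero, LinearMap.zero_apply]
  | add a b _ _ ha hb => rw [map_add, LinearMap.add_apply, ha, hb, add_zero]
  | smul c a _ ha => rw [smul_eq_mul, Groth.Agent.GrSegreLib.act_mul, ha, map_zero]

theorem act_eq_zero_of_mem_map_right {I : Ideal S} {y : W} (hy : ∀ s ∈ I, s • y = 0) {w : R ⊗[k] S}
    (hw : w ∈ I.map (Algebra.TensorProduct.includeRight : S →ₐ[k] R ⊗[k] S)) (x : V) :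
    GrSeg.act k R S V W w (x ⊗ₜ[k] y) = 0 := by
  rw [Ideal.map] at hw
  induction hw using Submodule.span_induction with
  | mem v hv =>
    obtain ⟨s, hs, rfl⟩ := hv
    rw [Algebra.TensorProduct.includeRight_apply, GrSeg.act_tmul, hy s hs, TensorProduct.tmul_zero]
  | zero => rw [map_zero, LinearMap.zero_apply]
  | add a b _ _ ha hb => rw [map_add, LinearMap.add_apply, ha, hb, add_zero]
  | smul c a _ ha => rw [smul_eq_mul, Groth.Agent.GrSegreLib.act_mul, ha, map_zero]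

end Ideals

/-- The data of a Segre product of two graded rings with their irrelevant ideals. -/
structure Setting (k R S T : Type u) [Field k] [CommRing R] [CommRing S] [CommRing T] [Algebra k R]
    [Algebra k S] [Algebra k T] (𝒜 : ℤ → Submodule k R) [GradedAlgebra 𝒜] (ℬ : ℤ → Submodule k S)
    [GradedAlgebra ℬ] (𝒯 : ℤ → Submodule k T) [GradedAlgebra 𝒯] (ψ : T →ₐ[k] R ⊗[k] S)
    (mR : HomogeneousIdeal 𝒜) (mS : HomogeneousIdeal ℬ) (mT : HomogeneousIdeal 𝒯) : Prop where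
  inj : Function.Injective ψ
  deg : ∀ n : ℤ, (𝒯 n).map ψ.toLinearMap = GrSeg.segrePiece k 𝒜 ℬ n
  hmR : mR.toIdeal = Ideal.span (⋃ n ∈ Set.Ioi (0 : ℤ), (𝒜 n : Set R))
  hmS : mS.toIdeal = Ideal.span (⋃ n ∈ Set.Ioi (0 : ℤ), (ℬ n : Set S))
  hmT : mT.toIdeal = Ideal.span (⋃ n ∈ Set.Ioi (0 : ℤ), (𝒯 n : Set T))
  noethR : IsNoetherianRing R
  noethS : IsNoetherianRing S
  noethT : IsNoetherianRing T

namespace Setting

variable {k R S T : Type u} [Field k] [CommRing R] [CommRing S] [CommRing T] [Algebra k R]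
  [Algebra k S] [Algebra k T] {𝒜 : ℤ → Submodule k R} [GradedAlgebra 𝒜] {ℬ : ℤ → Submodule k S}
  [GradedAlgebra ℬ] {𝒯 : ℤ → Submodule k T} [GradedAlgebra 𝒯] {ψ : T →ₐ[k] R ⊗[k] S}
  {mR : HomogeneousIdeal 𝒜} {mS : HomogeneousIdeal ℬ} {mT : HomogeneousIdeal 𝒯}
  (H : Setting k R S T 𝒜 ℬ 𝒯 ψ mR mS mT)

include H

theorem map_le_left :
    mT.toIdeal.map ψ ≤ mR.toIdeal.map (Algebra.TensorProduct.includeLeft : R →ₐ[k] R ⊗[k] S) := by
  rw [H.hmT, Ideal.map_span, Ideal.span_le]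
  rintro _ ⟨t, ht, rfl⟩
  obtain ⟨n, hn, htn⟩ := Set.mem_iUnion₂.1 ht
  have hmem : ψ t ∈ GrSeg.segrePiece k 𝒜 ℬ n := (H.deg n).le ⟨t, htn, rfl⟩
  rw [SetLike.mem_coe]
  generalize ψ t = v at hmem ⊢
  induction hmem using Submodule.span_induction with
  | mem x hx =>
    obtain ⟨a, ha, b, -, rfl⟩ := hx
    have h : a ⊗ₜ[k] b = ((1 : R) ⊗ₜ[k] b) * (a ⊗ₜ[k] (1 : S)) := by
      rw [Algebra.TensorProduct.tmul_mul_tmul, one_mul, mul_one]
    rw [h]
    exact Ideal.mul_mem_left _ _ (Ideal.mem_map_of_mem _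
      (H.hmR ▸ Ideal.subset_span (Set.mem_iUnion₂.2 ⟨n, hn, ha⟩)))
  | zero => exact zero_mem _
  | add a b _ _ ha hb => exact add_mem ha hb
  | smul c a _ ha => exact Submodule.smul_of_tower_mem _ c ha

theorem map_le_right :
    mT.toIdeal.map ψ ≤ mS.toIdeal.map (Algebra.TensorProduct.includeRight : S →ₐ[k] R ⊗[k] S) := by
  rw [H.hmT, Ideal.map_span, Ideal.span_le]
  rintro _ ⟨t, ht, rfl⟩
  obtain ⟨n, hn, htn⟩ := Set.mem_iUnion₂.1 ht
  have hmem : ψ t ∈ GrSeg.segrePiece k 𝒜 ℬ n := (H.deg n).le ⟨t, htn, rfl⟩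
  rw [SetLike.mem_coe]
  generalize ψ t = v at hmem ⊢
  induction hmem using Submodule.span_induction with
  | mem x hx =>
    obtain ⟨a, -, b, hb, rfl⟩ := hx
    have h : a ⊗ₜ[k] b = (a ⊗ₜ[k] (1 : S)) * ((1 : R) ⊗ₜ[k] b) := by
      rw [Algebra.TensorProduct.tmul_mul_tmul, one_mul, mul_one]
    rw [h]
    exact Ideal.mul_mem_left _ _ (Ideal.mem_map_of_mem _
      (H.hmS ▸ Ideal.subset_span (Set.mem_iUnion₂.2 ⟨n, hn, hb⟩)))
  | zero => exact zero_mem _
  | add a b _ _ ha hb => exact add_mem ha hb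
  | smul c a _ ha => exact Submodule.smul_of_tower_mem _ c ha

theorem exists_generators_left :
    ∃ s : Finset R, (∀ c ∈ s, ∃ e : ℤ, 0 < e ∧ c ∈ 𝒜 e) ∧ mR.toIdeal = Ideal.span (s : Set R) := by
  haveI := H.noethR
  obtain ⟨s, hs, hspan⟩ := (Submodule.fg_span_iff_fg_span_finset_subset (R := R)
    (⋃ n ∈ Set.Ioi (0 : ℤ), (𝒜 n : Set R))).1 (IsNoetherian.noetherian _)
  exact ⟨s, fun c hc => by obtain ⟨n, hn, h⟩ := Set.mem_iUnion₂.1 (hs hc); exact ⟨n, hn, h⟩,
    H.hmR.trans hspan⟩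

theorem exists_generators_right :
    ∃ s : Finset S, (∀ c ∈ s, ∃ e : ℤ, 0 < e ∧ c ∈ ℬ e) ∧ mS.toIdeal = Ideal.span (s : Set S) := by
  haveI := H.noethS
  obtain ⟨s, hs, hspan⟩ := (Submodule.fg_span_iff_fg_span_finset_subset (R := S)
    (⋃ n ∈ Set.Ioi (0 : ℤ), (ℬ n : Set S))).1 (IsNoetherian.noetherian _)
  exact ⟨s, fun c hc => by obtain ⟨n, hn, h⟩ := Set.mem_iUnion₂.1 (hs hc); exact ⟨n, hn, h⟩,
    H.hmS.trans hspan⟩

variable {V W : Type u} [AddCommGroup V] [Module k V] [Module R V] [IsScalarTower k R V]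
  [AddCommGroup W] [Module k W] [Module S W] [IsScalarTower k S W]

theorem tmul_mem_gam_left {x : V} (hx : x ∈ GrLC.gam mR.toIdeal V) (y : W) :
    (TW.val ψ).symm (x ⊗ₜ[k] y) ∈ GrLC.gam mT.toIdeal (TW ψ V W) := by
  obtain ⟨N, hN⟩ := hx
  refine ⟨N, fun t ht => (TW.val ψ).injective ?_⟩
  rw [TW.val_smul, LinearEquiv.apply_symm_apply, map_zero]
  refine act_eq_zero_of_mem_map_left hN ?_ y
  have h := Ideal.mem_map_of_mem ψ ht
  rw [Ideal.map_pow] at h
  rw [Ideal.map_pow]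
  exact Ideal.pow_right_mono H.map_le_left N h

theorem tmul_mem_gam_right (x : V) {y : W} (hy : y ∈ GrLC.gam mS.toIdeal W) :
    (TW.val ψ).symm (x ⊗ₜ[k] y) ∈ GrLC.gam mT.toIdeal (TW ψ V W) := by
  obtain ⟨N, hN⟩ := hy
  refine ⟨N, fun t ht => (TW.val ψ).injective ?_⟩
  rw [TW.val_smul, LinearEquiv.apply_symm_apply, map_zero]
  refine act_eq_zero_of_mem_map_right hN ?_ x
  have h := Ideal.mem_map_of_mem ψ ht
  rw [Ideal.map_pow] at h
  rw [Ideal.map_pow]
  exact Ideal.pow_right_mono H.map_le_right N h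

/-- The elements coming from torsion in one of the factors are torsion. -/
theorem mem_gam_of_mem_sup {z : TW ψ V W}
    (hz : TW.val ψ z ∈ box ((GrLC.gam mR.toIdeal V).restrictScalars k) ⊤ ⊔
      box ⊤ ((GrLC.gam mS.toIdeal W).restrictScalars k)) :
    z ∈ GrLC.gam mT.toIdeal (TW ψ V W) := by
  have h : ∀ w ∈ box ((GrLC.gam mR.toIdeal V).restrictScalars k) ⊤ ⊔
      box ⊤ ((GrLC.gam mS.toIdeal W).restrictScalars k),
      (TW.val ψ).symm w ∈ GrLC.gam mT.toIdeal (TW ψ V W) := by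
    intro w hw
    refine (sup_le
      (box_le (P := ((GrLC.gam mT.toIdeal (TW ψ V W)).restrictScalars k).comap (TW.val ψ).symm.toLinearMap)
        fun x hx y _ => H.tmul_mem_gam_left hx y)
      (box_le fun x _ y hy => H.tmul_mem_gam_right x hy)) hw
  simpa using h _ hz

end Setting

section Pieces

variable {k R : Type u} [Field k] [CommRing R] [Algebra k R] {𝒜 : ℤ → Submodule k R} [GradedAlgebra 𝒜]
  {M : Type u} [AddCommGroup M] [Module R M] {τ : Type u} [SetLike τ M] [AddSubgroupClass τ M]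
  {ℳ : ℤ → τ} [Decomposition ℳ] [SetLike.GradedSMul 𝒜 ℳ] (E : GrLC.StarInjRes 𝒜 ℳ)

/-- A map on one term, extended by zero. -/
noncomputable def termMap (i : ℕ) (f : (E.X i).carrier →ₗ[R] (E.X i).carrier) : Big E →ₗ[R] Big E :=
  inc E i ∘ₗ f ∘ₗ coord E i

theorem termMap_inc (i : ℕ) (f : (E.X i).carrier →ₗ[R] (E.X i).carrier) (n : ℕ) (x : (E.X i).carrier) :
    termProj E n (termMap E i f (inc E i x)) = if n = i then inc E i (f x) else 0 := by
  show termProj E n (inc E i (f (coord E i (inc E i x)))) = _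
  rw [coord_inc, termProj_inc]

theorem termMap_apply_inc (i : ℕ) (f : (E.X i).carrier →ₗ[R] (E.X i).carrier) (x : (E.X i).carrier) :
    termMap E i f (inc E i x) = inc E i (f x) := congrArg (inc E i) (congrArg f (coord_inc E i x))

theorem termMap_apply_inc_ne {i m : ℕ} (h : i ≠ m) (f : (E.X i).carrier →ₗ[R] (E.X i).carrier)
    (x : (E.X m).carrier) : termMap E i f (inc E m x) = 0 := by
  show inc E i (f (coord E i (inc E m x))) = 0
  rw [coord_inc_ne E h, map_zero, map_zero]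

theorem termProj_termMap (i : ℕ) (f : (E.X i).carrier →ₗ[R] (E.X i).carrier) (n : ℕ) (z : Big E) :
    termProj E n (termMap E i f z) = termMap E i f (termProj E n z) := by
  induction z using big_induction E with
  | h0 => simp
  | hadd a b ha hb => simp only [map_add, ha, hb]
  | hinc m x =>
    by_cases hm : i = m
    · subst hm
      rw [termMap_apply_inc, termProj_inc, termProj_inc]
      split_ifs with h
      · rw [termMap_apply_inc]
      · rw [map_zero]
    · rw [termMap_apply_inc_ne E hm, map_zero, termProj_inc]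
      split_ifs with h
      · rw [termMap_apply_inc_ne E hm]
      · rw [map_zero]

theorem bigP_termMap (i : ℕ) {f : (E.X i).carrier →ₗ[R] (E.X i).carrier} {δ : ℤ}
    (hf : GrLC.IsGrHomDeg (E.X i).gr (E.X i).gr f δ) (g : ℤ) (z : Big E) :
    termMap E i f (bigP E g z) = bigP E (g + δ) (termMap E i f z) := by
  refine bigP_comm E _ δ (fun m j x hx => ?_) g z
  by_cases hm : i = m
  · subst hm
    rw [termMap_apply_inc, bigP_inc, proj_of_mem _ (hf j x hx)]
  · rw [termMap_apply_inc_ne E hm, map_zero]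

theorem termMap_comp (i : ℕ) (f f' : (E.X i).carrier →ₗ[R] (E.X i).carrier) (z : Big E) :
    termMap E i f (termMap E i f' z) = termMap E i (f ∘ₗ f') z := by
  show inc E i (f (coord E i (inc E i (f' (coord E i z))))) = _
  rw [coord_inc]
  rfl

theorem termMap_smul (i : ℕ) (f : (E.X i).carrier →ₗ[R] (E.X i).carrier) (c : R) (z : Big E) :
    termMap E i f (c • z) = inc E i (f (c • coord E i z)) := by
  show inc E i (f (coord E i (c • z))) = _
  rw [map_smul]

theorem sum_termMap (i : ℕ) {n : ℕ} (P : Fin n → (E.X i).carrier →ₗ[R] (E.X i).carrier)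
    (hP : ∀ x, ∑ l, P l x = x) (z : Big E) : ∑ l, termMap E i (P l) z = termProj E i z := by
  show ∑ l, inc E i (P l (coord E i z)) = inc E i (coord E i z)
  rw [← map_sum, hP]

/-- An invertible piece of a term gives an inverse of a power of its element on the whole sum. -/
theorem exists_inverse_pow {i : ℕ} {a : Ideal R} {P : (E.X i).carrier →ₗ[R] (E.X i).carrier}
    (hP : IsInvPiece a P) :
    ∃ (e : ℤ) (c : R), 0 < e ∧ c ∈ 𝒜 e ∧ c ∈ a ∧ ∀ m : ℕ, 0 < m →
      ∃ U : Big E →ₗ[R] Big E, (∀ z, U (c ^ m • z) = termMap E i P z) ∧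
        (∀ n z, termProj E n (U z) = U (termProj E n z)) ∧
        ∀ g z, U (bigP E g z) = bigP E (g + -((m : ℤ) * e)) (U z) := by
  obtain ⟨hPP, -, e, c, U, he, hce, hca, hU, hUP⟩ := hP
  refine ⟨e, c, he, hce, hca, ?_⟩
  intro m hm
  have key : ∀ m : ℕ, ∃ V : (E.X i).carrier →ₗ[R] (E.X i).carrier,
      GrLC.IsGrHomDeg (E.X i).gr (E.X i).gr V (-(((m + 1 : ℕ) : ℤ) * e)) ∧
        ∀ x, V (c ^ (m + 1) • x) = P x := by
    intro m
    induction m with
    | zero =>
      refine ⟨U, ?_, fun x => by rw [pow_one]; exact (hUP x).1⟩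
      rw [Nat.cast_one, one_mul]
      exact hU
    | succ m ih =>
      obtain ⟨V, hV, hVx⟩ := ih
      refine ⟨V ∘ₗ U, fun g x hx => ?_, fun x => ?_⟩
      · have h := hV _ _ (hU g x hx)
        rw [show g + -e + -(((m + 1 : ℕ) : ℤ) * e) = g + -(((m + 1 + 1 : ℕ) : ℤ) * e) by push_cast; ring] at h
        exact h
      · show V (U (c ^ (m + 1 + 1) • x)) = P x
        rw [pow_succ' c (m + 1), mul_smul, (hUP _).1, map_smul, hVx, hPP]
  obtain ⟨m, rfl⟩ := Nat.exists_eq_add_of_le hm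
  rw [show Nat.succ 0 + m = m + 1 by omega]
  obtain ⟨V, hV, hVx⟩ := key m
  refine ⟨termMap E i V, fun z => ?_, fun n z => termProj_termMap E i V n z, fun g z => bigP_termMap E i hV g z⟩
  rw [termMap_smul, hVx]
  rfl

end Pieces

end Groth.Agent.GrKunnethLib
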