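import Mathlib
import Groth.Prelude.Def_GrSeg
import Groth.Agent.GrKunnethLib.Acyc
import Groth.Agent.GrKunnethLib.Torsion

/-!
# The diagonal part of the product of two resolutions: a resolution of the Segre product by acyclic modules
-/

set_option autoImplicit false
set_option linter.style.haveILetI false
set_option linter.unusedSectionVars false
set_option maxHeartbeats 1000000
universe u

open scoped TensorProduct
open DirectSum GrInjLib Groth.Agent.GrCoreLib

namespace Groth.Agent.GrKunnethLib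

variable {k R S T : Type u} [Field k] [CommRing R] [CommRing S] [CommRing T] [Algebra k R]
  [Algebra k S] [Algebra k T] {𝒜 : ℤ → Submodule k R} [GradedAlgebra 𝒜] {ℬ : ℤ → Submodule k S}
  [GradedAlgebra ℬ] {𝒯 : ℤ → Submodule k T} [GradedAlgebra 𝒯] {ψ : T →ₐ[k] R ⊗[k] S}
  {mR : HomogeneousIdeal 𝒜} {mS : HomogeneousIdeal ℬ} {mT : HomogeneousIdeal 𝒯}
  (H : Setting k R S T 𝒜 ℬ 𝒯 ψ mR mS mT)
  {M : Type u} [AddCommGroup M] [Module R M] {τM : Type u} [SetLike τM M] [AddSubgroupClass τM M]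
  {ℳ : ℤ → τM} [Decomposition ℳ] [SetLike.GradedSMul 𝒜 ℳ] (EM : GrLC.StarInjRes 𝒜 ℳ)
  {N : Type u} [AddCommGroup N] [Module S N] {τN : Type u} [SetLike τN N] [AddSubgroupClass τN N]
  {𝒩 : ℤ → τN} [Decomposition 𝒩] [SetLike.GradedSMul ℬ 𝒩] (EN : GrLC.StarInjRes ℬ 𝒩)

variable (ψ) in
/-- The ambient module. -/
abbrev Amb : Type u := TW ψ (Big EM) (Big EN)

variable (ψ) in
/-- The projection on a total degree. -/
noncomputable def totPi (n : ℕ) : Amb ψ EM EN →ₗ[T] Amb ψ EM EN :=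
  ∑ p ∈ Finset.HasAntidiagonal.antidiagonal n, TW.map ψ (termProj EM p.1) (termProj EN p.2)

theorem val_totPi (n : ℕ) (z : Amb ψ EM EN) :
    TW.val ψ (totPi ψ EM EN n z) = Cx.tπ (bigCx EM) (bigCx EN) n (TW.val ψ z) := by
  rw [totPi, LinearMap.sum_apply, map_sum, Cx.tπ, LinearMap.sum_apply]
  rfl

variable (ψ) in
/-- The total differential. -/
noncomputable def totD : Amb ψ EM EN →ₗ[T] Amb ψ EM EN :=
  TW.map ψ (bigD EM) LinearMap.id + TW.map ψ (bigSign EM) (bigD EN)

theorem val_totD (z : Amb ψ EM EN) :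
    TW.val ψ (totD ψ EM EN z) = Cx.tD (bigCx EM) (bigCx EN) (TW.val ψ z) := by
  rw [totD, LinearMap.add_apply, map_add, Cx.tD, LinearMap.add_apply]
  rfl

include H in
theorem hG_bigP : ∀ (e : ℤ) (a : R), a ∈ 𝒜 e → ∀ g x,
    a • (bigProj EM).p g x = (bigProj EM).p (g + e) (a • x) :=
  fun e a ha g x => bigP_smul EM e a ha g x

/-- The projection onto the diagonal part. -/
noncomputable def dia : Amb ψ EM EN →ₗ[T] Amb ψ EM EN :=
  diagT H.deg (G := bigProj EM) (G' := bigProj EN) (bigP_smul EM) (bigP_smul EN)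

theorem val_dia (z : Amb ψ EM EN) :
    TW.val ψ (dia H EM EN z) = Proj.diag (bigProj EM) (bigProj EN) (TW.val ψ z) := rfl

/-- The selection of the diagonal part in one total degree. -/
noncomputable def sel (n : ℕ) : Amb ψ EM EN →ₗ[T] Amb ψ EM EN :=
  dia H EM EN ∘ₗ totPi ψ EM EN n

/-- The internal degree projection, as an additive map. -/
noncomputable def degP (g : ℤ) : Amb ψ EM EN →+ Amb ψ EM EN where
  toFun z := (TW.val ψ).symm (Proj.pp (bigProj EM) (bigProj EN) g (TW.val ψ z))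
  map_zero' := by simp only [map_zero]
  map_add' a b := by simp only [map_add]

theorem val_degP (g : ℤ) (z : Amb ψ EM EN) :
    TW.val ψ (degP EM EN g z) = Proj.pp (bigProj EM) (bigProj EN) g (TW.val ψ z) := rfl

/-- Maps of the two factors which respect the degrees commute with the selection. -/
theorem sel_map_comm (n : ℕ) {f : Big EM →ₗ[R] Big EM} {f' : Big EN →ₗ[S] Big EN} {δ : ℤ}
    (hf : ∀ n z, termProj EM n (f z) = f (termProj EM n z))
    (hf' : ∀ n z, termProj EN n (f' z) = f' (termProj EN n z))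
    (hfp : ∀ g z, f (bigP EM g z) = bigP EM (g + δ) (f z))
    (hfp' : ∀ g z, f' (bigP EN g z) = bigP EN (g + δ) (f' z)) (z : Amb ψ EM EN) :
    sel H EM EN n (TW.map ψ f f' z) = TW.map ψ f f' (sel H EM EN n z) := by
  apply (TW.val ψ).injective
  rw [sel, LinearMap.comp_apply, val_dia, val_totPi, TW.val_map, TW.val_map, LinearMap.comp_apply,
    val_dia, val_totPi]
  rw [show Cx.tπ (bigCx EM) (bigCx EN) n (TensorProduct.map (f.restrictScalars k) (f'.restrictScalars k) (TW.val ψ z)) =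
      TensorProduct.map (f.restrictScalars k) (f'.restrictScalars k) (Cx.tπ (bigCx EM) (bigCx EN) n (TW.val ψ z)) from ?_]
  · exact Proj.diag_map_comm (G := bigProj EM) (G' := bigProj EN) hfp hfp' _
  · generalize TW.val ψ z = w
    induction w using TensorProduct.induction_on with
    | zero => simp
    | tmul x y =>
      simp only [Cx.tπ_decomp, map_sum, TensorProduct.map_tmul]
      refine Finset.sum_congr rfl fun p _ => ?_
      show termProj EM p.1 (f x) ⊗ₜ[k] termProj EN p.2 (f' y) = f (termProj EM p.1 x) ⊗ₜ[k] f' (termProj EN p.2 y)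
      rw [hf, hf']
    | add a b ha hb => simp only [map_add, ha, hb]

theorem diag_tπ_comm (n : ℕ) (w : Big EM ⊗[k] Big EN) :
    Proj.diag (bigProj EM) (bigProj EN) (Cx.tπ (bigCx EM) (bigCx EN) n w) =
      Cx.tπ (bigCx EM) (bigCx EN) n (Proj.diag (bigProj EM) (bigProj EN) w) := by
  rw [Cx.tπ_decomp, Cx.tπ_decomp, map_sum]
  refine Finset.sum_congr rfl fun p _ => ?_
  refine Proj.diag_map_comm (e := 0) (fun g x => ?_) (fun g x => ?_) w
  · rw [add_zero]; exact bigP_termProj EM g p.1 x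
  · rw [add_zero]; exact bigP_termProj EN g p.2 x

theorem diag_tD_comm (w : Big EM ⊗[k] Big EN) :
    Proj.diag (bigProj EM) (bigProj EN) (Cx.tD (bigCx EM) (bigCx EN) w) =
      Cx.tD (bigCx EM) (bigCx EN) (Proj.diag (bigProj EM) (bigProj EN) w) := by
  simp only [Cx.tD, LinearMap.add_apply, map_add]
  congr 1
  · exact Proj.diag_map_comm (e := 0) (fun g x => by rw [add_zero]; exact bigP_bigD EM g x)
      (fun g x => by rw [add_zero]; rfl) w
  · exact Proj.diag_map_comm (e := 0) (fun g x => by rw [add_zero]; exact bigP_bigSign EM g x)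
      (fun g x => by rw [add_zero]; exact bigP_bigD EN g x) w

theorem pp_tD_comm (g : ℤ) (w : Big EM ⊗[k] Big EN) :
    Proj.pp (bigProj EM) (bigProj EN) g (Cx.tD (bigCx EM) (bigCx EN) w) =
      Cx.tD (bigCx EM) (bigCx EN) (Proj.pp (bigProj EM) (bigProj EN) g w) := by
  simp only [Cx.tD, LinearMap.add_apply, map_add]
  congr 1
  · have h := Proj.pp_map_comm (G := bigProj EM) (G' := bigProj EN) (e := 0)
      (f := (bigD EM).restrictScalars k) (f' := LinearMap.id)
      (fun g x => by rw [add_zero]; exact bigP_bigD EM g x) (fun g x => by rw [add_zero]; rfl) g w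
    rwa [add_zero] at h
  · have h := Proj.pp_map_comm (G := bigProj EM) (G' := bigProj EN) (e := 0)
      (f := (bigSign EM).restrictScalars k) (f' := (bigD EN).restrictScalars k)
      (fun g x => by rw [add_zero]; exact bigP_bigSign EM g x)
      (fun g x => by rw [add_zero]; exact bigP_bigD EN g x) g w
    rwa [add_zero] at h

theorem pp_tπ_comm (g : ℤ) (n : ℕ) (w : Big EM ⊗[k] Big EN) :
    Proj.pp (bigProj EM) (bigProj EN) g (Cx.tπ (bigCx EM) (bigCx EN) n w) =
      Cx.tπ (bigCx EM) (bigCx EN) n (Proj.pp (bigProj EM) (bigProj EN) g w) := by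
  rw [Cx.tπ_decomp, Cx.tπ_decomp, map_sum]
  refine Finset.sum_congr rfl fun p _ => ?_
  have h := Proj.pp_map_comm (G := bigProj EM) (G' := bigProj EN) (e := 0)
    (f := (bigCx EM).π p.1) (f' := (bigCx EN).π p.2)
    (fun g x => by rw [add_zero]; exact bigP_termProj EM g p.1 x)
    (fun g x => by rw [add_zero]; exact bigP_termProj EN g p.2 x) g w
  rwa [add_zero] at h

theorem val_sel (n : ℕ) (z : Amb ψ EM EN) : TW.val ψ (sel H EM EN n z) =
    Proj.diag (bigProj EM) (bigProj EN) (Cx.tπ (bigCx EM) (bigCx EN) n (TW.val ψ z)) := by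
  rw [sel, LinearMap.comp_apply, val_dia, val_totPi]

theorem sel_sel (n : ℕ) (z : Amb ψ EM EN) : sel H EM EN n (sel H EM EN n z) = sel H EM EN n z := by
  apply (TW.val ψ).injective
  rw [val_sel, val_sel, ← diag_tπ_comm, Proj.diag_diag]
  congr 1
  exact (Cx.tensor (bigCx EM) (bigCx EN)).π_self n _

/-- The selected part of a total degree. -/
noncomputable def Yn (n : ℕ) : Submodule T (Amb ψ EM EN) := LinearMap.range (sel H EM EN n)

theorem sel_of_mem {n : ℕ} {z : Amb ψ EM EN} (hz : z ∈ Yn H EM EN n) : sel H EM EN n z = z := by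
  obtain ⟨w, rfl⟩ := hz
  exact sel_sel H EM EN n w

theorem degP_sel (g : ℤ) (n : ℕ) (z : Amb ψ EM EN) :
    degP EM EN g (sel H EM EN n z) = sel H EM EN n (degP EM EN g z) := by
  apply (TW.val ψ).injective
  rw [val_degP, val_sel, val_sel, val_degP, Proj.pp_diag, ← pp_tπ_comm, Proj.diag_pp]

theorem degP_mem {g : ℤ} {n : ℕ} {z : Amb ψ EM EN} (hz : z ∈ Yn H EM EN n) :
    degP EM EN g z ∈ Yn H EM EN n := by
  rw [← sel_of_mem H EM EN hz, degP_sel]
  exact ⟨_, rfl⟩

/-- The pieces of a term. -/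
noncomputable def yPieces (n : ℕ) : ℤ → AddSubgroup (Yn H EM EN n) := fun g =>
  ((degP EM EN g - AddMonoidHom.id _).comp (Yn H EM EN n).subtype.toAddMonoidHom).ker

theorem mem_yPieces {n : ℕ} {g : ℤ} {z : Yn H EM EN n} :
    z ∈ yPieces H EM EN n g ↔ degP EM EN g (z : Amb ψ EM EN) = z := by
  rw [yPieces, AddMonoidHom.mem_ker]
  exact sub_eq_zero

theorem degP_degP (g h : ℤ) (z : Amb ψ EM EN) :
    degP EM EN g (degP EM EN h z) = if g = h then degP EM EN h z else 0 := by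
  apply (TW.val ψ).injective
  rw [val_degP, val_degP, Proj.pp_pp]
  split_ifs <;> rfl

theorem yPieces_isInternal (n : ℕ) : DirectSum.IsInternal (yPieces H EM EN n) := by
  refine isInternal_of_proj (yPieces H EM EN n)
    (fun g => ((degP EM EN g).comp (Yn H EM EN n).subtype.toAddMonoidHom).codRestrict (Yn H EM EN n)
      fun z => degP_mem H EM EN z.2)
    (fun g x hx => Subtype.ext ((mem_yPieces H EM EN).1 hx)) (fun g h hne x hx => Subtype.ext ?_) fun x => ?_
  · show degP EM EN g (x : Amb ψ EM EN) = 0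
    rw [← (mem_yPieces H EM EN).1 hx, degP_degP, if_neg (Ne.symm hne)]
  · obtain ⟨s, hs⟩ := Proj.exists_sum_pp (bigProj EM) (bigProj EN) (TW.val ψ (x : Amb ψ EM EN))
    have hx : x = ∑ g ∈ s, (⟨degP EM EN g x, degP_mem H EM EN x.2⟩ : Yn H EM EN n) := by
      refine Subtype.ext ?_
      rw [AddSubmonoidClass.coe_finset_sum]
      apply (TW.val ψ).injective
      rw [map_sum]
      refine Eq.trans ?_ hs
      have h := val_sel H EM EN n (x : Amb ψ EM EN)
      rw [sel_of_mem H EM EN x.2] at h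
      nth_rw 2 [h]
      rw [Proj.diag_diag, ← h]
    rw [hx]
    exact AddSubgroup.sum_mem _ fun g _ => AddSubgroup.mem_iSup_of_mem g
      ((mem_yPieces H EM EN).2 (by rw [degP_degP, if_pos rfl]))

include H in
theorem degP_smul {e : ℤ} {t : T} (ht : t ∈ 𝒯 e) (g : ℤ) (z : Amb ψ EM EN) :
    degP EM EN (g + e) (t • z) = t • degP EM EN g z := by
  apply (TW.val ψ).injective
  rw [val_degP, TW.val_smul ψ t (degP EM EN g z), val_degP]
  exact pp_smul H.deg (bigP_smul EM) (bigP_smul EN) ht g z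

/-- The terms of the resolution. -/
noncomputable def yG (n : ℕ) : GrLC.GMod.{u} 𝒯 :=
  letI := (yPieces_isInternal H EM EN n).chooseDecomposition
  haveI : SetLike.GradedSMul 𝒯 (yPieces H EM EN n) := ⟨fun {e g t z} ht hz => by
    rw [vadd_eq_add, mem_yPieces, Submodule.coe_smul, add_comm, degP_smul H EM EN ht,
      (mem_yPieces H EM EN).1 hz]⟩
  GrLC.GMod.of 𝒯 (Yn H EM EN n) (yPieces H EM EN n)

theorem totD_sel (n : ℕ) (z : Amb ψ EM EN) :
    totD ψ EM EN (sel H EM EN n z) = sel H EM EN (n + 1) (totD ψ EM EN z) := by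
  apply (TW.val ψ).injective
  rw [val_totD, val_sel, val_sel, val_totD, ← diag_tD_comm]
  congr 1
  exact ((Cx.tensor (bigCx EM) (bigCx EN)).d_π n _).symm

theorem totD_degP (g : ℤ) (z : Amb ψ EM EN) :
    totD ψ EM EN (degP EM EN g z) = degP EM EN g (totD ψ EM EN z) := by
  apply (TW.val ψ).injective
  rw [val_totD, val_degP, val_degP, val_totD, pp_tD_comm]

theorem totD_mem (n : ℕ) {z : Amb ψ EM EN} (hz : z ∈ Yn H EM EN n) :
    totD ψ EM EN z ∈ Yn H EM EN (n + 1) := by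
  rw [← sel_of_mem H EM EN hz, totD_sel]
  exact ⟨_, rfl⟩

/-- The differentials. -/
noncomputable def yD (n : ℕ) : (yG H EM EN n).carrier →ₗ[T] (yG H EM EN (n + 1)).carrier :=
  (totD ψ EM EN ∘ₗ (Yn H EM EN n).subtype).codRestrict (Yn H EM EN (n + 1)) fun z => totD_mem H EM EN n z.2

theorem yD_grHom (n : ℕ) : GrLC.IsGrHom (yG H EM EN n).gr (yG H EM EN (n + 1)).gr (yD H EM EN n) :=
  fun g z hz => (mem_yPieces H EM EN).2 (by
    show degP EM EN g (totD ψ EM EN z.1) = totD ψ EM EN z.1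
    rw [← totD_degP, (mem_yPieces H EM EN).1 hz])

include H in
/-- An element of the Segre product inverting a pair of invertible pieces. -/
theorem exists_pieces_inverse {i j : ℕ} {P : (EM.X i).carrier →ₗ[R] (EM.X i).carrier}
    {Q : (EN.X j).carrier →ₗ[S] (EN.X j).carrier} (hP : IsInvPiece mR.toIdeal P)
    (hQ : IsInvPiece mS.toIdeal Q) :
    ∃ (t : T) (δ : ℤ), t ∈ mT.toIdeal ∧ ∀ N : ℕ, 0 < N → ∃ (U : Big EM →ₗ[R] Big EM) (U' : Big EN →ₗ[S] Big EN),
      (∀ z : Amb ψ EM EN, TW.map ψ U U' (t ^ N • z) = TW.map ψ (termMap EM i P) (termMap EN j Q) z) ∧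
      (∀ n z, termProj EM n (U z) = U (termProj EM n z)) ∧
      (∀ n z, termProj EN n (U' z) = U' (termProj EN n z)) ∧
      (∀ g z, U (bigP EM g z) = bigP EM (g + (N : ℤ) * δ) (U z)) ∧
      ∀ g z, U' (bigP EN g z) = bigP EN (g + (N : ℤ) * δ) (U' z) := by
  obtain ⟨e, c, he, hce, -, hU⟩ := exists_inverse_pow EM hP
  obtain ⟨e', c', he', hce', -, hU'⟩ := exists_inverse_pow EN hQ
  obtain ⟨a, rfl⟩ : ∃ a : ℕ, e = a := ⟨e.toNat, (Int.toNat_of_nonneg he.le).symm⟩
  obtain ⟨b, rfl⟩ : ∃ b : ℕ, e' = b := ⟨e'.toNat, (Int.toNat_of_nonneg he'.le).symm⟩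
  have ha : 0 < a := by omega
  have hb : 0 < b := by omega
  have hmem : (c ^ b) ⊗ₜ[k] (c' ^ a) ∈ GrSeg.segrePiece k 𝒜 ℬ ((a * b : ℕ) : ℤ) := by
    refine Submodule.subset_span ⟨_, ?_, _, ?_, rfl⟩
    · have h := SetLike.pow_mem_graded (A := 𝒜) b hce
      rwa [show b • ((a : ℕ) : ℤ) = ((a * b : ℕ) : ℤ) by push_cast; rw [nsmul_eq_mul]; ring] at h
    · have h := SetLike.pow_mem_graded (A := ℬ) a hce'
      rwa [show a • ((b : ℕ) : ℤ) = ((a * b : ℕ) : ℤ) by push_cast; rw [nsmul_eq_mul]] at h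
  rw [← H.deg] at hmem
  obtain ⟨t, ht, hte⟩ := hmem
  refine ⟨t, -((a * b : ℕ) : ℤ), ?_, fun N hN => ?_⟩
  · rw [H.hmT]
    exact Ideal.subset_span (Set.mem_iUnion₂.2 ⟨_, Set.mem_Ioi.2 (by exact_mod_cast Nat.mul_pos ha hb), ht⟩)
  obtain ⟨U, hU1, hU2, hU3⟩ := hU (b * N) (Nat.mul_pos hb hN)
  obtain ⟨U', hU'1, hU'2, hU'3⟩ := hU' (a * N) (Nat.mul_pos ha hN)
  refine ⟨U, U', fun z => (TW.val ψ).injective ?_, hU2, hU'2, fun g z => ?_, fun g z => ?_⟩
  · rw [TW.val_map, TW.val_map, TW.val_smul, map_pow, show ψ t = (c ^ b) ⊗ₜ[k] (c' ^ a) from hte,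
      Algebra.TensorProduct.tmul_pow, ← pow_mul, ← pow_mul]
    generalize TW.val ψ z = w
    induction w using TensorProduct.induction_on with
    | zero => simp
    | tmul x y =>
      rw [GrSeg.act_tmul, TensorProduct.map_tmul, TensorProduct.map_tmul, LinearMap.restrictScalars_apply,
        LinearMap.restrictScalars_apply, hU1, hU'1]
      rfl
    | add x y hx hy => simp only [map_add, hx, hy]
  · rw [hU3]; congr 2; push_cast; ring
  · rw [hU'3]; congr 2; push_cast; ring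

theorem gam_le_comap_map {f : Big EM →ₗ[R] Big EM} {f' : Big EN →ₗ[S] Big EN}
    (hf : (∀ x, f x ∈ GrLC.gam mR.toIdeal (Big EM)) ∨ ∀ y, f' y ∈ GrLC.gam mS.toIdeal (Big EN))
    (z : Amb ψ EM EN) :
    TW.val ψ (TW.map ψ f f' z) ∈ box ((GrLC.gam mR.toIdeal (Big EM)).restrictScalars k) ⊤ ⊔
      box ⊤ ((GrLC.gam mS.toIdeal (Big EN)).restrictScalars k) := by
  rw [TW.val_map]
  rcases hf with h | h
  · exact Submodule.mem_sup_left (map_mem_box (B := ⊤) _ _ h (fun _ => Submodule.mem_top) _)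
  · exact Submodule.mem_sup_right (map_mem_box (A := ⊤) _ _ (fun _ => Submodule.mem_top) h _)

theorem termMap_mem_gam (i : ℕ) {P : (EM.X i).carrier →ₗ[R] (EM.X i).carrier}
    (h : ∀ x, P x ∈ GrLC.gam mR.toIdeal (EM.X i).carrier) (z : Big EM) :
    termMap EM i P z ∈ GrLC.gam mR.toIdeal (Big EM) := map_gam (inc EM i) _ (h _)

theorem termMap_mem_gam' (j : ℕ) {Q : (EN.X j).carrier →ₗ[S] (EN.X j).carrier}
    (h : ∀ x, Q x ∈ GrLC.gam mS.toIdeal (EN.X j).carrier) (z : Big EN) :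
    termMap EN j Q z ∈ GrLC.gam mS.toIdeal (Big EN) := map_gam (inc EN j) _ (h _)

include H in
/-- A splitting of a pair of terms. -/
theorem exists_pair_split (i j : ℕ) :
    ∃ (n : ℕ) (n' : ℕ) (P : Fin n → (EM.X i).carrier →ₗ[R] (EM.X i).carrier)
      (Q : Fin n' → (EN.X j).carrier →ₗ[S] (EN.X j).carrier),
      (∀ z : Amb ψ EM EN, ∑ l : Fin n × Fin n', TW.map ψ (termMap EM i (P l.1)) (termMap EN j (Q l.2)) z =
        TW.map ψ (termProj EM i) (termProj EN j) z) ∧
      (∀ l x, P l (P l x) = P l x) ∧ (∀ l y, Q l (Q l y) = Q l y) ∧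
      (∀ l, GrLC.IsGrHom (EM.X i).gr (EM.X i).gr (P l)) ∧ (∀ l, GrLC.IsGrHom (EN.X j).gr (EN.X j).gr (Q l)) ∧
      ∀ l l', ((∀ x, P l x ∈ GrLC.gam mR.toIdeal (EM.X i).carrier) ∨
          ∀ y, Q l' y ∈ GrLC.gam mS.toIdeal (EN.X j).carrier) ∨
        (IsInvPiece mR.toIdeal (P l) ∧ IsInvPiece mS.toIdeal (Q l')) := by
  haveI := H.noethR
  haveI := H.noethS
  obtain ⟨s, hs, hspan⟩ := H.exists_generators_left
  obtain ⟨s', hs', hspan'⟩ := H.exists_generators_right
  obtain ⟨n, P, hP1, hP2, hP3, hP4⟩ := exists_split (EM.starInj i) s hs hspan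
  obtain ⟨n', Q, hQ1, hQ2, hQ3, hQ4⟩ := exists_split (EN.starInj j) s' hs' hspan'
  refine ⟨n, n', P, Q, fun z => (TW.val ψ).injective ?_, hP2, hQ2, hP3, hQ3, fun l l' => ?_⟩
  · rw [map_sum, TW.val_map]
    simp only [TW.val_map]
    generalize TW.val ψ z = w
    induction w using TensorProduct.induction_on with
    | zero => simp
    | tmul x y =>
      simp only [TensorProduct.map_tmul, LinearMap.restrictScalars_apply]
      rw [Fintype.sum_prod_type, ← sum_termMap EM i P hP1 x, ← sum_termMap EN j Q hQ1 y,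
        TensorProduct.sum_tmul]
      simp only [TensorProduct.tmul_sum]
    | add a b ha hb => simp only [map_add, Finset.sum_add_distrib, ha, hb]
  · rcases hP4 l with h | h
    · exact Or.inl (Or.inl h)
    · rcases hQ4 l' with h' | h'
      · exact Or.inl (Or.inr h')
      · exact Or.inr ⟨h, h'⟩

theorem map_pow_smul_mem_gam {t : T} (ht : t ∈ mT.toIdeal) {z : Amb ψ EM EN}
    (hz : z ∈ GrLC.gam mT.toIdeal (Amb ψ EM EN)) : ∃ N : ℕ, 0 < N ∧ t ^ N • z = 0 := by
  obtain ⟨N, hN⟩ := hz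
  exact ⟨N + 1, N.succ_pos, by rw [pow_succ', mul_smul, hN _ (Ideal.pow_mem_pow ht N), smul_zero]⟩

include H in
theorem totPi_mem_sup (n : ℕ) {z : Amb ψ EM EN} (hz : z ∈ GrLC.gam mT.toIdeal (Amb ψ EM EN)) :
    TW.val ψ (totPi ψ EM EN n z) ∈ box ((GrLC.gam mR.toIdeal (Big EM)).restrictScalars k) ⊤ ⊔
      box ⊤ ((GrLC.gam mS.toIdeal (Big EN)).restrictScalars k) := by
  rw [totPi, LinearMap.sum_apply, map_sum]
  refine Submodule.sum_mem _ fun p _ => ?_
  obtain ⟨m, m', P, Q, hsum, -, -, -, -, hcases⟩ := exists_pair_split H EM EN p.1 p.2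
  rw [← hsum z, map_sum]
  refine Submodule.sum_mem _ fun l _ => ?_
  rcases hcases l.1 l.2 with h | ⟨hP, hQ⟩
  · exact gam_le_comap_map EM EN (h.imp (fun h x => termMap_mem_gam EM p.1 h x)
      (fun h y => termMap_mem_gam' EN p.2 h y)) z
  · obtain ⟨t, δ, ht, hU⟩ := exists_pieces_inverse H EM EN hP hQ
    obtain ⟨N, hN, hN0⟩ := map_pow_smul_mem_gam EM EN ht hz
    obtain ⟨U, U', hUU, -⟩ := hU N hN
    rw [← hUU z, hN0, map_zero, map_zero]
    exact zero_mem _

include H in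
/-- Torsion over the Segre product. -/
theorem mem_gam_iff_sup (z : Amb ψ EM EN) :
    z ∈ GrLC.gam mT.toIdeal (Amb ψ EM EN) ↔
      TW.val ψ z ∈ box ((GrLC.gam mR.toIdeal (Big EM)).restrictScalars k) ⊤ ⊔
        box ⊤ ((GrLC.gam mS.toIdeal (Big EN)).restrictScalars k) := by
  refine ⟨fun hz => ?_, H.mem_gam_of_mem_sup⟩
  obtain ⟨s, hs⟩ := (Cx.tensor (bigCx EM) (bigCx EN)).exists_sum_π (TW.val ψ z)
  rw [← hs s subset_rfl]
  refine Submodule.sum_mem _ fun n _ => ?_
  have h := totPi_mem_sup H EM EN n hz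
  rwa [val_totPi] at h

/-- The selected part of a product of two pieces. -/
noncomputable def pairEndo (n i j : ℕ) (P : (EM.X i).carrier →ₗ[R] (EM.X i).carrier)
    (Q : (EN.X j).carrier →ₗ[S] (EN.X j).carrier) : (Yn H EM EN n) →ₗ[T] Yn H EM EN n :=
  (sel H EM EN n ∘ₗ TW.map ψ (termMap EM i P) (termMap EN j Q) ∘ₗ (Yn H EM EN n).subtype).codRestrict _
    fun _ => ⟨_, rfl⟩

theorem pairEndo_val (n i j : ℕ) (P : (EM.X i).carrier →ₗ[R] (EM.X i).carrier)
    (Q : (EN.X j).carrier →ₗ[S] (EN.X j).carrier) (z : Yn H EM EN n) :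
    (pairEndo H EM EN n i j P Q z : Amb ψ EM EN) =
      sel H EM EN n (TW.map ψ (termMap EM i P) (termMap EN j Q) (z : Amb ψ EM EN)) := rfl

theorem acyc_pairEndo_torsion (n i j : ℕ) {P : (EM.X i).carrier →ₗ[R] (EM.X i).carrier}
    {Q : (EN.X j).carrier →ₗ[S] (EN.X j).carrier}
    (h : (∀ x, P x ∈ GrLC.gam mR.toIdeal (EM.X i).carrier) ∨
      ∀ y, Q y ∈ GrLC.gam mS.toIdeal (EN.X j).carrier) :
    Acyc mT.toIdeal (LinearMap.range (pairEndo H EM EN n i j P Q)) := by
  haveI := H.noethT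
  refine acyc_of_torsion fun x => ?_
  have hmem : ((x : Yn H EM EN n) : Amb ψ EM EN) ∈ GrLC.gam mT.toIdeal (Amb ψ EM EN) := by
    obtain ⟨w, hw⟩ := x.2
    rw [← hw, pairEndo_val]
    exact map_gam (sel H EM EN n) _ (H.mem_gam_of_mem_sup (gam_le_comap_map EM EN
      (h.imp (fun h x => termMap_mem_gam EM i h x) (fun h y => termMap_mem_gam' EN j h y)) w.1))
  obtain ⟨N, hN⟩ := hmem
  exact ⟨N, fun r hr => Subtype.ext (Subtype.ext (hN r hr))⟩

theorem acyc_pairEndo_inv (n i j : ℕ) {P : (EM.X i).carrier →ₗ[R] (EM.X i).carrier}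
    {Q : (EN.X j).carrier →ₗ[S] (EN.X j).carrier} (hP : IsInvPiece mR.toIdeal P)
    (hQ : IsInvPiece mS.toIdeal Q) :
    Acyc mT.toIdeal (LinearMap.range (pairEndo H EM EN n i j P Q)) := by
  obtain ⟨t, δ, ht, hU⟩ := exists_pieces_inverse H EM EN hP hQ
  obtain ⟨U, U', hUU, hUn, hU'n, hUg, hU'g⟩ := hU 1 one_pos
  simp only [pow_one] at hUU
  have hcomm : ∀ w : Amb ψ EM EN, sel H EM EN n (TW.map ψ (termMap EM i P) (termMap EN j Q) w) =
      TW.map ψ (termMap EM i P) (termMap EN j Q) (sel H EM EN n w) :=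
    sel_map_comm H EM EN n (δ := 0) (fun m z => termProj_termMap EM i P m z)
      (fun m z => termProj_termMap EN j Q m z)
      (bigP_termMap EM i ((isGrHom_iff _ _).1 hP.2.1)) (bigP_termMap EN j ((isGrHom_iff _ _).1 hQ.2.1))
  have hcommU : ∀ w : Amb ψ EM EN, sel H EM EN n (TW.map ψ U U' w) = TW.map ψ U U' (sel H EM EN n w) :=
    sel_map_comm H EM EN n hUn hU'n hUg hU'g
  have hidem : ∀ w : Amb ψ EM EN, TW.map ψ (termMap EM i P) (termMap EN j Q)
      (TW.map ψ (termMap EM i P) (termMap EN j Q) w) = TW.map ψ (termMap EM i P) (termMap EN j Q) w := by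
    intro w
    apply (TW.val ψ).injective
    simp only [TW.val_map]
    generalize TW.val ψ w = v
    induction v using TensorProduct.induction_on with
    | zero => simp
    | tmul a b =>
      simp only [TensorProduct.map_tmul, LinearMap.restrictScalars_apply, termMap_comp]
      congr 1
      · exact congrArg (inc EM i) (hP.1 _)
      · exact congrArg (inc EN j) (hQ.1 _)
    | add a b ha hb => simp only [map_add, ha, hb]
  have hfix : ∀ x : LinearMap.range (pairEndo H EM EN n i j P Q),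
      TW.map ψ (termMap EM i P) (termMap EN j Q) ((x : Yn H EM EN n) : Amb ψ EM EN) =
        ((x : Yn H EM EN n) : Amb ψ EM EN) := by
    intro x
    obtain ⟨w, hw⟩ := x.2
    rw [← hw, pairEndo_val, ← hcomm, hidem]
  refine acyc_of_bijective ht ⟨fun x y hxy => ?_, fun x => ?_⟩
  · refine Subtype.ext (Subtype.ext ?_)
    rw [← hfix x, ← hfix y, ← hUU, ← hUU]
    have hxy' : t • ((x : Yn H EM EN n) : Amb ψ EM EN) = t • ((y : Yn H EM EN n) : Amb ψ EM EN) :=
      congrArg (fun v : LinearMap.range (pairEndo H EM EN n i j P Q) => ((v : Yn H EM EN n) : Amb ψ EM EN))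
        (hxy : t • x = t • y)
    exact congrArg (TW.map ψ U U') hxy'
  · have hmem : TW.map ψ U U' ((x : Yn H EM EN n) : Amb ψ EM EN) ∈ Yn H EM EN n :=
      ⟨TW.map ψ U U' ((x : Yn H EM EN n) : Amb ψ EM EN), by
        rw [hcommU, sel_of_mem H EM EN (x : Yn H EM EN n).2]⟩
    refine ⟨⟨pairEndo H EM EN n i j P Q ⟨_, hmem⟩, ⟨_, rfl⟩⟩, Subtype.ext (Subtype.ext ?_)⟩
    show t • (pairEndo H EM EN n i j P Q ⟨_, hmem⟩ : Amb ψ EM EN) = _
    rw [pairEndo_val, ← map_smul, ← map_smul, ← map_smul, hUU, hfix x, hfix x,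
      sel_of_mem H EM EN (x : Yn H EM EN n).2]

/-- The terms are acyclic. -/
theorem acyc_yG (n : ℕ) : Acyc mT.toIdeal (yG H EM EN n).carrier := by
  classical
  choose m m' P Q hsum _hPP _hQQ _hPg _hQg hcases using fun p : ℕ × ℕ => exists_pair_split H EM EN p.1 p.2
  show Acyc mT.toIdeal (Yn H EM EN n)
  let s : Finset (Σ p : ℕ × ℕ, Fin (m p) × Fin (m' p)) :=
    (Finset.HasAntidiagonal.antidiagonal n).sigma fun _ => Finset.univ
  refine acyc_of_endos s (fun l => pairEndo H EM EN n l.1.1 l.1.2 (P l.1 l.2.1) (Q l.1 l.2.2))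
    (fun z => Subtype.ext ?_) (fun l _ => ?_)
  · rw [AddSubmonoidClass.coe_finset_sum]
    simp only [pairEndo_val]
    rw [← map_sum, Finset.sum_sigma]
    simp only [hsum]
    rw [← LinearMap.sum_apply, ← totPi]
    refine Eq.trans ?_ (sel_of_mem H EM EN z.2)
    apply (TW.val ψ).injective
    rw [val_sel, val_sel, val_totPi]
    congr 1
    exact (Cx.tensor (bigCx EM) (bigCx EN)).π_self n _
  · rcases hcases l.1 l.2.1 l.2.2 with h | ⟨hP, hQ⟩
    · exact acyc_pairEndo_torsion H EM EN n _ _ h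
    · exact acyc_pairEndo_inv H EM EN n _ _ hP hQ

end Groth.Agent.GrKunnethLib
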