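import Mathlib
import Groth.Prelude.Def_GrSeg
import Groth.Agent.GrInjLib.QuasiRegular
import Groth.Agent.GrKunnethLib.Tot

/-!
# The product of two resolutions resolves the Segre product
-/

set_option autoImplicit false
set_option linter.style.haveILetI false
set_option linter.unusedSectionVars false
set_option maxHeartbeats 1000000
universe u

open scoped TensorProduct
open DirectSum GrInjLib Groth.Agent.GrCoreLib

namespace Groth.Agent.GrKunnethLib

/-- The low degree of a resolution: cycles are the module and boundaries. -/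
theorem exists_cycle_eq {k R : Type u} [Field k] [CommRing R] [Algebra k R] {𝒜 : ℤ → Submodule k R}
    [GradedAlgebra 𝒜] {M : Type u} [AddCommGroup M] [Module R M] {τ : Type u} [SetLike τ M]
    [AddSubgroupClass τ M] {ℳ : ℤ → τ} [Decomposition ℳ] [SetLike.GradedSMul 𝒜 ℳ]
    (E : GrLC.StarInjRes 𝒜 ℳ) {x : Big E} (hx : bigD E x = 0) :
    ∃ m w, x = bigε E m + bigD E w := by
  classical
  obtain ⟨s, hs⟩ := (bigCx E).exists_sum_π x
  have key : ∀ n, ∃ m w, termProj E n x = bigε E m + bigD E w := by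
    intro n
    have h0 : bigD E (inc E n (coord E n x)) = 0 := by
      have h := (bigCx E).d_π n x
      have h2 : (bigCx E).π (n + 1) ((bigCx E).d x) = 0 := by
        rw [show (bigCx E).d x = 0 from hx, map_zero]
      exact h.symm.trans h2
    cases n with
    | zero =>
      rw [bigD_inc] at h0
      have h : E.d 0 (coord E 0 x) = 0 := inc_injective E _ (h0.trans (map_zero _).symm)
      rw [← LinearMap.mem_ker, E.exact_zero] at h
      obtain ⟨m, hm⟩ := h
      exact ⟨m, 0, by rw [map_zero, add_zero]; exact (congrArg (inc E 0) hm).symm⟩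
    | succ n =>
      obtain ⟨y, hy⟩ := exact_bigD E h0
      exact ⟨0, inc E n y, by rw [map_zero, zero_add]; exact hy.symm⟩
  choose m w hmw using key
  refine ⟨∑ n ∈ s, m n, ∑ n ∈ s, w n, ?_⟩
  rw [map_sum, map_sum, ← Finset.sum_add_distrib]
  conv_lhs => rw [← hs s subset_rfl]
  exact Finset.sum_congr rfl fun n _ => hmw n

theorem bigD_bigε {k R : Type u} [Field k] [CommRing R] [Algebra k R] {𝒜 : ℤ → Submodule k R}
    [GradedAlgebra 𝒜] {M : Type u} [AddCommGroup M] [Module R M] {τ : Type u} [SetLike τ M]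
    [AddSubgroupClass τ M] {ℳ : ℤ → τ} [Decomposition ℳ] [SetLike.GradedSMul 𝒜 ℳ]
    (E : GrLC.StarInjRes 𝒜 ℳ) (m : M) : bigD E (bigε E m) = 0 := by
  show bigD E (inc E 0 (E.ε m)) = 0
  rw [bigD_inc, show E.d 0 (E.ε m) = 0 from (SetLike.ext_iff.1 E.exact_zero _).2 ⟨m, rfl⟩, map_zero]

theorem bigP_bigε {k R : Type u} [Field k] [CommRing R] [Algebra k R] {𝒜 : ℤ → Submodule k R}
    [GradedAlgebra 𝒜] {M : Type u} [AddCommGroup M] [Module R M] {τ : Type u} [SetLike τ M]
    [AddSubgroupClass τ M] {ℳ : ℤ → τ} [Decomposition ℳ] [SetLike.GradedSMul 𝒜 ℳ]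
    (E : GrLC.StarInjRes 𝒜 ℳ) {g : ℤ} {m : M} (hm : m ∈ ℳ g) (h : ℤ) :
    bigP E h (bigε E m) = if h = g then bigε E m else 0 := by
  show bigP E h (inc E 0 (E.ε m)) = _
  rw [bigP_inc]
  split_ifs with e
  · subst e; rw [proj_of_mem _ (E.ε_grHom _ _ hm)]; rfl
  · rw [proj_of_mem_ne _ (E.ε_grHom _ _ hm) (Ne.symm e), map_zero]

variable {k R S T : Type u} [Field k] [CommRing R] [CommRing S] [CommRing T] [Algebra k R]
  [Algebra k S] [Algebra k T] {𝒜 : ℤ → Submodule k R} [GradedAlgebra 𝒜] {ℬ : ℤ → Submodule k S}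
  [GradedAlgebra ℬ] {𝒯 : ℤ → Submodule k T} [GradedAlgebra 𝒯] {ψ : T →ₐ[k] R ⊗[k] S}
  {mR : HomogeneousIdeal 𝒜} {mS : HomogeneousIdeal ℬ} {mT : HomogeneousIdeal 𝒯}
  (H : Setting k R S T 𝒜 ℬ 𝒯 ψ mR mS mT)
  {M : Type u} [AddCommGroup M] [Module R M] [Module k M] [IsScalarTower k R M]
  {τM : Type u} [SetLike τM M] [AddSubgroupClass τM M]
  {ℳ : ℤ → τM} [Decomposition ℳ] [SetLike.GradedSMul 𝒜 ℳ] (EM : GrLC.StarInjRes 𝒜 ℳ)
  {N : Type u} [AddCommGroup N] [Module S N] [Module k N] [IsScalarTower k S N]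
  {τN : Type u} [SetLike τN N] [AddSubgroupClass τN N]
  {𝒩 : ℤ → τN} [Decomposition 𝒩] [SetLike.GradedSMul ℬ 𝒩] (EN : GrLC.StarInjRes ℬ 𝒩)
  {P : Type u} [AddCommGroup P] [Module T P] [Module k P] [IsScalarTower k T P]
  {τQ : Type u} [SetLike τQ P] [AddSubgroupClass τQ P]
  {𝒬 : ℤ → τQ} [Decomposition 𝒬] [SetLike.GradedSMul 𝒯 𝒬] {φ : P →ₗ[k] M ⊗[k] N}
  (hP : GrSeg.IsSegreMod ψ ℳ 𝒩 𝒬 φ)

/-- The product of the augmentations. -/
noncomputable def epsTensor : M ⊗[k] N →ₗ[k] Big EM ⊗[k] Big EN :=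
  TensorProduct.map ((bigε EM).restrictScalars k) ((bigε EN).restrictScalars k)

theorem epsTensor_injective : Function.Injective (epsTensor EM EN) := by
  obtain ⟨f, hf⟩ := LinearMap.exists_leftInverse_of_injective ((bigε EM).restrictScalars k)
    (LinearMap.ker_eq_bot.2 fun x y h => EM.ε_injective (inc_injective EM 0 h))
  obtain ⟨g, hg⟩ := LinearMap.exists_leftInverse_of_injective ((bigε EN).restrictScalars k)
    (LinearMap.ker_eq_bot.2 fun x y h => EN.ε_injective (inc_injective EN 0 h))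
  intro x y h
  have key : ∀ z, TensorProduct.map f g (epsTensor EM EN z) = z := fun z => by
    rw [epsTensor, ← LinearMap.comp_apply, ← TensorProduct.map_comp, hf, hg, TensorProduct.map_id,
      LinearMap.id_apply]
  rw [← key x, ← key y, h]

include H hP in
theorem pp_phi {g : ℤ} {p : P} (hp : p ∈ 𝒬 g) :
    Proj.pp (bigProj EM) (bigProj EN) g (epsTensor EM EN (φ p)) = epsTensor EM EN (φ p) ∧
      Cx.tπ (bigCx EM) (bigCx EN) 0 (epsTensor EM EN (φ p)) = epsTensor EM EN (φ p) := by
  have hmem : φ p ∈ GrSeg.segrePiece k ℳ 𝒩 g := by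
    have := (hP.image_piece g).subset ⟨p, hp, rfl⟩
    exact this
  have hle : GrSeg.segrePiece k ℳ 𝒩 g ≤
      LinearMap.eqLocus (Proj.pp (bigProj EM) (bigProj EN) g ∘ₗ epsTensor EM EN) (epsTensor EM EN) ⊓
      LinearMap.eqLocus (Cx.tπ (bigCx EM) (bigCx EN) 0 ∘ₗ epsTensor EM EN) (epsTensor EM EN) := by
    refine Submodule.span_le.2 ?_
    rintro _ ⟨a, ha, b, hb, rfl⟩
    refine ⟨?_, ?_⟩
    · show Proj.pp _ _ g (epsTensor EM EN (a ⊗ₜ[k] b)) = epsTensor EM EN (a ⊗ₜ[k] b)
      simp only [epsTensor, TensorProduct.map_tmul, LinearMap.restrictScalars_apply, Proj.pp]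
      show bigP EM g (bigε EM a) ⊗ₜ[k] bigP EN g (bigε EN b) = _
      rw [bigP_bigε EM ha, bigP_bigε EN hb, if_pos rfl, if_pos rfl]
    · show Cx.tπ (bigCx EM) (bigCx EN) 0 (epsTensor EM EN (a ⊗ₜ[k] b)) = epsTensor EM EN (a ⊗ₜ[k] b)
      simp only [epsTensor, TensorProduct.map_tmul, LinearMap.restrictScalars_apply]
      have h1 : (bigCx EM).π 0 (bigε EM a) = bigε EM a := congrArg (inc EM 0) (coord_inc EM 0 _)
      have h2 : (bigCx EN).π 0 (bigε EN b) = bigε EN b := congrArg (inc EN 0) (coord_inc EN 0 _)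
      rw [← h1, ← h2, Cx.tπ_tmul_π, if_pos rfl]
  exact hle hmem

include H hP in
theorem sel_phi (p : P) : sel H EM EN 0 ((TW.val ψ).symm (epsTensor EM EN (φ p))) =
    (TW.val ψ).symm (epsTensor EM EN (φ p)) := by
  induction p using DirectSum.Decomposition.inductionOn 𝒬 with
  | zero => simp
  | @homogeneous g x =>
    obtain ⟨h1, h2⟩ := pp_phi H EM EN hP x.2
    apply (TW.val ψ).injective
    rw [val_sel, LinearEquiv.apply_symm_apply, h2, ← h1, Proj.diag_pp]
  | add a b ha hb => simp only [map_add, ha, hb]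

/-- The augmentation. -/
noncomputable def yEps : P →ₗ[T] (yG H EM EN 0).carrier where
  toFun p := ⟨(TW.val ψ).symm (epsTensor EM EN (φ p)), ⟨_, sel_phi H EM EN hP p⟩⟩
  map_add' a b := Subtype.ext (by simp only [map_add]; rfl)
  map_smul' t p := Subtype.ext ((TW.val ψ).injective (by
    show TW.val ψ ((TW.val ψ).symm (epsTensor EM EN (φ (t • p)))) =
      TW.val ψ (t • (TW.val ψ).symm (epsTensor EM EN (φ p)))
    rw [TW.val_smul, LinearEquiv.apply_symm_apply, LinearEquiv.apply_symm_apply, hP.map_smul]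
    exact map_act (bigε EM) (bigε EN) _ _))

include H in
/-- Cycles of the product are augmented classes up to boundaries. -/
theorem exists_cycle_amb {z : Amb ψ EM EN} (hz : totD ψ EM EN z = 0) :
    ∃ (m : M ⊗[k] N) (w : Amb ψ EM EN),
      z = (TW.val ψ).symm (epsTensor EM EN m) + totD ψ EM EN w := by
  have hcz : TW.val ψ z ∈ (Cx.tensor (bigCx EM) (bigCx EN)).Z := by
    show Cx.tD _ _ _ = 0
    rw [← val_totD, hz, map_zero]
  obtain ⟨c, hc, w, hw⟩ := Cx.exists_cycle_decomp (bigCx EM) (bigCx EN) hcz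
  have hle : box (bigCx EM).Z (bigCx EN).Z ≤
      LinearMap.range (epsTensor EM EN) ⊔ LinearMap.range (Cx.tD (bigCx EM) (bigCx EN)) := by
    refine box_le fun x hx y hy => ?_
    obtain ⟨m, a, rfl⟩ := exists_cycle_eq EM (show bigD EM x = 0 from hx)
    obtain ⟨m', b, rfl⟩ := exists_cycle_eq EN (show bigD EN y = 0 from hy)
    rw [TensorProduct.add_tmul, TensorProduct.tmul_add]
    refine add_mem (add_mem (Submodule.mem_sup_left ⟨m ⊗ₜ[k] m', TensorProduct.map_tmul _ _ _ _⟩)
      (Submodule.mem_sup_right ?_)) (Submodule.mem_sup_right ?_)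
    · exact Cx.boundary_box_le (bigCx EM) (bigCx EN)
        (Submodule.mem_sup_right (tmul_mem_box (show bigD EM (bigε EM m) = 0 from bigD_bigε EM m) ⟨b, rfl⟩))
    · exact Cx.boundary_box_le (bigCx EM) (bigCx EN) (Submodule.mem_sup_left (tmul_mem_box ⟨a, rfl⟩ hy))
  obtain ⟨-, ⟨m, rfl⟩, -, ⟨w', rfl⟩, hsum⟩ := Submodule.mem_sup.1 (hle hc)
  refine ⟨m, (TW.val ψ).symm (w' + w), (TW.val ψ).injective ?_⟩
  rw [map_add, val_totD, LinearEquiv.apply_symm_apply, LinearEquiv.apply_symm_apply, map_add, hw,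
    ← hsum]
  abel

theorem totD_totD (z : Amb ψ EM EN) : totD ψ EM EN (totD ψ EM EN z) = 0 := by
  apply (TW.val ψ).injective
  rw [val_totD, val_totD, map_zero, Cx.tD_tD]

theorem totD_eps (m : M ⊗[k] N) : totD ψ EM EN ((TW.val ψ).symm (epsTensor EM EN m)) = 0 := by
  apply (TW.val ψ).injective
  rw [val_totD, LinearEquiv.apply_symm_apply, map_zero]
  induction m using TensorProduct.induction_on with
  | zero => simp
  | tmul a b =>
    simp only [epsTensor, TensorProduct.map_tmul, LinearMap.restrictScalars_apply, Cx.tD_tmul]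
    rw [show (bigCx EM).d (bigε EM a) = 0 from bigD_bigε EM a,
      show (bigCx EN).d (bigε EN b) = 0 from bigD_bigε EN b, TensorProduct.zero_tmul,
      TensorProduct.tmul_zero, add_zero]
  | add a b ha hb => simp only [map_add, ha, hb, add_zero]

include H hP in
theorem dia_eps (m : M ⊗[k] N) :
    ∃ p : P, sel H EM EN 0 ((TW.val ψ).symm (epsTensor EM EN m)) =
      (TW.val ψ).symm (epsTensor EM EN (φ p)) := by
  induction m using TensorProduct.induction_on with
  | zero => exact ⟨0, by simp⟩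
  | add a b ha hb =>
    obtain ⟨p, hp⟩ := ha
    obtain ⟨q, hq⟩ := hb
    exact ⟨p + q, by simp only [map_add, hp, hq]⟩
  | tmul a b =>
    induction a using DirectSum.Decomposition.inductionOn ℳ with
    | zero => exact ⟨0, by simp⟩
    | add a a' ha ha' =>
      obtain ⟨p, hp⟩ := ha
      obtain ⟨q, hq⟩ := ha'
      exact ⟨p + q, by simp only [TensorProduct.add_tmul, map_add, hp, hq]⟩
    | @homogeneous g a =>
      induction b using DirectSum.Decomposition.inductionOn 𝒩 with
      | zero => exact ⟨0, by simp⟩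
      | add b b' hb hb' =>
        obtain ⟨p, hp⟩ := hb
        obtain ⟨q, hq⟩ := hb'
        exact ⟨p + q, by simp only [TensorProduct.tmul_add, map_add, hp, hq]⟩
      | @homogeneous h b =>
        have h1 : (bigCx EM).π 0 (bigε EM (a : M)) = bigε EM (a : M) :=
          congrArg (inc EM 0) (coord_inc EM 0 _)
        have h2 : (bigCx EN).π 0 (bigε EN (b : N)) = bigε EN (b : N) :=
          congrArg (inc EN 0) (coord_inc EN 0 _)
        have h3 : (bigProj EM).p g (bigε EM (a : M)) = bigε EM (a : M) :=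
          (bigP_bigε EM a.2 g).trans (if_pos rfl)
        have h4 : (bigProj EN).p h (bigε EN (b : N)) = bigε EN (b : N) :=
          (bigP_bigε EN b.2 h).trans (if_pos rfl)
        have hdiag : TW.val ψ (sel H EM EN 0 ((TW.val ψ).symm (epsTensor EM EN ((a : M) ⊗ₜ[k] (b : N))))) =
            if g = h then bigε EM (a : M) ⊗ₜ[k] bigε EN (b : N) else 0 := by
          rw [val_sel, LinearEquiv.apply_symm_apply]
          simp only [epsTensor, TensorProduct.map_tmul, LinearMap.restrictScalars_apply]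
          rw [← h1, ← h2, Cx.tπ_tmul_π, if_pos rfl, h1, h2, ← h3, ← h4, Proj.diag_tmul, h3, h4]
        by_cases e : g = h
        · subst e
          obtain ⟨p, hp, hpe⟩ := (hP.image_piece g).superset
            (Submodule.subset_span ⟨(a : M), a.2, (b : N), b.2, rfl⟩)
          refine ⟨p, (TW.val ψ).injective ?_⟩
          rw [hdiag, if_pos rfl, LinearEquiv.apply_symm_apply, hpe]
          simp only [epsTensor, TensorProduct.map_tmul, LinearMap.restrictScalars_apply]
        · refine ⟨0, (TW.val ψ).injective ?_⟩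
          rw [hdiag, if_neg e]
          simp

/-- The diagonal part of the product of the resolutions. -/
noncomputable def yRes : GrRes 𝒯 (GrInjLib.addPieces 𝒬) where
  X := yG H EM EN
  d := yD H EM EN
  ε := yEps H EM EN hP
  d_grHom := yD_grHom H EM EN
  ε_grHom g p hp := (mem_yPieces H EM EN).2 ((TW.val ψ).injective (by
    rw [val_degP]
    exact (pp_phi H EM EN hP hp).1))
  ε_injective p q h := hP.injective (epsTensor_injective EM EN
    ((TW.val ψ).symm.injective (congrArg Subtype.val h)))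
  exact_zero := by
    refine le_antisymm (fun z hz => ?_) ?_
    · have hz' : totD ψ EM EN z.1 = 0 := congrArg Subtype.val hz
      obtain ⟨m, w, hw⟩ := exists_cycle_amb H EM EN hz'
      obtain ⟨p, hp⟩ := dia_eps H EM EN hP m
      refine ⟨p, Subtype.ext ?_⟩
      have h0 : sel H EM EN 0 (totD ψ EM EN w) = 0 := by
        apply (TW.val ψ).injective
        rw [val_sel, val_totD, map_zero, show Cx.tπ (bigCx EM) (bigCx EN) 0
          (Cx.tD (bigCx EM) (bigCx EN) (TW.val ψ w)) = 0 from (Cx.tensor (bigCx EM) (bigCx EN)).π_zero_d _,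
          map_zero]
      show (TW.val ψ).symm (epsTensor EM EN (φ p)) = z.1
      rw [← hp, ← sel_of_mem H EM EN z.2, hw, map_add, h0, add_zero]
    · rintro _ ⟨p, rfl⟩
      exact Subtype.ext (totD_eps EM EN _)
  exact_succ n := by
    refine le_antisymm (fun z hz => ?_) ?_
    · have hz' : totD ψ EM EN z.1 = 0 := congrArg Subtype.val hz
      obtain ⟨m, w, hw⟩ := exists_cycle_amb H EM EN hz'
      refine ⟨⟨sel H EM EN n w, ⟨w, rfl⟩⟩, Subtype.ext ?_⟩
      have h0 : sel H EM EN (n + 1) ((TW.val ψ).symm (epsTensor EM EN m)) = 0 := by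
        apply (TW.val ψ).injective
        rw [val_sel, LinearEquiv.apply_symm_apply, map_zero]
        suffices h : Cx.tπ (bigCx EM) (bigCx EN) (n + 1) (epsTensor EM EN m) = 0 by rw [h, map_zero]
        clear hw
        induction m using TensorProduct.induction_on with
        | zero => simp
        | tmul a b =>
          simp only [epsTensor, TensorProduct.map_tmul, LinearMap.restrictScalars_apply]
          rw [← show (bigCx EM).π 0 (bigε EM a) = bigε EM a from congrArg (inc EM 0) (coord_inc EM 0 _),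
            ← show (bigCx EN).π 0 (bigε EN b) = bigε EN b from congrArg (inc EN 0) (coord_inc EN 0 _),
            Cx.tπ_tmul_π, if_neg (by omega)]
        | add a b ha hb => simp only [map_add, ha, hb, add_zero]
      show totD ψ EM EN (sel H EM EN n w) = z.1
      rw [totD_sel, ← sel_of_mem H EM EN z.2, hw, map_add, h0, zero_add]
    · rintro _ ⟨w, rfl⟩
      exact Subtype.ext (totD_totD EM EN w.1)

end Groth.Agent.GrKunnethLib
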