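import Mathlib
import Groth.Agent.GrKunnethLib.Aug
import Groth.Agent.GrCoreLib.CoarseCoh

/-!
# Local cohomology of a Segre product through the product of resolutions
-/

set_option autoImplicit false
set_option linter.style.haveILetI false
set_option linter.unusedSectionVars false
set_option maxHeartbeats 1000000
universe u

open scoped TensorProduct
open DirectSum GrInjLib Groth.Agent.GrCoreLib

namespace Groth.Agent.GrKunnethLib

/-- Two maps out of a common module: the induced map from the image of the first. -/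
theorem exists_induced {A : Type u} [CommRing A] {L X Y : Type u} [AddCommGroup L] [Module A L]
    [AddCommGroup X] [Module A X] [AddCommGroup Y] [Module A Y] (f : L →ₗ[A] X) (g : L →ₗ[A] Y)
    (hf : Function.Surjective f) (h : ∀ c, f c = 0 ↔ g c = 0) :
    ∃ Θ : X →ₗ[A] Y, Function.Injective Θ ∧ ∀ c, Θ (f c) = g c := by
  let Θ : X →ₗ[A] Y :=
    (LinearMap.ker f).liftQ g (fun c hc => (h c).1 hc) ∘ₗ (f.quotKerEquivOfSurjective hf).symm.toLinearMap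
  have hΘ : ∀ c, Θ (f c) = g c := fun c => by
    simp only [Θ, LinearMap.comp_apply, LinearEquiv.coe_coe]
    rw [show (f.quotKerEquivOfSurjective hf).symm (f c) = Submodule.Quotient.mk c from
      (LinearEquiv.symm_apply_eq _).2 rfl]
    rfl
  refine ⟨Θ, (injective_iff_map_eq_zero Θ).2 fun x hx => ?_, hΘ⟩
  obtain ⟨c, rfl⟩ := hf x
  exact (h c).2 ((hΘ c).symm.trans hx)

variable {k R S T : Type u} [Field k] [CommRing R] [CommRing S] [CommRing T] [Algebra k R]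
  [Algebra k S] [Algebra k T] {𝒜 : ℤ → Submodule k R} [GradedAlgebra 𝒜] {ℬ : ℤ → Submodule k S}
  [GradedAlgebra ℬ] {𝒯 : ℤ → Submodule k T} [GradedAlgebra 𝒯] {ψ : T →ₐ[k] R ⊗[k] S}
  {mR : HomogeneousIdeal 𝒜} {mS : HomogeneousIdeal ℬ} {mT : HomogeneousIdeal 𝒯}
  (H : Setting k R S T 𝒜 ℬ 𝒯 ψ mR mS mT)
  {M : Type u} [AddCommGroup M] [Module R M] [Module k M] [IsScalarTower k R M]
  {τM : Type u} [SetLike τM M] [AddSubgroupClass τM M]
  {ℳ : ℤ → τM} [Decomposition ℳ] [SetLike.GradedSMul 𝒜 ℳ] (EM : GrLC.StarInjRes 𝒜 ℳ)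
  {N : Type u} [AddCommGroup N] [Module S N] [Module k N] [IsScalarTower k S N]
  {τN : Type u} [SetLike τN N] [AddSubgroupClass τN N]
  {𝒩 : ℤ → τN} [Decomposition 𝒩] [SetLike.GradedSMul ℬ 𝒩] (EN : GrLC.StarInjRes ℬ 𝒩)
  {P : Type u} [AddCommGroup P] [Module T P] [Module k P] [IsScalarTower k T P]
  {τQ : Type u} [SetLike τQ P] [AddSubgroupClass τQ P]
  {𝒬 : ℤ → τQ} [Decomposition 𝒬] [SetLike.GradedSMul 𝒯 𝒬] {φ : P →ₗ[k] M ⊗[k] N}
  (hP : GrSeg.IsSegreMod ψ ℳ 𝒩 𝒬 φ)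

variable (ψ) in
/-- The coboundaries of the torsion part of the ambient complex. -/
noncomputable def KD (mT : HomogeneousIdeal 𝒯) : Submodule T (Amb ψ EM EN) :=
  (GrLC.gam mT.toIdeal (Amb ψ EM EN)).map (totD ψ EM EN)

/-- Ambient cocycles of one bidegree. -/
def IsCocyc (q : ℕ) (d : ℤ) (z : Amb ψ EM EN) : Prop :=
  sel H EM EN q z = z ∧ degP EM EN d z = z ∧ totD ψ EM EN z = 0 ∧
    z ∈ GrLC.gam mT.toIdeal (Amb ψ EM EN)

theorem mem_gam_val {n : ℕ} {y : (yG H EM EN n).carrier} :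
    y ∈ GrLC.gam mT.toIdeal (yG H EM EN n).carrier ↔ y.1 ∈ GrLC.gam mT.toIdeal (Amb ψ EM EN) :=
  ⟨fun ⟨N, hN⟩ => ⟨N, fun r hr => congrArg Subtype.val (hN r hr)⟩,
    fun ⟨N, hN⟩ => ⟨N, fun r hr => Subtype.ext (hN r hr)⟩⟩

theorem mem_cobdy_iff {q : ℕ} {y : (yG H EM EN q).carrier} :
    y ∈ (yRes H EM EN hP).cobdy mT q ↔ y.1 ∈ KD ψ EM EN mT := by
  cases q with
  | zero =>
    constructor
    · intro h
      have h0 : y = 0 := h
      rw [h0]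
      exact zero_mem _
    · rintro ⟨w, -, hwe⟩
      show y ∈ (yRes H EM EN hP).cobdy mT 0
      suffices h0 : y = 0 by rw [h0]; exact zero_mem _
      refine Subtype.ext ?_
      rw [← sel_of_mem H EM EN y.2, ← hwe]
      apply (TW.val ψ).injective
      rw [val_sel, val_totD, show Cx.tπ (bigCx EM) (bigCx EN) 0
        (Cx.tD (bigCx EM) (bigCx EN) (TW.val ψ w)) = 0 from (Cx.tensor (bigCx EM) (bigCx EN)).π_zero_d _,
        map_zero]
      rfl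
  | succ n =>
    constructor
    · rintro ⟨w, hw, hwe⟩
      exact ⟨w.1, (mem_gam_val H EM EN).1 hw, congrArg Subtype.val hwe⟩
    · rintro ⟨w, hw, hwe⟩
      refine ⟨⟨sel H EM EN n w, ⟨w, rfl⟩⟩, (mem_gam_val H EM EN).2 (map_gam _ _ hw), Subtype.ext ?_⟩
      show totD ψ EM EN (sel H EM EN n w) = y.1
      rw [totD_sel, hwe, sel_of_mem H EM EN y.2]

include H hP in
/-- Graded local cohomology of the Segre product inside the ambient complex. -/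
theorem exists_H_amb (F : GrLC.StarInjRes 𝒯 𝒬) (q : ℕ) :
    ∃ Θ : F.H mT q →ₗ[T] (Amb ψ EM EN) ⧸ KD ψ EM EN mT, Function.Injective Θ ∧
      ∀ d : ℤ, (∀ x ∈ F.Hcomp mT q d, ∃ z, IsCocyc H EM EN q d z ∧ Θ x = Submodule.Quotient.mk z) ∧
        ∀ z, IsCocyc H EM EN q d z → ∃ x ∈ F.Hcomp mT q d, Θ x = Submodule.Quotient.mk z := by
  haveI := H.noethT
  obtain ⟨s, hs, hspan⟩ : ∃ s : Finset T, (s : Set T) ⊆ {x | SetLike.IsHomogeneousElem 𝒯 x} ∧
      mT.toIdeal = Ideal.span (s : Set T) := by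
    obtain ⟨s, hs, hspan⟩ := (Submodule.fg_span_iff_fg_span_finset_subset (R := T)
      (⋃ n ∈ Set.Ioi (0 : ℤ), (𝒯 n : Set T))).1 (IsNoetherian.noetherian _)
    exact ⟨s, fun c hc => by obtain ⟨n, hn, h⟩ := Set.mem_iUnion₂.1 (hs hc); exact ⟨n, h⟩,
      H.hmT.trans hspan⟩
  let Y := yRes H EM EN hP
  letI := (GrInjLib.addPieces_isInternal 𝒬).chooseDecomposition
  let F' : GrLC.StarInjRes 𝒯 (GrInjLib.addPieces 𝒬) := GrInjLib.addRes 𝒬 F
  obtain ⟨χ, hχg, hχc, hχb, hχs⟩ : ∃ χ : ∀ n, (Y.X n).carrier →ₗ[T] (F.X n).carrier,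
      (∀ n, GrLC.IsGrHom (Y.X n).gr (F.X n).gr (χ n)) ∧
      (∀ i, ∀ y ∈ Y.cocyc mT i, χ i y ∈ F.cocyc mT i) ∧
      (∀ i, ∀ y ∈ Y.cocyc mT i, (χ i y ∈ F.cobdy mT i ↔ y ∈ Y.cobdy mT i)) ∧
      ∀ i g, ∀ f ∈ F.cocyc mT i, f ∈ (F.X i).gr g →
        ∃ y ∈ Y.cocyc mT i, y ∈ (Y.X i).gr g ∧ f - χ i y ∈ F.cobdy mT i := by
    obtain ⟨χ, h1, h2, h3, h4⟩ :=
      exists_compare_acyc Y F' mT (S := {x | SetLike.IsHomogeneousElem 𝒯 x}) (le_refl _) s hs hspan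
        (fun n => acyc_yG H EM EN n)
    refine ⟨χ, h1, h2, fun i y hy => ?_, fun i g f hf hfg => ?_⟩
    · cases i <;> exact h3 _ y hy
    · cases i <;> exact h4 _ g f hf hfg
  let A : ↥(Y.cocyc mT q) →ₗ[T] F.H mT q :=
    F.toH mT q ∘ₗ (χ q ∘ₗ (Y.cocyc mT q).subtype).codRestrict _ fun y => hχc q y y.2
  let B : ↥(Y.cocyc mT q) →ₗ[T] (Amb ψ EM EN) ⧸ KD ψ EM EN mT :=
    (KD ψ EM EN mT).mkQ ∘ₗ (Yn H EM EN q).subtype ∘ₗ (Y.cocyc mT q).subtype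
  have hA : Function.Surjective A := by
    intro x
    obtain ⟨f, rfl⟩ := Submodule.mkQ_surjective _ x
    classical
    have hf : ∀ i, proj (F.X q).gr i f.1 ∈ F.cocyc mT q :=
      fun i => mem_homogeneous (F.X q).gr (cocyc_homogeneous F' mT q : (F.cocyc mT q).IsHomogeneous (F.X q).gr) f.2 i
    choose y hy1 hy2 hy3 using fun i => hχs q i _ (hf i) (proj_mem _ i f.1)
    refine ⟨⟨∑ i ∈ DFinsupp.support (decompose (F.X q).gr f.1), y i, Submodule.sum_mem _ fun i _ => hy1 i⟩, ?_⟩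
    symm
    refine (Submodule.Quotient.eq _).2 ?_
    show f.1 - χ q (∑ i ∈ DFinsupp.support (decompose (F.X q).gr f.1), y i) ∈ F.cobdy mT q
    nth_rw 1 [← DirectSum.sum_support_decompose (F.X q).gr f.1]
    rw [map_sum, ← Finset.sum_sub_distrib]
    exact Submodule.sum_mem _ fun i _ => hy3 i
  have hker : ∀ y : ↥(Y.cocyc mT q), A y = 0 ↔ B y = 0 := by
    intro y
    have h1 : A y = 0 ↔ y.1 ∈ Y.cobdy mT q :=
      (Submodule.Quotient.mk_eq_zero _).trans (hχb q y y.2)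
    exact h1.trans ((mem_cobdy_iff H EM EN hP).trans (Submodule.Quotient.mk_eq_zero _).symm)
  obtain ⟨Θ, hΘinj, hΘ⟩ := exists_induced A B hA hker
  refine ⟨Θ, hΘinj, fun d => ⟨?_, ?_⟩⟩
  · rintro _ ⟨f, hf, rfl⟩
    obtain ⟨y, hy1, hy2, hy3⟩ := hχs q d f.1 f.2 hf
    refine ⟨y.1, ⟨sel_of_mem H EM EN y.2, (mem_yPieces H EM EN).1 hy2, congrArg Subtype.val hy1.2,
      (mem_gam_val H EM EN).1 hy1.1⟩, ?_⟩
    have : F.toH mT q f = A ⟨y, hy1⟩ := (Submodule.Quotient.eq _).2 hy3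
    rw [this, hΘ]
    rfl
  · rintro z ⟨hz1, hz2, hz3, hz4⟩
    let y : (yG H EM EN q).carrier := ⟨z, ⟨z, hz1⟩⟩
    have hy : y ∈ Y.cocyc mT q := ⟨(mem_gam_val H EM EN).2 hz4, Subtype.ext hz3⟩
    refine ⟨A ⟨y, hy⟩, ⟨⟨χ q y, hχc q y hy⟩, hχg q d _ ((mem_yPieces H EM EN).2 hz2), rfl⟩, ?_⟩
    rw [hΘ]
    rfl

end Groth.Agent.GrKunnethLib
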