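import Mathlib
import Groth.Agent.GrKunnethLib.Les

/-!
# Subcomplexes, and the product of two acyclic complexes modulo torsion
-/

set_option autoImplicit false
set_option linter.unusedSectionVars false
set_option linter.style.haveILetI false
universe u

open scoped TensorProduct

namespace Groth.Agent.GrKunnethLib.Cx

variable {k : Type u} [Field k] {V W : Type u} [AddCommGroup V] [Module k V] [AddCommGroup W] [Module k W]

/-- A subcomplex. -/
noncomputable def sub (C : Cx k V) (A : Submodule k V) (h : C.Stable A) : Cx k A where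
  π n := ((C.π n) ∘ₗ A.subtype).codRestrict A fun x => h.π_mem n x x.2
  d := (C.d ∘ₗ A.subtype).codRestrict A fun x => h.d_mem x x.2
  σ := (C.σ ∘ₗ A.subtype).codRestrict A fun x => h.σ_mem x.2
  π_π n m x := Subtype.ext (by
    show C.π n (C.π m x) = ((if n = m then _ else 0 : A) : V)
    rw [C.π_π]
    split_ifs <;> rfl)
  span_range := by
    refine eq_top_iff.2 fun x hx => ?_
    clear hx
    obtain ⟨s, hs⟩ := C.exists_sum_π (x : V)
    have hx : x = ∑ n ∈ s, (⟨C.π n x, h.π_mem n x x.2⟩ : A) :=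
      Subtype.ext (by rw [AddSubmonoidClass.coe_finset_sum]; exact (hs s subset_rfl).symm)
    rw [hx]
    exact Submodule.sum_mem _ fun n _ => Submodule.mem_iSup_of_mem n ⟨x, rfl⟩
  d_π n x := Subtype.ext (C.d_π n x)
  π_zero_d x := Subtype.ext (C.π_zero_d x)
  σ_π n x := Subtype.ext (C.σ_π n x)
  d_d x := Subtype.ext (C.d_d x)

variable (C : Cx k V) (C' : Cx k W)

/-- The cycles of degree zero. -/
def Z0 : Submodule k V := C.Z ⊓ LinearMap.range (C.π 0)

/-- The cycles are boundaries in positive degrees. -/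
def ExactPos : Prop := ∀ n : ℕ, ∀ x ∈ C.Z, C.π (n + 1) x = x → x ∈ C.B

variable {C C'}

theorem ExactPos.Hgr_eq_bot (h : C.ExactPos) (n : ℕ) : C.Hgr (n + 1) = ⊥ := by
  rw [eq_bot_iff]
  rintro _ ⟨x, ⟨hx, hxn⟩, rfl⟩
  exact (Submodule.Quotient.mk_eq_zero _).2 (h n x hx (C.mem_range_π.1 hxn))

theorem ExactPos.tensor (h : C.ExactPos) (h' : C'.ExactPos) : (Cx.tensor C C').ExactPos := by
  intro n z hz hzn
  obtain ⟨e, -⟩ := exists_kunneth C C' (n + 1)
  have hbot : HHgr C C' (n + 1) = ⊥ := by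
    rw [eq_bot_iff]
    refine iSup₂_le fun p hp => box_le fun x hx y hy => ?_
    rw [Finset.HasAntidiagonal.mem_antidiagonal] at hp
    rw [Submodule.mem_bot]
    obtain ⟨i, j⟩ := p
    cases i with
    | zero =>
      obtain ⟨j, rfl⟩ : ∃ j', j = j' + 1 := ⟨n, by simpa using hp⟩
      rw [h'.Hgr_eq_bot j, Submodule.mem_bot] at hy
      rw [hy, TensorProduct.tmul_zero]
    | succ i =>
      rw [h.Hgr_eq_bot i, Submodule.mem_bot] at hx
      rw [hx, TensorProduct.zero_tmul]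
  have hsub : ∀ y : (Cx.tensor C C').Hgr (n + 1), y = 0 := fun y => e.injective (Subtype.ext (by
    have h2 := (e y).2
    simp only [hbot, Submodule.mem_bot] at h2
    rw [h2, map_zero]
    rfl))
  exact (Submodule.Quotient.mk_eq_zero _).1 (congrArg Subtype.val
    (hsub ⟨_, Submodule.mem_map_of_mem ⟨hz, (Cx.tensor C C').mem_range_π.2 hzn⟩⟩))

/-- Counting in a rank-nullity situation. -/
theorem finrank_add_of_surjective {X Y : Type u} [AddCommGroup X] [Module k X] [AddCommGroup Y]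
    [Module k Y] [FiniteDimensional k X] (f : X →ₗ[k] Y) (hf : Function.Surjective f) :
    FiniteDimensional k Y ∧ Module.finrank k Y + Module.finrank k (LinearMap.ker f) = Module.finrank k X := by
  refine ⟨Module.Finite.of_surjective f hf, ?_⟩
  have h := LinearMap.finrank_range_add_finrank_ker f
  rwa [LinearMap.range_eq_top.2 hf, finrank_top] at h

variable {T : Cx k V} {Q : Cx k W} {K : Submodule k V} (q : V →ₗ[k] W)

theorem map_cycles_eq_bot (hT : T.ExactPos) (hqd : ∀ x, q (T.d x) = Q.d (q x)) (n : ℕ) :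
    (T.Z ⊓ LinearMap.range (T.π (n + 1))).map (Q.B.mkQ ∘ₗ q) = ⊥ := by
  rw [eq_bot_iff]
  rintro _ ⟨c, ⟨hc, hcn⟩, rfl⟩
  obtain ⟨w, rfl⟩ := hT n c hc (T.mem_range_π.1 hcn)
  exact (Submodule.Quotient.mk_eq_zero _).2 ⟨q w, (hqd w).symm⟩

variable {q} (hq : Function.Surjective q) (hqd : ∀ x, q (T.d x) = Q.d (q x))
  (hqπ : ∀ n x, q (T.π n x) = Q.π n (q x)) (hK : K = LinearMap.ker q) (hT : T.ExactPos)

include hq hqd hqπ hK hT in
/-- In positive degrees the quotient complex computes the next degree of the kernel. -/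
theorem exists_connecting_equiv (n : ℕ) :
    ∃ e : Q.Hgr (n + 1) ≃ₗ[k] T.Hrel K (n + 1 + 1),
      ∀ (c : V) (hc : T.π (n + 1) c = c) (hdc : T.d c ∈ K) (hm : Q.B.mkQ (q c) ∈ Q.Hgr (n + 1)),
        (e ⟨Q.B.mkQ (q c), hm⟩ : V ⧸ K.map T.d) = (K.map T.d).mkQ (T.d c) := by
  obtain ⟨Φ, hΦ, hΦc, hker⟩ := exists_connecting q hq hqd hqπ hK (n + 1) (hT (n + 1))
  rw [map_cycles_eq_bot q hT hqd n] at hker
  have hinj : Function.Injective Φ := by
    refine (injective_iff_map_eq_zero Φ).2 fun y hy => Subtype.ext ?_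
    have h : (y : W ⧸ Q.B) ∈ (LinearMap.ker Φ).map (Q.Hgr (n + 1)).subtype :=
      ⟨y, LinearMap.mem_ker.2 hy, rfl⟩
    rw [hker] at h
    exact (Submodule.mem_bot k).1 h
  exact ⟨LinearEquiv.ofBijective Φ ⟨hinj, hΦ⟩, hΦc⟩

include hq hqd hqπ hK in
/-- In degree zero the quotient complex computes degree one of the kernel and the ambient cycles. -/
theorem finrank_connecting_zero (hT : T.ExactPos)
    (hinj : ∀ x ∈ T.Z0, Q.B.mkQ (q x) = 0 → x = 0) [FiniteDimensional k (Q.Hgr 0)] :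
    FiniteDimensional k (T.Hrel K 1) ∧ FiniteDimensional k T.Z0 ∧
      Module.finrank k (T.Hrel K 1) + Module.finrank k T.Z0 = Module.finrank k (Q.Hgr 0) := by
  obtain ⟨Φ, hΦ, -, hker⟩ := exists_connecting q hq hqd hqπ hK 0 (hT 0)
  obtain ⟨h1, h2⟩ := finrank_add_of_surjective Φ hΦ
  let f : T.Z0 →ₗ[k] W ⧸ Q.B := Q.B.mkQ ∘ₗ q ∘ₗ T.Z0.subtype
  have hf : Function.Injective f := (injective_iff_map_eq_zero f).2 fun x hx => Subtype.ext (hinj x x.2 hx)
  have hrange : LinearMap.range f = (LinearMap.ker Φ).map (Q.Hgr 0).subtype := by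
    rw [hker]
    ext y
    constructor
    · rintro ⟨x, rfl⟩; exact ⟨x, x.2, rfl⟩
    · rintro ⟨x, hx, rfl⟩; exact ⟨⟨x, hx⟩, rfl⟩
  let e : T.Z0 ≃ₗ[k] LinearMap.ker Φ := LinearEquiv.ofInjective f hf ≪≫ₗ LinearEquiv.ofEq _ _ hrange ≪≫ₗ
    ((Q.Hgr 0).equivSubtypeMap (LinearMap.ker Φ)).symm
  exact ⟨h1, Module.Finite.equiv e.symm, by rw [e.finrank_eq]; exact h2⟩

/-- In degree zero the kernel sees the ambient cycles lying in it. -/
theorem Hrel_zero_eq_bot (h : ∀ x ∈ T.Z0, x ∈ K → x = 0) : T.Hrel K 0 = ⊥ := by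
  rw [eq_bot_iff]
  rintro _ ⟨x, ⟨⟨hx, hxK⟩, hx0⟩, rfl⟩
  rw [h x ⟨hx, hx0⟩ hxK, map_zero]
  exact zero_mem _

theorem quot_map_surjective (A : Submodule k V) (A' : Submodule k W) :
    Function.Surjective (TensorProduct.map A.mkQ A'.mkQ) := map_mkQ_surjective A A'

variable {A : Submodule k V} {A' : Submodule k W}

theorem Z0_tensor (C : Cx k V) (C' : Cx k W) : (Cx.tensor C C').Z0 = box C.Z0 C'.Z0 := by
  refine le_antisymm (fun z hz => ?_) (box_le fun x hx y hy => ?_)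
  · obtain ⟨hz1, hz2⟩ := hz
    obtain ⟨c, hc, hcB⟩ := exists_Lgr_class C C' hz1 hz2
    have h0 : z - c = 0 := by
      obtain ⟨w, hw⟩ := hcB
      have hfix : (Cx.tensor C C').π 0 (z - c) = z - c := by
        rw [map_sub, (Cx.tensor C C').mem_range_π.1 hz2, (Cx.tensor C C').mem_range_π.1 hc.2]
      rw [← hfix, ← hw, (Cx.tensor C C').π_zero_d]
    rw [sub_eq_zero.1 h0]
    obtain ⟨hc1, hc2⟩ := hc
    rw [← (Cx.tensor C C').mem_range_π.1 hc2]
    show tπ C C' 0 c ∈ box C.Z0 C'.Z0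
    refine (box_le (P := (box C.Z0 C'.Z0).comap (tπ C C' 0)) fun x hx y hy => ?_) hc1
    simp only [Submodule.mem_comap, tπ_decomp, TensorProduct.map_tmul]
    refine Submodule.sum_mem _ fun p hp => ?_
    have hp' := Finset.HasAntidiagonal.mem_antidiagonal.1 hp
    obtain ⟨h1, h2⟩ : p.1 = 0 ∧ p.2 = 0 := by omega
    rw [h1, h2]
    exact tmul_mem_box ⟨C.π_mem_Z hx 0, x, rfl⟩ ⟨C'.π_mem_Z hy 0, y, rfl⟩
  · refine ⟨tmul_mem_Z C C' hx.1 hy.1, x ⊗ₜ[k] y, ?_⟩
    obtain ⟨-, a, rfl⟩ := hx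
    obtain ⟨-, b, rfl⟩ := hy
    show tπ C C' 0 _ = _
    rw [tπ_tmul_π, if_pos rfl]

/-- The degree zero cycles of a product inject into the product of quotients. -/
theorem tensor_inj_zero {C : Cx k V} {C' : Cx k W} (hA : C.Stable A) (hA' : C'.Stable A')
    (h : ∀ x ∈ C.Z0, x ∈ A → x = 0) (h' : ∀ y ∈ C'.Z0, y ∈ A' → y = 0) :
    ∀ z ∈ (Cx.tensor C C').Z0, (Cx.tensor (C.quot A hA) (C'.quot A' hA')).B.mkQ
      (TensorProduct.map A.mkQ A'.mkQ z) = 0 → z = 0 := by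
  intro z hz hq0
  obtain ⟨w, hw⟩ := (Submodule.Quotient.mk_eq_zero _).1 hq0
  have hz0 : TensorProduct.map A.mkQ A'.mkQ z = 0 := by
    have hfix := congrArg ((Cx.tensor (C.quot A hA) (C'.quot A' hA')).π 0) hw
    rw [(Cx.tensor (C.quot A hA) (C'.quot A' hA')).π_zero_d] at hfix
    have h3 := qq_tπ hA hA' 0 z
    rw [show Cx.tπ C C' 0 z = z from (Cx.tensor C C').mem_range_π.1 hz.2] at h3
    exact h3.trans hfix.symm
  rw [Z0_tensor] at hz
  obtain ⟨f, hf⟩ := LinearMap.exists_leftInverse_of_injective (A.mkQ ∘ₗ C.Z0.subtype)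
    (LinearMap.ker_eq_bot'.2 fun x hx => Subtype.ext (h x x.2 ((Submodule.Quotient.mk_eq_zero A).1 hx)))
  obtain ⟨g, hg⟩ := LinearMap.exists_leftInverse_of_injective (A'.mkQ ∘ₗ C'.Z0.subtype)
    (LinearMap.ker_eq_bot'.2 fun x hx => Subtype.ext (h' x x.2 ((Submodule.Quotient.mk_eq_zero A').1 hx)))
  have key : TensorProduct.map (C.Z0.subtype ∘ₗ f) (C'.Z0.subtype ∘ₗ g)
      (TensorProduct.map A.mkQ A'.mkQ z) = z := by
    rw [← LinearMap.comp_apply, ← TensorProduct.map_comp]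
    exact map_eq_self_of_mem_box
      (fun x hx => congrArg Subtype.val (LinearMap.congr_fun hf ⟨x, hx⟩))
      (fun y hy => congrArg Subtype.val (LinearMap.congr_fun hg ⟨y, hy⟩)) hz
  rw [← key, hz0, map_zero]

end Groth.Agent.GrKunnethLib.Cx
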