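import Mathlib
import Groth.Agent.GrKunnethLib.Aug
import Groth.Agent.GrKunnethLib.Sub

/-!
# One internal degree of a resolution
-/

set_option autoImplicit false
set_option linter.style.haveILetI false
set_option linter.unusedSectionVars false
universe u

open DirectSum GrInjLib

namespace Groth.Agent.GrKunnethLib

/-- An additive bijection compatible with an identification of the scalars preserves dimensions. -/
theorem finrank_eq_of_bij {K : Type u} {k : Type u} [CommRing K] [Field k] (i : k ≃+* K)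
    {X Y : Type u} [AddCommGroup X] [Module K X] [AddCommGroup Y] [Module k Y] (f : X ≃+ Y)
    (hf : ∀ (c : k) (x : X), f (i c • x) = c • f x) :
    Module.finrank K X = Module.finrank k Y := by
  have h := rank_eq_of_equiv_equiv i f.symm i.bijective (fun c y => f.injective (by
    rw [AddEquiv.apply_symm_apply, hf, AddEquiv.apply_symm_apply]))
  exact (congrArg Cardinal.toNat h).symm

/-- An additive bijection compatible with an identification of the scalars preserves finiteness. -/
theorem finite_of_bij {K : Type u} {k : Type u} [CommRing K] [Field k] (i : k ≃+* K)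
    {X Y : Type u} [AddCommGroup X] [Module K X] [AddCommGroup Y] [Module k Y] (f : X ≃+ Y)
    (hf : ∀ (c : k) (x : X), f (i c • x) = c • f x) [Module.Finite K X] : Module.Finite k Y := by
  haveI : RingHomSurjective i.symm.toRingHom := ⟨i.symm.surjective⟩
  let g : X →ₛₗ[i.symm.toRingHom] Y :=
    { toFun := f
      map_add' := map_add f
      map_smul' := fun r x => by
        obtain ⟨c, rfl⟩ := i.surjective r
        rw [hf]
        simp }
  exact Module.Finite.of_surjective g f.surjective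

variable {k R : Type u} [Field k] [CommRing R] [Algebra k R] {𝒜 : ℤ → Submodule k R} [GradedAlgebra 𝒜]
  {M : Type u} [AddCommGroup M] [Module R M] {τ : Type u} [SetLike τ M] [AddSubgroupClass τ M]
  {ℳ : ℤ → τ} [Decomposition ℳ] [SetLike.GradedSMul 𝒜 ℳ]

/-- The identification of the base field with the degree zero subring. -/
theorem exists_deg0_equiv [Nontrivial R] (h0 : 𝒜 0 = Submodule.span k {(1 : R)}) :
    ∃ i : k ≃+* GrLC.deg0 𝒜, ∀ c, (i c : R) = algebraMap k R c := by
  let f : k →+* GrLC.deg0 𝒜 :=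
    (algebraMap k R).codRestrict (GrLC.deg0 𝒜) fun c => SetLike.algebraMap_mem_graded 𝒜 c
  refine ⟨RingEquiv.ofBijective f ⟨?_, fun ⟨x, hx⟩ => ?_⟩, fun c => rfl⟩
  · intro a b h
    exact (algebraMap k R).injective (congrArg Subtype.val h)
  · have hx' : x ∈ 𝒜 0 := hx
    rw [h0, Submodule.mem_span_singleton] at hx'
    obtain ⟨c, rfl⟩ := hx'
    exact ⟨c, Subtype.ext (Algebra.algebraMap_eq_smul_one c)⟩

variable (E : GrLC.StarInjRes 𝒜 ℳ) (d : ℤ)

theorem stable_range_bigP : (bigCx E).Stable (LinearMap.range (bigP E d)) where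
  π_mem n := by
    rintro _ ⟨y, rfl⟩
    exact ⟨termProj E n y, (bigP_termProj E d n y).symm⟩
  d_mem := by
    rintro _ ⟨y, rfl⟩
    exact ⟨bigD E y, (bigP_bigD E d y).symm⟩

/-- One internal degree of a resolution. -/
noncomputable def degCx : Cx k (LinearMap.range (bigP E d)) :=
  (bigCx E).sub _ (stable_range_bigP E d)

/-- The torsion in one internal degree. -/
noncomputable def degGam (a : Ideal R) : Submodule k (LinearMap.range (bigP E d)) :=
  ((GrLC.gam a (Big E)).restrictScalars k).comap (LinearMap.range (bigP E d)).subtype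

theorem stable_degGam (a : Ideal R) : (degCx E d).Stable (degGam E d a) where
  π_mem n x hx := map_gam (termProj E n) _ hx
  d_mem x hx := map_gam (bigD E) _ hx

/-- One internal degree of the quotient complex by the torsion. -/
noncomputable def degQuot (a : Ideal R) : Cx k (LinearMap.range (bigP E d) ⧸ degGam E d a) :=
  (degCx E d).quot (degGam E d a) (stable_degGam E d a)

theorem bigP_inc_mem {n : ℕ} {x : (E.X n).carrier} (hx : x ∈ (E.X n).gr d) :
    inc E n x ∈ LinearMap.range (bigP E d) :=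
  ⟨inc E n x, by rw [bigP_inc, proj_of_mem _ hx]⟩

theorem coord_mem_gr {z : Big E} (hz : z ∈ LinearMap.range (bigP E d)) (n : ℕ) :
    coord E n z ∈ (E.X n).gr d := by
  obtain ⟨y, rfl⟩ := hz
  induction y using big_induction E with
  | h0 => rw [map_zero, map_zero]; exact zero_mem _
  | hadd a b ha hb => rw [map_add, map_add]; exact add_mem ha hb
  | hinc m x =>
    rw [bigP_inc]
    by_cases h : n = m
    · subst h; rw [coord_inc]; exact proj_mem _ _ _
    · rw [coord_inc_ne E h]; exact zero_mem _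

theorem degCx_π_eq {n : ℕ} {z : LinearMap.range (bigP E d)} (hz : (degCx E d).π n z = z) :
    (z : Big E) = inc E n (coord E n z) :=
  (congrArg Subtype.val hz).symm

theorem degCx_π_inc {n : ℕ} {x : (E.X n).carrier} (hx : x ∈ (E.X n).gr d) :
    (degCx E d).π n ⟨inc E n x, bigP_inc_mem E d hx⟩ = ⟨inc E n x, bigP_inc_mem E d hx⟩ :=
  Subtype.ext (congrArg (inc E n) (coord_inc E n x))

theorem exactPos_degCx : (degCx E d).ExactPos := by
  intro n z hz hzn
  have h0 : bigD E (inc E (n + 1) (coord E (n + 1) z)) = 0 := by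
    rw [← degCx_π_eq E d hzn]
    exact congrArg Subtype.val ((degCx E d).mem_Z.1 hz)
  obtain ⟨y, hy⟩ := exact_bigD E h0
  refine ⟨⟨bigP E d (inc E n y), ⟨_, rfl⟩⟩, Subtype.ext ?_⟩
  show bigD E (bigP E d (inc E n y)) = z
  rw [bigP_bigD, hy, ← degCx_π_eq E d hzn]
  obtain ⟨w, hw⟩ := z.2
  rw [← hw]
  exact (bigProj E).p_self d w

theorem mem_degGam_iff {a : Ideal R} {z : LinearMap.range (bigP E d)} {n : ℕ}
    (hz : (z : Big E) = inc E n (coord E n z)) :
    z ∈ degGam E d a ↔ coord E n z ∈ GrLC.gam a (E.X n).carrier := by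
  refine ⟨fun h => map_gam (coord E n) _ h, fun h => ?_⟩
  show (z : Big E) ∈ GrLC.gam a (Big E)
  rw [hz]
  exact map_gam (inc E n) _ h

/-- A degree of the torsion cohomology is a degree of graded local cohomology. -/
theorem exists_Hrel_addEquiv (a : HomogeneousIdeal 𝒜) (n : ℕ) :
    ∃ f : E.Hcomp a n d ≃+ (degCx E d).Hrel (degGam E d a.toIdeal) n,
      (∀ (c : k) (x : E.Hcomp a n d) (r : GrLC.deg0 𝒜), (r : R) = algebraMap k R c → f (r • x) = c • f x) ∧
      ∀ (z : E.cocyc a n) (hz : (z : (E.X n).carrier) ∈ (E.X n).gr d),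
        (f ⟨E.toH a n z, z, hz, rfl⟩ : LinearMap.range (bigP E d) ⧸ (degGam E d a.toIdeal).map (degCx E d).d) =
          Submodule.Quotient.mk ⟨inc E n z, bigP_inc_mem E d hz⟩ := by
  classical
  set K := (degGam E d a.toIdeal).map (degCx E d).d with hKdef
  have key : ∀ (z : E.cocyc a n) (hz : (z : (E.X n).carrier) ∈ (E.X n).gr d),
      E.toH a n z = 0 ↔ (⟨inc E n z, bigP_inc_mem E d hz⟩ : LinearMap.range (bigP E d)) ∈ K := by
    intro z hz
    rw [show E.toH a n z = 0 ↔ (z : (E.X n).carrier) ∈ E.cobdy a n from Submodule.Quotient.mk_eq_zero _]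
    constructor
    · intro h
      cases n with
      | zero =>
        have h0 : (z : (E.X 0).carrier) = 0 := h
        rw [show (⟨inc E 0 z, bigP_inc_mem E d hz⟩ : LinearMap.range (bigP E d)) = 0 from
          Subtype.ext (by show inc E 0 (z : (E.X 0).carrier) = 0; rw [h0, map_zero])]
        exact zero_mem _
      | succ m =>
        obtain ⟨w, hw, hwz⟩ := h
        refine ⟨⟨inc E m (proj (E.X m).gr d w), bigP_inc_mem E d (proj_mem _ _ _)⟩, ?_, Subtype.ext ?_⟩
        · exact map_gam (inc E m) _ (mem_homogeneous _ (gam_homogeneous _ a) hw d)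
        · show bigD E (inc E m (proj (E.X m).gr d w)) = inc E (m + 1) z
          rw [bigD_inc, ← proj_map₀ _ _ (E.d_grHom m), hwz, proj_of_mem _ hz]
    · rintro ⟨w, hw, hwz⟩
      have h := congrArg (fun v : LinearMap.range (bigP E d) => coord E n (v : Big E)) hwz
      simp only [coord_inc] at h
      rw [← h]
      show coord E n (bigD E w.1) ∈ E.cobdy a n
      have hw' : w.1 ∈ GrLC.gam a.toIdeal (Big E) := hw
      cases n with
      | zero =>
        have hc : termProj E 0 (bigD E w.1) = 0 := (bigCx E).π_zero_d w.1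
        rw [show coord E 0 (bigD E w.1) = 0 from inc_injective E 0 (hc.trans (map_zero _).symm)]
        exact zero_mem _
      | succ m =>
        refine ⟨coord E m w.1, map_gam (coord E m) _ hw', ?_⟩
        have h1 : termProj E (m + 1) (bigD E w.1) = bigD E (termProj E m w.1) := (bigCx E).d_π m w.1
        rw [show bigD E (termProj E m w.1) = inc E (m + 1) (E.d m (coord E m w.1)) from bigD_inc E m _] at h1
        exact (inc_injective E (m + 1) h1).symm
  have hwell : ∀ (z z' : E.cocyc a n) (hz : (z : (E.X n).carrier) ∈ (E.X n).gr d)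
      (hz' : (z' : (E.X n).carrier) ∈ (E.X n).gr d),
      (E.toH a n z = E.toH a n z' ↔ (Submodule.Quotient.mk (⟨inc E n z, bigP_inc_mem E d hz⟩ :
          LinearMap.range (bigP E d)) : _ ⧸ K) =
        Submodule.Quotient.mk ⟨inc E n z', bigP_inc_mem E d hz'⟩) := by
    intro z z' hz hz'
    rw [← sub_eq_zero, ← map_sub, key (z - z') (sub_mem hz hz'), Submodule.Quotient.eq]
    constructor <;> intro h <;> convert h using 1 <;> exact Subtype.ext (by simp [map_sub])
  choose rep hrep1 hrep2 using fun x : E.Hcomp a n d => x.2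
  have hmem : ∀ (z : E.cocyc a n) (hz : (z : (E.X n).carrier) ∈ (E.X n).gr d),
      (Submodule.Quotient.mk (⟨inc E n z, bigP_inc_mem E d hz⟩ : LinearMap.range (bigP E d)) : _ ⧸ K) ∈
        (degCx E d).Hrel (degGam E d a.toIdeal) n := by
    intro z hz
    refine ⟨⟨inc E n z, bigP_inc_mem E d hz⟩, ⟨⟨?_, map_gam (inc E n) _ z.2.1⟩,
      (degCx E d).mem_range_π.2 (degCx_π_inc E d hz)⟩, rfl⟩
    refine (degCx E d).mem_Z.2 (Subtype.ext ?_)
    show bigD E (inc E n z) = 0
    rw [bigD_inc, LinearMap.mem_ker.1 z.2.2, map_zero]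
  let f : E.Hcomp a n d →+ (degCx E d).Hrel (degGam E d a.toIdeal) n :=
    AddMonoidHom.mk' (fun x => ⟨_, hmem (rep x) (hrep1 x)⟩) fun x y => Subtype.ext (by
      show Submodule.Quotient.mk _ = Submodule.Quotient.mk _ + Submodule.Quotient.mk _
      rw [← Submodule.Quotient.mk_add]
      refine ((hwell (rep (x + y)) (rep x + rep y) (hrep1 _) (add_mem (hrep1 x) (hrep1 y))).1 ?_).trans ?_
      · rw [map_add, hrep2, hrep2, hrep2]; rfl
      · exact congrArg _ (Subtype.ext (map_add (inc E n) _ _)))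
  have hf : ∀ (z : E.cocyc a n) (hz : (z : (E.X n).carrier) ∈ (E.X n).gr d),
      (f ⟨E.toH a n z, z, hz, rfl⟩ : LinearMap.range (bigP E d) ⧸ K) =
        Submodule.Quotient.mk ⟨inc E n z, bigP_inc_mem E d hz⟩ :=
    fun z hz => (hwell _ _ (hrep1 _) hz).1 (hrep2 _)
  have hinj : Function.Injective f := by
    intro x y h
    have h' := (hwell _ _ (hrep1 x) (hrep1 y)).2 (congrArg Subtype.val h)
    rw [hrep2, hrep2] at h'
    exact Subtype.ext h'
  have hsurj : Function.Surjective f := by
    rintro ⟨_, v, ⟨⟨hvZ, hvK⟩, hvn⟩, rfl⟩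
    have hv := degCx_π_eq E d ((degCx E d).mem_range_π.1 hvn)
    have hvz : E.d n (coord E n (v : Big E)) = 0 := by
      have h := congrArg Subtype.val ((degCx E d).mem_Z.1 hvZ)
      change bigD E (v : Big E) = 0 at h
      rw [hv, bigD_inc] at h
      exact inc_injective E _ (h.trans (map_zero _).symm)
    refine ⟨⟨E.toH a n ⟨coord E n (v : Big E), (mem_degGam_iff E d hv).1 hvK, hvz⟩,
      _, coord_mem_gr E d v.2 n, rfl⟩,
      Subtype.ext ((hf ⟨coord E n (v : Big E), (mem_degGam_iff E d hv).1 hvK, hvz⟩ (coord_mem_gr E d v.2 n)).trans ?_)⟩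
    exact congrArg _ (Subtype.ext hv.symm)
  refine ⟨AddEquiv.ofBijective f ⟨hinj, hsurj⟩, fun c x r hr => Subtype.ext ?_, hf⟩
  show (Submodule.Quotient.mk _ : _ ⧸ K) = c • Submodule.Quotient.mk _
  rw [← Submodule.Quotient.mk_smul]
  have hrz : ((r • rep x : E.cocyc a n) : (E.X n).carrier) ∈ (E.X n).gr d := by
    rw [Submodule.coe_smul_of_tower]
    show (r : R) • (rep x : (E.X n).carrier) ∈ _
    rw [hr]
    exact piece_smul_algebraMap (E.X n) c (hrep1 x)
  refine ((hwell _ _ (hrep1 _) hrz).1 ?_).trans (congrArg _ (Subtype.ext ?_))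
  · rw [hrep2, LinearMap.map_smul_of_tower, hrep2]
    rfl
  · show inc E n ((r : R) • (rep x : (E.X n).carrier)) = c • inc E n (rep x : (E.X n).carrier)
    rw [map_smul, hr]
    rfl

theorem finrank_Hcomp [Nontrivial R] (h0 : 𝒜 0 = Submodule.span k {(1 : R)}) (a : HomogeneousIdeal 𝒜) (n : ℕ) :
    Module.finrank (GrLC.deg0 𝒜) (E.Hcomp a n d) =
      Module.finrank k ((degCx E d).Hrel (degGam E d a.toIdeal) n) := by
  obtain ⟨i, hi⟩ := exists_deg0_equiv h0
  obtain ⟨f, hf, -⟩ := exists_Hrel_addEquiv E d a n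
  exact finrank_eq_of_bij i f fun c x => hf c x (i c) (hi c)

theorem finite_Hrel [Nontrivial R] (h0 : 𝒜 0 = Submodule.span k {(1 : R)}) (a : HomogeneousIdeal 𝒜) (n : ℕ)
    [Module.Finite (GrLC.deg0 𝒜) (E.Hcomp a n d)] :
    FiniteDimensional k ((degCx E d).Hrel (degGam E d a.toIdeal) n) := by
  obtain ⟨i, hi⟩ := exists_deg0_equiv h0
  obtain ⟨f, hf, -⟩ := exists_Hrel_addEquiv E d a n
  exact finite_of_bij i f fun c x => hf c x (i c) (hi c)

section Module

variable [Module k M] [IsScalarTower k R M]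

variable (𝒜) in
include 𝒜 in
theorem piece_smul_k {g : ℤ} (c : k) {m : M} (hm : m ∈ ℳ g) : c • m ∈ ℳ g := by
  have h := SetLike.GradedSMul.smul_mem (A := 𝒜) (B := ℳ) (SetLike.algebraMap_mem_graded 𝒜 c) hm
  rwa [algebraMap_smul, zero_vadd] at h

variable (ℳ) in
/-- A piece as a subspace. -/
def kPiece (g : ℤ) (hsmul : ∀ (c : k) (m : M), m ∈ ℳ g → c • m ∈ ℳ g) : Submodule k M where
  carrier := (ℳ g : Set M)
  add_mem' := add_mem
  zero_mem' := zero_mem _
  smul_mem' := hsmul

/-- The degree zero cycles are the piece of the module. -/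
theorem exists_Z0_equiv :
    ∃ e : kPiece ℳ d (fun c _ hm => piece_smul_k 𝒜 c hm) ≃ₗ[k] (degCx E d).Z0,
      ∀ m, ((e m : LinearMap.range (bigP E d)) : Big E) = bigε E (m : M) := by
  let f : kPiece ℳ d (fun c _ hm => piece_smul_k 𝒜 c hm) →ₗ[k] (degCx E d).Z0 :=
    { toFun := fun m => ⟨⟨bigε E (m : M), bigP_inc_mem E d (E.ε_grHom _ _ m.2)⟩,
        (degCx E d).mem_Z.2 (Subtype.ext (bigD_bigε E _)),
        (degCx E d).mem_range_π.2 (degCx_π_inc E d (E.ε_grHom _ _ m.2))⟩
      map_add' := fun x y => Subtype.ext (Subtype.ext (map_add (bigε E) (x : M) y))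
      map_smul' := fun c x => Subtype.ext (Subtype.ext (by
        show bigε E (c • (x : M)) = c • bigε E (x : M)
        rw [← algebraMap_smul R c (x : M), map_smul]
        rfl)) }
  have hinj : Function.Injective f := fun x y h => Subtype.ext (E.ε_injective (inc_injective E 0
    (congrArg (fun v : (degCx E d).Z0 => ((v : LinearMap.range (bigP E d)) : Big E)) h)))
  have hsurj : Function.Surjective f := by
    rintro ⟨v, hvZ, hv0⟩
    have hv := degCx_π_eq E d ((degCx E d).mem_range_π.1 hv0)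
    have h0 : E.d 0 (coord E 0 (v : Big E)) = 0 := by
      have h := congrArg Subtype.val ((degCx E d).mem_Z.1 hvZ)
      change bigD E (v : Big E) = 0 at h
      rw [hv, bigD_inc] at h
      exact inc_injective E _ (h.trans (map_zero _).symm)
    rw [← LinearMap.mem_ker, E.exact_zero] at h0
    obtain ⟨m, hm⟩ := h0
    letI := (addPieces_isInternal ℳ).chooseDecomposition
    have hmd : proj (addPieces ℳ) d m ∈ ℳ d := proj_mem (addPieces ℳ) d m
    refine ⟨⟨_, hmd⟩, Subtype.ext (Subtype.ext ?_)⟩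
    show inc E 0 (E.ε (proj (addPieces ℳ) d m)) = (v : Big E)
    have h1 := proj_map₀ (addPieces ℳ) (E.X 0).gr (f := E.ε) E.ε_grHom m d
    rw [hm, proj_of_mem _ (coord_mem_gr E d v.2 0)] at h1
    rw [← h1, ← hv]
  exact ⟨LinearEquiv.ofBijective f ⟨hinj, hsurj⟩, fun m => rfl⟩

end Module

/-- Vanishing of the zeroth local cohomology in one degree. -/
theorem Z0_inf_degGam (a : HomogeneousIdeal 𝒜) (h : E.Hcomp a 0 d = ⊥) :
    ∀ x ∈ (degCx E d).Z0, x ∈ degGam E d a.toIdeal → x = 0 := by
  rintro v ⟨hvZ, hv0⟩ hvK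
  have hv := degCx_π_eq E d ((degCx E d).mem_range_π.1 hv0)
  have hz : E.d 0 (coord E 0 (v : Big E)) = 0 := by
    have h := congrArg Subtype.val ((degCx E d).mem_Z.1 hvZ)
    change bigD E (v : Big E) = 0 at h
    rw [hv, bigD_inc] at h
    exact inc_injective E _ (h.trans (map_zero _).symm)
  let z : E.cocyc a 0 := ⟨coord E 0 (v : Big E), (mem_degGam_iff E d hv).1 hvK, hz⟩
  have hmem : E.toH a 0 z ∈ E.Hcomp a 0 d := ⟨z, coord_mem_gr E d v.2 0, rfl⟩
  rw [h] at hmem
  have h1 : E.toH a 0 z = 0 := (Submodule.mem_bot _).1 hmem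
  have h0' := (Submodule.Quotient.mk_eq_zero ((E.cobdy a 0).comap (E.cocyc a 0).subtype)).1 h1
  have h0 : (z : (E.X 0).carrier) ∈ E.cobdy a 0 := h0'
  refine Subtype.ext ?_
  rw [hv, show coord E 0 (v : Big E) = 0 from h0, map_zero]
  rfl

/-- Positive degrees of the quotient complex compute higher local cohomology. -/
theorem exists_degQuot_equiv (a : Ideal R) (n : ℕ) :
    ∃ e : (degQuot E d a).Hgr (n + 1) ≃ₗ[k] (degCx E d).Hrel (degGam E d a) (n + 1 + 1),
      ∀ (c : LinearMap.range (bigP E d)) (hc : (degCx E d).π (n + 1) c = c)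
        (hdc : (degCx E d).d c ∈ degGam E d a)
        (hm : (degQuot E d a).B.mkQ ((degGam E d a).mkQ c) ∈ (degQuot E d a).Hgr (n + 1)),
        (e ⟨_, hm⟩ : LinearMap.range (bigP E d) ⧸ (degGam E d a).map (degCx E d).d) =
          ((degGam E d a).map (degCx E d).d).mkQ ((degCx E d).d c) :=
  Cx.exists_connecting_equiv (T := degCx E d) (Q := degQuot E d a)
    (Submodule.mkQ_surjective _) (fun x => rfl) (fun n x => rfl) (Submodule.ker_mkQ _).symm
    (exactPos_degCx E d) n

end Groth.Agent.GrKunnethLib
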