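import Mathlib
import Groth.Agent.GrKunnethLib.Cohom
import Groth.Agent.GrKunnethLib.Degree

/-!
# One degree of the local cohomology of a Segre product
-/

set_option autoImplicit false
set_option linter.style.haveILetI false
set_option linter.unusedSectionVars false
set_option maxHeartbeats 1000000
universe u

open scoped TensorProduct
open DirectSum GrInjLib

namespace Groth.Agent.GrKunnethLib

variable {k R S T : Type u} [Field k] [CommRing R] [CommRing S] [CommRing T] [Algebra k R]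
  [Algebra k S] [Algebra k T] {𝒜 : ℤ → Submodule k R} [GradedAlgebra 𝒜] {ℬ : ℤ → Submodule k S}
  [GradedAlgebra ℬ] {𝒯 : ℤ → Submodule k T} [GradedAlgebra 𝒯] {ψ : T →ₐ[k] R ⊗[k] S}
  {mR : HomogeneousIdeal 𝒜} {mS : HomogeneousIdeal ℬ} {mT : HomogeneousIdeal 𝒯}
  (H : Setting k R S T 𝒜 ℬ 𝒯 ψ mR mS mT)
  {M : Type u} [AddCommGroup M] [Module R M] [Module k M] [IsScalarTower k R M]
  {τM : Type u} [SetLike τM M] [AddSubgroupClass τM M]
  {ℳ : ℤ → τM} [Decomposition ℳ] [SetLike.GradedSMul 𝒜 ℳ] (EM : GrLC.StarInjRes 𝒜 ℳ)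
  {N : Type u} [AddCommGroup N] [Module S N] [Module k N] [IsScalarTower k S N]
  {τN : Type u} [SetLike τN N] [AddSubgroupClass τN N]
  {𝒩 : ℤ → τN} [Decomposition 𝒩] [SetLike.GradedSMul ℬ 𝒩] (EN : GrLC.StarInjRes ℬ 𝒩)
  {P : Type u} [AddCommGroup P] [Module T P] [Module k P] [IsScalarTower k T P]
  {τQ : Type u} [SetLike τQ P] [AddSubgroupClass τQ P]
  {𝒬 : ℤ → τQ} [Decomposition 𝒬] [SetLike.GradedSMul 𝒯 𝒬] {φ : P →ₗ[k] M ⊗[k] N}
  (hP : GrSeg.IsSegreMod ψ ℳ 𝒩 𝒬 φ) (d : ℤ)

/-- One degree of the product complex. -/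
noncomputable def pairCx : Cx k (LinearMap.range (bigP EM d) ⊗[k] LinearMap.range (bigP EN d)) :=
  Cx.tensor (degCx EM d) (degCx EN d)

/-- One degree of the product of the quotient complexes. -/
noncomputable def pairQuot (a : Ideal R) (b : Ideal S) :
    Cx k ((LinearMap.range (bigP EM d) ⧸ degGam EM d a) ⊗[k] (LinearMap.range (bigP EN d) ⧸ degGam EN d b)) :=
  Cx.tensor (degQuot EM d a) (degQuot EN d b)

/-- One degree of the torsion of the product. -/
noncomputable def pairK (a : Ideal R) (b : Ideal S) :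
    Submodule k (LinearMap.range (bigP EM d) ⊗[k] LinearMap.range (bigP EN d)) :=
  Cx.Kq (degGam EM d a) (degGam EN d b)

/-- One degree inside the whole. -/
noncomputable def pairJ : LinearMap.range (bigP EM d) ⊗[k] LinearMap.range (bigP EN d) →ₗ[k]
    Big EM ⊗[k] Big EN :=
  TensorProduct.map (LinearMap.range (bigP EM d)).subtype (LinearMap.range (bigP EN d)).subtype

/-- The projection onto one degree. -/
noncomputable def pairR : Big EM ⊗[k] Big EN →ₗ[k]
    LinearMap.range (bigP EM d) ⊗[k] LinearMap.range (bigP EN d) :=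
  TensorProduct.map (bigP EM d).rangeRestrict (bigP EN d).rangeRestrict

theorem pairJ_pairR (z : Big EM ⊗[k] Big EN) :
    pairJ EM EN d (pairR EM EN d z) = Proj.pp (bigProj EM) (bigProj EN) d z := by
  rw [pairJ, pairR, ← LinearMap.comp_apply, ← TensorProduct.map_comp]
  rfl

theorem pairR_pairJ (z : LinearMap.range (bigP EM d) ⊗[k] LinearMap.range (bigP EN d)) :
    pairR EM EN d (pairJ EM EN d z) = z := by
  rw [pairJ, pairR, ← LinearMap.comp_apply, ← TensorProduct.map_comp,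
    show (bigP EM d).rangeRestrict ∘ₗ (LinearMap.range (bigP EM d)).subtype = LinearMap.id from
      LinearMap.ext fun x => Subtype.ext ((bigProj EM).mem_range_p.1 x.2),
    show (bigP EN d).rangeRestrict ∘ₗ (LinearMap.range (bigP EN d)).subtype = LinearMap.id from
      LinearMap.ext fun x => Subtype.ext ((bigProj EN).mem_range_p.1 x.2),
    TensorProduct.map_id, LinearMap.id_apply]

theorem pp_pairJ (z : LinearMap.range (bigP EM d) ⊗[k] LinearMap.range (bigP EN d)) :
    Proj.pp (bigProj EM) (bigProj EN) d (pairJ EM EN d z) = pairJ EM EN d z := by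
  rw [← pairJ_pairR, pairR_pairJ]

theorem pairJ_injective : Function.Injective (pairJ EM EN d) := fun x y h => by
  rw [← pairR_pairJ EM EN d x, h, pairR_pairJ]

theorem tD_pairJ (z : LinearMap.range (bigP EM d) ⊗[k] LinearMap.range (bigP EN d)) :
    Cx.tD (bigCx EM) (bigCx EN) (pairJ EM EN d z) = pairJ EM EN d ((pairCx EM EN d).d z) := by
  show _ = pairJ EM EN d (Cx.tD (degCx EM d) (degCx EN d) z)
  induction z using TensorProduct.induction_on with
  | zero => simp
  | tmul x y =>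
    simp only [pairJ, TensorProduct.map_tmul, Submodule.subtype_apply, Cx.tD_tmul, map_add]
    rfl
  | add a b ha hb => simp only [map_add, ha, hb]

theorem tπ_pairJ (n : ℕ) (z : LinearMap.range (bigP EM d) ⊗[k] LinearMap.range (bigP EN d)) :
    Cx.tπ (bigCx EM) (bigCx EN) n (pairJ EM EN d z) = pairJ EM EN d ((pairCx EM EN d).π n z) := by
  show _ = pairJ EM EN d (Cx.tπ (degCx EM d) (degCx EN d) n z)
  induction z using TensorProduct.induction_on with
  | zero => simp
  | tmul x y =>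
    simp only [pairJ, Cx.tπ_decomp, map_sum, TensorProduct.map_tmul, Submodule.subtype_apply]
    rfl
  | add a b ha hb => simp only [map_add, ha, hb]

theorem pairJ_mem_box {z : LinearMap.range (bigP EM d) ⊗[k] LinearMap.range (bigP EN d)}
    (hz : z ∈ pairK EM EN d mR.toIdeal mS.toIdeal) :
    pairJ EM EN d z ∈ box ((GrLC.gam mR.toIdeal (Big EM)).restrictScalars k) ⊤ ⊔
      box ⊤ ((GrLC.gam mS.toIdeal (Big EN)).restrictScalars k) := by
  rw [pairK, Cx.Kq, ker_map_mkQ] at hz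
  refine (sup_le (box_le fun x hx y _ => ?_) (box_le fun x _ y hy => ?_) :
    _ ≤ Submodule.comap (pairJ EM EN d) (box ((GrLC.gam mR.toIdeal (Big EM)).restrictScalars k) ⊤ ⊔
      box ⊤ ((GrLC.gam mS.toIdeal (Big EN)).restrictScalars k))) hz
  · rw [Submodule.mem_comap, pairJ, TensorProduct.map_tmul]
    exact Submodule.mem_sup_left (tmul_mem_box hx Submodule.mem_top)
  · rw [Submodule.mem_comap, pairJ, TensorProduct.map_tmul]
    exact Submodule.mem_sup_right (tmul_mem_box Submodule.mem_top hy)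

theorem bigP_mem_gam {a : HomogeneousIdeal 𝒜} (g : ℤ) {x : Big EM} (hx : x ∈ GrLC.gam a.toIdeal (Big EM)) :
    bigP EM g x ∈ GrLC.gam a.toIdeal (Big EM) := by
  rw [mem_gam_iff] at hx ⊢
  intro n
  have h : coord EM n (bigP EM g x) = proj (EM.X n).gr g (coord EM n x) := by
    clear hx
    induction x using big_induction EM with
    | h0 => simp
    | hadd a b ha hb => simp only [map_add, ha, hb]
    | hinc m x =>
      rw [bigP_inc]
      by_cases h : n = m
      · subst h; rw [coord_inc, coord_inc]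
      · rw [coord_inc_ne EM h, coord_inc_ne EM h, map_zero]
  rw [h]
  exact mem_homogeneous _ (gam_homogeneous _ a) (hx n) g

theorem pairR_mem {z : Big EM ⊗[k] Big EN}
    (hz : z ∈ box ((GrLC.gam mR.toIdeal (Big EM)).restrictScalars k) ⊤ ⊔
      box ⊤ ((GrLC.gam mS.toIdeal (Big EN)).restrictScalars k)) :
    pairR EM EN d z ∈ pairK EM EN d mR.toIdeal mS.toIdeal := by
  rw [pairK, Cx.Kq, ker_map_mkQ]
  refine (sup_le (box_le fun x hx y _ => ?_) (box_le fun x _ y hy => ?_) :
    _ ≤ Submodule.comap (pairR EM EN d)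
      (box (degGam EM d mR.toIdeal) ⊤ ⊔ box ⊤ (degGam EN d mS.toIdeal))) hz
  · rw [Submodule.mem_comap, pairR, TensorProduct.map_tmul]
    exact Submodule.mem_sup_left (tmul_mem_box (bigP_mem_gam EM d hx) Submodule.mem_top)
  · rw [Submodule.mem_comap, pairR, TensorProduct.map_tmul]
    exact Submodule.mem_sup_right (tmul_mem_box Submodule.mem_top (bigP_mem_gam EN d hy))

variable (ψ) in
/-- One degree of the product complex, inside the ambient module. -/
noncomputable def pairVal : LinearMap.range (bigP EM d) ⊗[k] LinearMap.range (bigP EN d) →ₗ[k]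
    Amb ψ EM EN :=
  (TW.val ψ).symm.toLinearMap ∘ₗ pairJ EM EN d

theorem val_pairVal (z : LinearMap.range (bigP EM d) ⊗[k] LinearMap.range (bigP EN d)) :
    TW.val ψ (pairVal ψ EM EN d z) = pairJ EM EN d z := LinearEquiv.apply_symm_apply _ _

theorem totD_pairVal (z : LinearMap.range (bigP EM d) ⊗[k] LinearMap.range (bigP EN d)) :
    totD ψ EM EN (pairVal ψ EM EN d z) = pairVal ψ EM EN d ((pairCx EM EN d).d z) := by
  apply (TW.val ψ).injective
  rw [val_totD, val_pairVal, val_pairVal, tD_pairJ]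

include H in
theorem isCocyc_pairVal {q : ℕ} {z : LinearMap.range (bigP EM d) ⊗[k] LinearMap.range (bigP EN d)}
    (hz : (pairCx EM EN d).π q z = z) (hdz : (pairCx EM EN d).d z = 0)
    (hzK : z ∈ pairK EM EN d mR.toIdeal mS.toIdeal) :
    IsCocyc H EM EN q d (pairVal ψ EM EN d z) := by
  refine ⟨(TW.val ψ).injective ?_, (TW.val ψ).injective ?_, ?_, ?_⟩
  · rw [val_sel, val_pairVal, tπ_pairJ, hz, ← pp_pairJ, Proj.diag_pp]
  · rw [val_degP, val_pairVal, pp_pairJ]
  · rw [totD_pairVal, hdz, map_zero]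
  · rw [mem_gam_iff_sup H EM EN, val_pairVal]
    exact pairJ_mem_box EM EN d hzK

include H in
theorem exists_of_isCocyc {q : ℕ} {z : Amb ψ EM EN} (hz : IsCocyc H EM EN q d z) :
    ∃ w, (pairCx EM EN d).π q w = w ∧ (pairCx EM EN d).d w = 0 ∧
      w ∈ pairK EM EN d mR.toIdeal mS.toIdeal ∧ pairVal ψ EM EN d w = z := by
  obtain ⟨h1, h2, h3, h4⟩ := hz
  have h2' : Proj.pp (bigProj EM) (bigProj EN) d (TW.val ψ z) = TW.val ψ z := by
    rw [← val_degP, h2]
  have hw : pairVal ψ EM EN d (pairR EM EN d (TW.val ψ z)) = z := by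
    apply (TW.val ψ).injective
    rw [val_pairVal, pairJ_pairR, h2']
  have hπ : Cx.tπ (bigCx EM) (bigCx EN) q (TW.val ψ z) = TW.val ψ z := by
    conv_rhs => rw [← h1, val_sel]
    rw [diag_tπ_comm]
    congr 1
    conv_rhs => rw [← h2', Proj.diag_pp, h2']
  refine ⟨pairR EM EN d (TW.val ψ z), pairJ_injective EM EN d ?_, pairJ_injective EM EN d ?_,
    pairR_mem EM EN d ((mem_gam_iff_sup H EM EN z).1 h4), hw⟩
  · rw [← tπ_pairJ, pairJ_pairR, h2', hπ]
  · rw [← tD_pairJ, pairJ_pairR, h2', ← val_totD, h3, map_zero, map_zero]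

include H in
theorem pairVal_mem_KD_iff {z : LinearMap.range (bigP EM d) ⊗[k] LinearMap.range (bigP EN d)} :
    pairVal ψ EM EN d z ∈ KD ψ EM EN mT ↔
      z ∈ (pairK EM EN d mR.toIdeal mS.toIdeal).map (pairCx EM EN d).d := by
  constructor
  · rintro ⟨w, hw, hwz⟩
    refine ⟨pairR EM EN d (TW.val ψ w), pairR_mem EM EN d ((mem_gam_iff_sup H EM EN w).1 hw),
      pairJ_injective EM EN d ?_⟩
    rw [← tD_pairJ, pairJ_pairR, ← pp_tD_comm, ← val_totD, hwz, val_pairVal, pp_pairJ]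
  · rintro ⟨w, hw, rfl⟩
    refine ⟨pairVal ψ EM EN d w, (mem_gam_iff_sup H EM EN _).2 ?_, totD_pairVal EM EN d w⟩
    rw [val_pairVal]
    exact pairJ_mem_box EM EN d hw

include H hP in
/-- A degree of the local cohomology of a Segre product is a degree of the product complex. -/
theorem exists_Hcomp_addEquiv (F : GrLC.StarInjRes 𝒯 𝒬) (q : ℕ) :
    ∃ f : F.Hcomp mT q d ≃+ (pairCx EM EN d).Hrel (pairK EM EN d mR.toIdeal mS.toIdeal) q,
      ∀ (c : k) (x : F.Hcomp mT q d) (r : GrLC.deg0 𝒯), (r : T) = algebraMap k T c → f (r • x) = c • f x := by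
  obtain ⟨Θ, hΘ, hΘd⟩ := exists_H_amb H EM EN hP F q
  obtain ⟨hΘ1, hΘ2⟩ := hΘd d
  let j : (LinearMap.range (bigP EM d) ⊗[k] LinearMap.range (bigP EN d)) ⧸
      (pairK EM EN d mR.toIdeal mS.toIdeal).map (pairCx EM EN d).d →ₗ[k] Amb ψ EM EN ⧸ KD ψ EM EN mT :=
    Submodule.liftQ _ (((KD ψ EM EN mT).mkQ.restrictScalars k) ∘ₗ pairVal ψ EM EN d) fun z hz =>
      (Submodule.Quotient.mk_eq_zero _).2 ((pairVal_mem_KD_iff H EM EN d).2 hz)
  have hj : Function.Injective j := by
    refine (injective_iff_map_eq_zero j).2 fun v hv => ?_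
    obtain ⟨z, rfl⟩ := Submodule.mkQ_surjective _ v
    exact (Submodule.Quotient.mk_eq_zero _).2
      ((pairVal_mem_KD_iff H EM EN d).1 ((Submodule.Quotient.mk_eq_zero _).1 hv))
  have hex : ∀ x : F.Hcomp mT q d,
      ∃ v : (pairCx EM EN d).Hrel (pairK EM EN d mR.toIdeal mS.toIdeal) q, j v = Θ x := by
    intro x
    obtain ⟨z, hz, hzx⟩ := hΘ1 x x.2
    obtain ⟨w, hw1, hw2, hw3, rfl⟩ := exists_of_isCocyc H EM EN d hz
    exact ⟨⟨_, w, ⟨⟨hw2, hw3⟩, (pairCx EM EN d).mem_range_π.2 hw1⟩, rfl⟩, hzx.symm⟩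
  choose g hg using hex
  let f : F.Hcomp mT q d →+ (pairCx EM EN d).Hrel (pairK EM EN d mR.toIdeal mS.toIdeal) q :=
    AddMonoidHom.mk' g fun x y => Subtype.ext (hj (by
      rw [Submodule.coe_add, map_add j, hg, hg, hg, Submodule.coe_add, map_add]))
  have hinj : Function.Injective f := fun x y h =>
    Subtype.ext (hΘ ((hg x).symm.trans ((congrArg (fun v => j (Subtype.val v)) h).trans (hg y))))
  have hsurj : Function.Surjective f := by
    rintro ⟨_, w, ⟨⟨hw2, hw3⟩, hw1⟩, rfl⟩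
    obtain ⟨x, hx, hxz⟩ := hΘ2 _ (isCocyc_pairVal H EM EN d ((pairCx EM EN d).mem_range_π.1 hw1) hw2 hw3)
    exact ⟨⟨x, hx⟩, Subtype.ext (hj ((hg ⟨x, hx⟩).trans hxz))⟩
  refine ⟨AddEquiv.ofBijective f ⟨hinj, hsurj⟩, fun c x r hr => Subtype.ext (hj ?_)⟩
  show j (g (r • x) : _ ⧸ _) = j (c • (g x : _ ⧸ _))
  rw [hg, map_smul, hg, Submodule.coe_smul_of_tower, LinearMap.map_smul_of_tower]
  show (r : T) • Θ x = c • Θ x
  rw [hr, algebraMap_smul]

end Groth.Agent.GrKunnethLib
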