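import Mathlib
import Groth.Agent.GrInjLib.Pieces
import Groth.Agent.GrKunnethLib.Pair

/-!
# Dimensions of the pieces of local cohomology of a Segre product
-/

set_option autoImplicit false
set_option linter.style.haveILetI false
set_option linter.unusedSectionVars false
set_option maxHeartbeats 1000000
universe u

open scoped TensorProduct
open DirectSum GrInjLib

namespace Groth.Agent.GrKunnethLib

theorem setting_of {k R S T : Type u} [Field k] [CommRing R] [CommRing S] [CommRing T] [Algebra k R]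
    [Algebra k S] [Algebra k T] [Algebra.FiniteType k R] [Algebra.FiniteType k S]
    {𝒜 : ℤ → Submodule k R} [GradedAlgebra 𝒜] {ℬ : ℤ → Submodule k S}
    [GradedAlgebra ℬ] {𝒯 : ℤ → Submodule k T} [GradedAlgebra 𝒯] {ψ : T →ₐ[k] R ⊗[k] S}
    (hposR : ∀ n : ℤ, n < 0 → 𝒜 n = ⊥) (h0R : 𝒜 0 = Submodule.span k {(1 : R)})
    (hposS : ∀ n : ℤ, n < 0 → ℬ n = ⊥) (h0S : ℬ 0 = Submodule.span k {(1 : S)})
    (hψ : Function.Injective ψ) (hdegT : ∀ n : ℤ, (𝒯 n).map ψ.toLinearMap = GrSeg.segrePiece k 𝒜 ℬ n)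
    {mR : HomogeneousIdeal 𝒜} {mS : HomogeneousIdeal ℬ} {mT : HomogeneousIdeal 𝒯}
    (hmR : mR.toIdeal = Ideal.span (⋃ n ∈ Set.Ioi (0 : ℤ), (𝒜 n : Set R)))
    (hmS : mS.toIdeal = Ideal.span (⋃ n ∈ Set.Ioi (0 : ℤ), (ℬ n : Set S)))
    (hmT : mT.toIdeal = Ideal.span (⋃ n ∈ Set.Ioi (0 : ℤ), (𝒯 n : Set T))) :
    Setting k R S T 𝒜 ℬ 𝒯 ψ mR mS mT := by
  haveI := Groth.Agent.GrSegreLib.finiteType_segre 𝒜 ℬ 𝒯 ψ hposR h0R hposS h0S hψ hdegT
  exact ⟨hψ, hdegT, hmR, hmS, hmT, Algebra.FiniteType.isNoetherianRing k R,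
    Algebra.FiniteType.isNoetherianRing k S, Algebra.FiniteType.isNoetherianRing k T⟩

section OneFactor

variable {k R : Type u} [Field k] [CommRing R] [Algebra k R] {𝒜 : ℤ → Submodule k R} [GradedAlgebra 𝒜]
  {M : Type u} [AddCommGroup M] [Module R M] [Module k M] [IsScalarTower k R M]
  {τ : Type u} [SetLike τ M] [AddSubgroupClass τ M] (ℳ : ℤ → τ) [Decomposition ℳ] [SetLike.GradedSMul 𝒜 ℳ]
  [Nontrivial R] (h0 : 𝒜 0 = Submodule.span k {(1 : R)})

variable (𝒜) in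
/-- A piece, as a subspace. -/
def piece (d : ℤ) : Submodule k M := kPiece ℳ d fun c _ hm => piece_smul_k 𝒜 c hm

theorem mem_piece {d : ℤ} {m : M} : m ∈ piece 𝒜 ℳ d ↔ m ∈ ℳ d := Iff.rfl

variable {ℳ} in
/-- The pieces are finite-dimensional. -/
theorem finite_piece (h0 : 𝒜 0 = Submodule.span k {(1 : R)}) [IsNoetherianRing R] [Module.Finite R M]
    (d : ℤ) : FiniteDimensional k (piece 𝒜 ℳ d) := by
  letI := (addPieces_isInternal ℳ).chooseDecomposition
  obtain ⟨i, hi⟩ := exists_deg0_equiv h0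
  haveI : IsNoetherian (GrLC.deg0 𝒜) (GrLC.comp 𝒜 (addPieces ℳ) d) := isNoetherian_comp 𝒜 (addPieces ℳ) d
  let f : GrLC.comp 𝒜 (addPieces ℳ) d ≃+ piece 𝒜 ℳ d :=
    { toFun := fun x => ⟨x, x.2⟩, invFun := fun x => ⟨x, x.2⟩, left_inv := fun _ => rfl,
      right_inv := fun _ => rfl, map_add' := fun _ _ => rfl }
  exact finite_of_bij i f fun c x => Subtype.ext (by
    show (i c : R) • (x : M) = c • (x : M)
    rw [hi, algebraMap_smul])

variable {ℳ} (E : GrLC.StarInjRes 𝒜 ℳ) (a : HomogeneousIdeal 𝒜) (d : ℤ)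

/-- The dimensions of the degrees of the cohomology of the quotient by torsion. -/
noncomputable def dimD (i : ℕ) : ℕ :=
  (if i = 0 then Module.finrank k (piece 𝒜 ℳ d) else 0) +
    Module.finrank (GrLC.deg0 𝒜) (E.Hcomp a (i + 1) d)

include h0 in
theorem finrank_degQuot [IsNoetherianRing R] [Module.Finite R M]
    (hpos : ∀ n : ℤ, n < 0 → 𝒜 n = ⊥)
    (ha : a.toIdeal = Ideal.span (⋃ n ∈ Set.Ioi (0 : ℤ), (𝒜 n : Set R))) (hvan : E.Hcomp a 0 d = ⊥) (i : ℕ) :
    FiniteDimensional k ((degQuot E d a.toIdeal).Hgr i) ∧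
      Module.finrank k ((degQuot E d a.toIdeal).Hgr i) = dimD E a d i := by
  letI := (addPieces_isInternal ℳ).chooseDecomposition
  have hfinH : ∀ n, Module.Finite (GrLC.deg0 𝒜) (E.Hcomp a n d) := fun n => by
    haveI : Module.Finite R (addG 𝒜 ℳ).carrier := ‹Module.Finite R M›
    haveI : IsNoetherian (GrLC.deg0 𝒜) (E.Hcomp a n d) :=
      (pieces_finite_vanish (ℬ := 𝒜) (fun m hm x hx => by rw [hpos m hm] at hx; exact (Submodule.mem_bot k).1 hx)
        a ha n (addG 𝒜 ℳ) (addRes ℳ E)).1 d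
    infer_instance
  cases i with
  | zero =>
    obtain ⟨eZ, -⟩ := exists_Z0_equiv E d
    haveI : Module.Finite k (kPiece ℳ d fun c _ hm => piece_smul_k 𝒜 c hm) := finite_piece (ℳ := ℳ) h0 d
    have hZ : Module.finrank k (degCx E d).Z0 = Module.finrank k (piece 𝒜 ℳ d) := eZ.finrank_eq.symm
    haveI : FiniteDimensional k (degCx E d).Z0 := Module.Finite.equiv eZ
    haveI := hfinH 1
    haveI := finite_Hrel E d h0 a 1
    obtain ⟨Φ, hΦ, -, hker⟩ := Cx.exists_connecting (T := degCx E d) (Q := degQuot E d a.toIdeal)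
      (K := degGam E d a.toIdeal) (degGam E d a.toIdeal).mkQ (Submodule.mkQ_surjective _) (fun x => rfl)
      (fun n x => rfl) (Submodule.ker_mkQ _).symm 0 (exactPos_degCx E d 0)
    have hinj : ∀ x ∈ (degCx E d).Z0,
        (degQuot E d a.toIdeal).B.mkQ ((degGam E d a.toIdeal).mkQ x) = 0 → x = 0 := by
      intro x hx h
      obtain ⟨w, hw⟩ := (Submodule.Quotient.mk_eq_zero _).1 h
      have h1 := congrArg ((degQuot E d a.toIdeal).π 0) hw
      rw [(degQuot E d a.toIdeal).π_zero_d] at h1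
      have h2 : (degGam E d a.toIdeal).mkQ ((degCx E d).π 0 x) = 0 := h1.symm
      rw [(degCx E d).mem_range_π.1 hx.2] at h2
      exact Z0_inf_degGam E d a hvan x hx ((Submodule.Quotient.mk_eq_zero _).1 h2)
    haveI : FiniteDimensional k (LinearMap.ker Φ) := by
      have : FiniteDimensional k ((LinearMap.ker Φ).map ((degQuot E d a.toIdeal).Hgr 0).subtype) := by
        rw [hker]
        exact Module.Finite.map ((degCx E d).Z0) _
      exact Module.Finite.equiv (((degQuot E d a.toIdeal).Hgr 0).equivSubtypeMap (LinearMap.ker Φ)).symm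
    haveI : Module.Finite k ((degQuot E d a.toIdeal).Hgr 0 ⧸ LinearMap.ker Φ) :=
      Module.Finite.equiv (Φ.quotKerEquivOfSurjective hΦ).symm
    haveI : FiniteDimensional k ((degQuot E d a.toIdeal).Hgr 0) :=
      Module.Finite.of_submodule_quotient (LinearMap.ker Φ)
    obtain ⟨-, -, h⟩ := Cx.finrank_connecting_zero (T := degCx E d) (Q := degQuot E d a.toIdeal)
      (K := degGam E d a.toIdeal) (q := (degGam E d a.toIdeal).mkQ) (Submodule.mkQ_surjective _) (fun x => rfl)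
      (fun n x => rfl) (Submodule.ker_mkQ _).symm (exactPos_degCx E d) hinj
    refine ⟨inferInstance, ?_⟩
    rw [dimD, if_pos rfl, finrank_Hcomp E d h0, ← h, hZ]
    exact add_comm _ _
  | succ j =>
    obtain ⟨e, -⟩ := exists_degQuot_equiv E d a.toIdeal j
    haveI := hfinH (j + 1 + 1)
    haveI := finite_Hrel E d h0 a (j + 1 + 1)
    refine ⟨Module.Finite.equiv e.symm, ?_⟩
    rw [e.finrank_eq, dimD, if_neg (Nat.succ_ne_zero j), zero_add, finrank_Hcomp E d h0]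

end OneFactor

variable {k R S T : Type u} [Field k] [CommRing R] [CommRing S] [CommRing T] [Algebra k R]
  [Algebra k S] [Algebra k T] {𝒜 : ℤ → Submodule k R} [GradedAlgebra 𝒜] {ℬ : ℤ → Submodule k S}
  [GradedAlgebra ℬ] {𝒯 : ℤ → Submodule k T} [GradedAlgebra 𝒯] {ψ : T →ₐ[k] R ⊗[k] S}
  {mR : HomogeneousIdeal 𝒜} {mS : HomogeneousIdeal ℬ} {mT : HomogeneousIdeal 𝒯}
  (H : Setting k R S T 𝒜 ℬ 𝒯 ψ mR mS mT)
  {M : Type u} [AddCommGroup M] [Module R M] [Module k M] [IsScalarTower k R M]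
  {τM : Type u} [SetLike τM M] [AddSubgroupClass τM M]
  {ℳ : ℤ → τM} [Decomposition ℳ] [SetLike.GradedSMul 𝒜 ℳ] (EM : GrLC.StarInjRes 𝒜 ℳ)
  {N : Type u} [AddCommGroup N] [Module S N] [Module k N] [IsScalarTower k S N]
  {τN : Type u} [SetLike τN N] [AddSubgroupClass τN N]
  {𝒩 : ℤ → τN} [Decomposition 𝒩] [SetLike.GradedSMul ℬ 𝒩] (EN : GrLC.StarInjRes ℬ 𝒩)
  {P : Type u} [AddCommGroup P] [Module T P] [Module k P] [IsScalarTower k T P]
  {τQ : Type u} [SetLike τQ P] [AddSubgroupClass τQ P]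
  {𝒬 : ℤ → τQ} [Decomposition 𝒬] [SetLike.GradedSMul 𝒯 𝒬] {φ : P →ₗ[k] M ⊗[k] N}
  (hP : GrSeg.IsSegreMod ψ ℳ 𝒩 𝒬 φ)

include H in
theorem deg0_segre [Nontrivial R] [Nontrivial S] (h0R : 𝒜 0 = Submodule.span k {(1 : R)})
    (h0S : ℬ 0 = Submodule.span k {(1 : S)}) : Nontrivial T ∧ 𝒯 0 = Submodule.span k {(1 : T)} := by
  have h1 : ψ 1 ≠ 0 := by
    rw [map_one, Algebra.TensorProduct.one_def]
    haveI : Nontrivial (R ⊗[k] S) :=
      (Algebra.TensorProduct.includeLeft_injective (R := k) (S := k) (A := R) (B := S)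
        (algebraMap k S).injective).nontrivial
    exact one_ne_zero
  refine ⟨⟨⟨1, 0, fun h => h1 (by rw [h, map_zero])⟩⟩, le_antisymm (fun t ht => ?_) ?_⟩
  · have h : ψ t ∈ GrSeg.segrePiece k 𝒜 ℬ 0 := (H.deg 0).le ⟨t, ht, rfl⟩
    have hle : GrSeg.segrePiece k 𝒜 ℬ 0 ≤ (Submodule.span k {(1 : T)}).map ψ.toLinearMap := by
      refine Submodule.span_le.2 ?_
      rintro _ ⟨a, ha, b, hb, rfl⟩
      rw [h0R, Submodule.mem_span_singleton] at ha
      rw [h0S, Submodule.mem_span_singleton] at hb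
      obtain ⟨c, rfl⟩ := ha
      obtain ⟨c', rfl⟩ := hb
      refine ⟨(c * c') • 1, Submodule.smul_mem _ _ (Submodule.mem_span_singleton_self 1), ?_⟩
      show ψ ((c * c') • 1) = _
      rw [map_smul, map_one, Algebra.TensorProduct.one_def, TensorProduct.smul_tmul_smul]
    obtain ⟨t', ht', he⟩ := hle h
    rwa [← H.inj he]
  · rw [Submodule.span_le, Set.singleton_subset_iff]
    exact SetLike.GradedOne.one_mem

include H hP in
/-- The pieces of local cohomology of a Segre product, when the factors have no torsion in that degree. -/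
theorem finrank_Hcomp_segre [Nontrivial R] [Nontrivial S] [Module.Finite R M] [Module.Finite S N]
    (hposR : ∀ n : ℤ, n < 0 → 𝒜 n = ⊥) (h0R : 𝒜 0 = Submodule.span k {(1 : R)})
    (hposS : ∀ n : ℤ, n < 0 → ℬ n = ⊥) (h0S : ℬ 0 = Submodule.span k {(1 : S)})
    (F : GrLC.StarInjRes 𝒯 𝒬) (d : ℤ) (hM : EM.Hcomp mR 0 d = ⊥) (hN : EN.Hcomp mS 0 d = ⊥) :
    Module.finrank (GrLC.deg0 𝒯) (F.Hcomp mT 0 d) = 0 ∧
    ∀ n : ℕ, Module.finrank (GrLC.deg0 𝒯) (F.Hcomp mT (n + 1) d) +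
        (if n = 0 then Module.finrank k (piece 𝒜 ℳ d) * Module.finrank k (piece ℬ 𝒩 d) else 0) =
      ∑ p ∈ Finset.HasAntidiagonal.antidiagonal n, dimD EM mR d p.1 * dimD EN mS d p.2 := by
  haveI := H.noethR
  haveI := H.noethS
  obtain ⟨hTnt, h0T⟩ := deg0_segre H h0R h0S
  haveI := hTnt
  obtain ⟨i, hi⟩ := exists_deg0_equiv h0T
  have hrank : ∀ q, Module.finrank (GrLC.deg0 𝒯) (F.Hcomp mT q d) =
      Module.finrank k ((pairCx EM EN d).Hrel (pairK EM EN d mR.toIdeal mS.toIdeal) q) := fun q => by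
    obtain ⟨f, hf⟩ := exists_Hcomp_addEquiv H EM EN hP d F q
    exact finrank_eq_of_bij i f fun c x => hf c x (i c) (hi c)
  have hinjK : ∀ x ∈ (pairCx EM EN d).Z0, x ∈ pairK EM EN d mR.toIdeal mS.toIdeal → x = 0 := fun x hx hxK =>
    Cx.tensor_inj_zero (stable_degGam EM d mR.toIdeal) (stable_degGam EN d mS.toIdeal)
      (Z0_inf_degGam EM d mR hM) (Z0_inf_degGam EN d mS hN) x hx (by
        rw [show TensorProduct.map (degGam EM d mR.toIdeal).mkQ (degGam EN d mS.toIdeal).mkQ x = 0 from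
          LinearMap.mem_ker.1 hxK, map_zero])
  refine ⟨?_, fun n => ?_⟩
  · rw [hrank, Cx.Hrel_zero_eq_bot hinjK, finrank_bot]
  have hQ := Cx.finrank_Hgr_tensor (degQuot EM d mR.toIdeal) (degQuot EN d mS.toIdeal) n
    (fun j _ => (finrank_degQuot h0R EM mR d hposR H.hmR hM j).1)
    (fun j _ => (finrank_degQuot h0S EN mS d hposS H.hmS hN j).1)
  have hsum : Module.finrank k ((pairQuot EM EN d mR.toIdeal mS.toIdeal).Hgr n) =
      ∑ p ∈ Finset.HasAntidiagonal.antidiagonal n, dimD EM mR d p.1 * dimD EN mS d p.2 := by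
    refine hQ.2.trans (Finset.sum_congr rfl fun p _ => ?_)
    rw [(finrank_degQuot h0R EM mR d hposR H.hmR hM p.1).2, (finrank_degQuot h0S EN mS d hposS H.hmS hN p.2).2]
  haveI : FiniteDimensional k ((pairQuot EM EN d mR.toIdeal mS.toIdeal).Hgr n) := hQ.1
  have hqd : ∀ x, TensorProduct.map (degGam EM d mR.toIdeal).mkQ (degGam EN d mS.toIdeal).mkQ
      ((pairCx EM EN d).d x) = (pairQuot EM EN d mR.toIdeal mS.toIdeal).d
        (TensorProduct.map (degGam EM d mR.toIdeal).mkQ (degGam EN d mS.toIdeal).mkQ x) :=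
    Cx.qq_tD (stable_degGam EM d mR.toIdeal) (stable_degGam EN d mS.toIdeal)
  have hqπ : ∀ m x, TensorProduct.map (degGam EM d mR.toIdeal).mkQ (degGam EN d mS.toIdeal).mkQ
      ((pairCx EM EN d).π m x) = (pairQuot EM EN d mR.toIdeal mS.toIdeal).π m
        (TensorProduct.map (degGam EM d mR.toIdeal).mkQ (degGam EN d mS.toIdeal).mkQ x) :=
    Cx.qq_tπ (stable_degGam EM d mR.toIdeal) (stable_degGam EN d mS.toIdeal)
  have hex : (pairCx EM EN d).ExactPos := (exactPos_degCx EM d).tensor (exactPos_degCx EN d)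
  rw [hrank]
  cases n with
  | zero =>
    obtain ⟨-, -, h⟩ := Cx.finrank_connecting_zero (T := pairCx EM EN d)
      (Q := pairQuot EM EN d mR.toIdeal mS.toIdeal) (map_mkQ_surjective _ _) hqd hqπ rfl hex
      (Cx.tensor_inj_zero (stable_degGam EM d mR.toIdeal) (stable_degGam EN d mS.toIdeal)
        (Z0_inf_degGam EM d mR hM) (Z0_inf_degGam EN d mS hN))
    obtain ⟨e1, -⟩ := exists_Z0_equiv EM d
    obtain ⟨e2, -⟩ := exists_Z0_equiv EN d
    have hZ : Module.finrank k (pairCx EM EN d).Z0 =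
        Module.finrank k (piece 𝒜 ℳ d) * Module.finrank k (piece ℬ 𝒩 d) := by
      rw [pairCx, Cx.Z0_tensor, finrank_box]
      exact congrArg₂ (· * ·) e1.finrank_eq.symm e2.finrank_eq.symm
    rw [if_pos rfl, ← hsum, ← h, hZ]
    rfl
  | succ j =>
    obtain ⟨e, -⟩ := Cx.exists_connecting_equiv (T := pairCx EM EN d)
      (Q := pairQuot EM EN d mR.toIdeal mS.toIdeal) (K := pairK EM EN d mR.toIdeal mS.toIdeal)
      (map_mkQ_surjective _ _) hqd hqπ rfl hex j
    rw [if_neg (Nat.succ_ne_zero j), add_zero, ← hsum, e.finrank_eq]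

end Groth.Agent.GrKunnethLib
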