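import Mathlib
import Groth.Agent.GrKunnethLib.Formula

/-!
# The top local cohomology of a Segre product, as the Segre product of the top local cohomologies
-/

set_option autoImplicit false
set_option linter.style.haveILetI false
set_option linter.unusedSectionVars false
set_option maxHeartbeats 1000000
universe u

open scoped TensorProduct
open DirectSum GrInjLib

namespace Groth.Agent.GrKunnethLib

namespace Cx

variable {k : Type u} [Field k] {V W : Type u} [AddCommGroup V] [Module k V] [AddCommGroup W] [Module k W]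

/-- Künneth in a degree with a single contribution. -/
theorem exists_kunneth_single (C : Cx k V) (C' : Cx k W) (i j : ℕ)
    (h : ∀ p q, p + q = i + j → (p = i ∧ q = j) ∨ C.Hgr p = ⊥ ∨ C'.Hgr q = ⊥) :
    ∃ e : C.Hgr i ⊗[k] C'.Hgr j ≃ₗ[k] (tensor C C').Hgr (i + j),
      ∀ (x : C.Hgr i) (y : C'.Hgr j) (u : V) (v : W), u ∈ C.Z → v ∈ C'.Z → C.π i u = u → C'.π j v = v →
        (x : V ⧸ C.B) = C.B.mkQ u → (y : W ⧸ C'.B) = C'.B.mkQ v →
          (e (x ⊗ₜ[k] y) : (V ⊗[k] W) ⧸ (tensor C C').B) = (tensor C C').B.mkQ (u ⊗ₜ[k] v) := by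
  have hbox : box (C.Hgr i) (C'.Hgr j) = HHgr C C' (i + j) := by
    refine le_antisymm ?_ (iSup₂_le fun p hp => ?_)
    · exact le_iSup₂_of_le (i, j) (Finset.HasAntidiagonal.mem_antidiagonal.2 rfl) le_rfl
    · obtain ⟨p, q⟩ := p
      rcases h p q (Finset.HasAntidiagonal.mem_antidiagonal.1 hp) with ⟨rfl, rfl⟩ | h0 | h0
      · exact le_rfl
      · refine box_le fun u hu v _ => ?_
        rw [(Submodule.mem_bot k).1 (h0.le hu), TensorProduct.zero_tmul]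
        exact zero_mem _
      · refine box_le fun u _ v hv => ?_
        rw [(Submodule.mem_bot k).1 (h0.le hv), TensorProduct.tmul_zero]
        exact zero_mem _
  obtain ⟨e, he⟩ := exists_kunneth C C' (i + j)
  refine ⟨((boxEquiv _ _).trans (LinearEquiv.ofEq _ _ hbox)).trans e.symm,
    fun x y u v hu hv hui hvj hx hy => ?_⟩
  have hL : u ⊗ₜ[k] v ∈ Lgr C C' (i + j) := by
    refine ⟨tmul_mem_box hu hv, u ⊗ₜ[k] v, ?_⟩
    conv_lhs => rw [← hui, ← hvj]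
    rw [tπ_tmul_π, if_pos rfl, hui, hvj]
  have hcls : (tensor C C').B.mkQ (u ⊗ₜ[k] v) ∈ (tensor C C').Hgr (i + j) :=
    Submodule.mem_map_of_mem (Lgr_le_cycles C C' _ hL)
  suffices hh : e.symm ((LinearEquiv.ofEq _ _ hbox) (boxEquiv _ _ (x ⊗ₜ[k] y))) = ⟨_, hcls⟩ from
    congrArg Subtype.val hh
  rw [LinearEquiv.symm_apply_eq]
  refine Subtype.ext ?_
  rw [he ⟨_, hcls⟩ _ hL rfl, TensorProduct.map_tmul]
  show (x : V ⧸ C.B) ⊗ₜ[k] (y : W ⧸ C'.B) = _
  rw [hx, hy]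

/-- The classes of a product of two exact complexes modulo torsion, in a degree with a single contribution. -/
theorem exists_top_general {C : Cx k V} {C' : Cx k W} {A : Submodule k V} {A' : Submodule k W}
    (hA : C.Stable A) (hA' : C'.Stable A') (hC : C.ExactPos) (hC' : C'.ExactPos) (i j m : ℕ)
    (hm : m + 1 = i + j)
    (h : ∀ p q, p + q = i + j → (p = i ∧ q = j) ∨ (C.quot A hA).Hgr p = ⊥ ∨ (C'.quot A' hA').Hgr q = ⊥) :
    ∃ e : (C.quot A hA).Hgr i ⊗[k] (C'.quot A' hA').Hgr j ≃ₗ[k] (tensor C C').Hrel (Kq A A') (m + 1 + 1),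
      ∀ (x : (C.quot A hA).Hgr i) (y : (C'.quot A' hA').Hgr j) (u : V) (v : W),
        C.π i u = u → C'.π j v = v → C.d u ∈ A → C'.d v ∈ A' →
        (x : (V ⧸ A) ⧸ (C.quot A hA).B) = (C.quot A hA).B.mkQ (A.mkQ u) →
        (y : (W ⧸ A') ⧸ (C'.quot A' hA').B) = (C'.quot A' hA').B.mkQ (A'.mkQ v) →
          (e (x ⊗ₜ[k] y) : (V ⊗[k] W) ⧸ (Kq A A').map (tensor C C').d) =
            ((Kq A A').map (tensor C C').d).mkQ ((tensor C C').d (u ⊗ₜ[k] v)) := by
  obtain ⟨eK, heK⟩ := exists_kunneth_single (C.quot A hA) (C'.quot A' hA') i j h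
  have hn : (tensor (C.quot A hA) (C'.quot A' hA')).Hgr (i + j) =
      (tensor (C.quot A hA) (C'.quot A' hA')).Hgr (m + 1) := by rw [hm]
  obtain ⟨eC, heC⟩ := exists_connecting_equiv (T := tensor C C') (Q := tensor (C.quot A hA) (C'.quot A' hA'))
    (K := Kq A A') (map_mkQ_surjective A A') (qq_tD hA hA') (qq_tπ hA hA') rfl (hC.tensor hC') m
  refine ⟨(eK.trans (LinearEquiv.ofEq _ _ hn)).trans eC, fun x y u v hu hv hdu hdv hx hy => ?_⟩
  have hZ : A.mkQ u ∈ (C.quot A hA).Z := (C.quot A hA).mem_Z.2 ((Submodule.Quotient.mk_eq_zero _).2 hdu)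
  have hZ' : A'.mkQ v ∈ (C'.quot A' hA').Z := (C'.quot A' hA').mem_Z.2 ((Submodule.Quotient.mk_eq_zero _).2 hdv)
  have hval := heK x y _ _ hZ hZ' (congrArg A.mkQ hu) (congrArg A'.mkQ hv) hx hy
  have hπp : (tensor C C').π (m + 1) (u ⊗ₜ[k] v) = u ⊗ₜ[k] v := by
    show tπ C C' (m + 1) _ = _
    conv_lhs => rw [← hu, ← hv]
    rw [tπ_tmul_π, if_pos hm, hu, hv]
  have hdp : (tensor C C').d (u ⊗ₜ[k] v) ∈ Kq A A' := by
    show tD C C' _ ∈ LinearMap.ker _
    rw [LinearMap.mem_ker, qq_tD hA hA', TensorProduct.map_tmul]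
    exact (tensor (C.quot A hA) (C'.quot A' hA')).mem_Z.1 (tmul_mem_Z _ _ hZ hZ')
  rw [← TensorProduct.map_tmul A.mkQ A'.mkQ u v] at hval
  have hcls : (tensor (C.quot A hA) (C'.quot A' hA')).B.mkQ (TensorProduct.map A.mkQ A'.mkQ (u ⊗ₜ[k] v)) ∈
      (tensor (C.quot A hA) (C'.quot A' hA')).Hgr (m + 1) := hn.le (hval ▸ (eK (x ⊗ₜ[k] y)).2)
  rw [show ((eK.trans (LinearEquiv.ofEq _ _ hn)).trans eC) (x ⊗ₜ[k] y) = eC ⟨_, hcls⟩ from
    congrArg eC (Subtype.ext hval)]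
  exact heC _ hπp hdp hcls

end Cx

section OneFactor

variable {k R : Type u} [Field k] [CommRing R] [Algebra k R] {𝒜 : ℤ → Submodule k R} [GradedAlgebra 𝒜]
  {M : Type u} [AddCommGroup M] [Module R M] {τ : Type u} [SetLike τ M] [AddSubgroupClass τ M]
  {ℳ : ℤ → τ} [Decomposition ℳ] [SetLike.GradedSMul 𝒜 ℳ] (E : GrLC.StarInjRes 𝒜 ℳ)
  (a : HomogeneousIdeal 𝒜)

/-- A piece of local cohomology, as a subspace. -/
def hPiece (i : ℕ) [Module k (E.H a i)] [IsScalarTower k R (E.H a i)] (d : ℤ) : Submodule k (E.H a i) where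
  carrier := (E.Hgr a i d : Set (E.H a i))
  add_mem' := add_mem
  zero_mem' := zero_mem _
  smul_mem' c x hx := by
    obtain ⟨z, hz, rfl⟩ := hx
    refine ⟨algebraMap k R c • z, piece_smul_algebraMap (E.X i) c hz, ?_⟩
    rw [map_smul, algebraMap_smul]

/-- A homogeneous class as the coboundary of a homogeneous element of the ambient complex. -/
def IsTopRep (n : ℕ) (d : ℤ) (x : E.H a (n + 1 + 1)) (c : Big E) : Prop :=
  bigP E d c = c ∧ termProj E (n + 1) c = c ∧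
    ∃ z : E.cocyc a (n + 1 + 1), (z : (E.X (n + 1 + 1)).carrier) ∈ (E.X (n + 1 + 1)).gr d ∧
      bigD E c = inc E (n + 1 + 1) z ∧ E.toH a (n + 1 + 1) z = x

theorem exists_topRep {n : ℕ} {d : ℤ} {x : E.H a (n + 1 + 1)} (hx : x ∈ E.Hgr a (n + 1 + 1) d) :
    ∃ c, IsTopRep E a n d x c := by
  obtain ⟨z, hz, rfl⟩ := hx
  have hz0 : bigD E (inc E (n + 1 + 1) (z : (E.X (n + 1 + 1)).carrier)) = 0 := by
    rw [bigD_inc, LinearMap.mem_ker.1 z.2.2, map_zero]
  obtain ⟨y, hy⟩ := exact_bigD E hz0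
  refine ⟨bigP E d (inc E (n + 1) y), (bigProj E).p_self d _, ?_, z, hz, ?_, rfl⟩
  · rw [bigP_termProj, termProj_inc, if_pos rfl]
  · rw [bigP_bigD, hy, bigP_inc, proj_of_mem _ hz]

theorem IsTopRep.smul {n : ℕ} {d : ℤ} {x : E.H a (n + 1 + 1)} {c : Big E} (h : IsTopRep E a n d x c)
    {e : ℤ} {r : R} (hr : r ∈ 𝒜 e) : IsTopRep E a n (e + d) (r • x) (r • c) := by
  obtain ⟨h1, h2, z, hz1, hz2, hz3⟩ := h
  refine ⟨?_, ?_, r • z, GrInjLib.smul_mem 𝒜 (E.X (n + 1 + 1)).gr hr hz1, ?_, ?_⟩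
  · have := bigP_smul E e r hr d c
    rw [show (bigProj E).p d c = c from h1, add_comm d e] at this
    exact this.symm
  · rw [map_smul, h2]
  · rw [map_smul, hz2, SetLike.val_smul, map_smul]
  · rw [map_smul, hz3]

/-- A piece of higher local cohomology in the quotient of the ambient complex. -/
theorem exists_topEquiv (n : ℕ) [Module k (E.H a (n + 1 + 1))] [IsScalarTower k R (E.H a (n + 1 + 1))] (d : ℤ) :
    ∃ e : hPiece E a (n + 1 + 1) d ≃ₗ[k] (degQuot E d a.toIdeal).Hgr (n + 1),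
      ∀ (x : hPiece E a (n + 1 + 1) d) (c : Big E) (hc : IsTopRep E a n d x c),
        (e x : (LinearMap.range (bigP E d) ⧸ degGam E d a.toIdeal) ⧸ (degQuot E d a.toIdeal).B) =
          (degQuot E d a.toIdeal).B.mkQ ((degGam E d a.toIdeal).mkQ ⟨c, c, hc.1⟩) := by
  obtain ⟨f, hfc, hfz⟩ := exists_Hrel_addEquiv E d a (n + 1 + 1)
  obtain ⟨eQ, heQ⟩ := exists_degQuot_equiv E d a.toIdeal n
  let g : hPiece E a (n + 1 + 1) d ≃ₗ[k] (degCx E d).Hrel (degGam E d a.toIdeal) (n + 1 + 1) :=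
    { toFun := fun x => f ⟨x.1, x.2⟩
      invFun := fun v => ⟨(f.symm v).1, (f.symm v).2⟩
      left_inv := fun x => Subtype.ext (congrArg Subtype.val (f.symm_apply_apply ⟨x.1, x.2⟩))
      right_inv := fun v => f.apply_symm_apply v
      map_add' := fun x y => map_add f (⟨x.1, x.2⟩ : E.Hcomp a (n + 1 + 1) d) ⟨y.1, y.2⟩
      map_smul' := fun c x => by
        rw [RingHom.id_apply]
        refine (congrArg f (Subtype.ext ?_)).trans
          (hfc c ⟨x.1, x.2⟩ ⟨algebraMap k R c, SetLike.algebraMap_mem_graded 𝒜 c⟩ rfl)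
        exact (algebraMap_smul R c (x : E.H a (n + 1 + 1))).symm }
  refine ⟨g.trans eQ.symm, fun x c hc => ?_⟩
  obtain ⟨h1, h2, z, hz1, hz2, hz3⟩ := hc
  have hπ : (degCx E d).π (n + 1) ⟨c, c, h1⟩ = ⟨c, c, h1⟩ := Subtype.ext h2
  have hdc : (degCx E d).d ⟨c, c, h1⟩ ∈ degGam E d a.toIdeal := by
    show bigD E c ∈ GrLC.gam a.toIdeal (Big E)
    rw [hz2]
    exact map_gam (inc E (n + 1 + 1)) _ z.2.1
  have hm : (degQuot E d a.toIdeal).B.mkQ ((degGam E d a.toIdeal).mkQ ⟨c, c, h1⟩) ∈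
      (degQuot E d a.toIdeal).Hgr (n + 1) := by
    refine Submodule.mem_map_of_mem ⟨(degQuot E d a.toIdeal).mem_Z.2 ?_, (degGam E d a.toIdeal).mkQ ⟨c, c, h1⟩, ?_⟩
    · exact (Submodule.Quotient.mk_eq_zero _).2 hdc
    · exact congrArg (degGam E d a.toIdeal).mkQ hπ
  suffices h : eQ.symm (g x) = ⟨_, hm⟩ from congrArg Subtype.val h
  rw [LinearEquiv.symm_apply_eq]
  refine Subtype.ext ?_
  rw [heQ _ hπ hdc hm]
  have hx : (⟨x.1, x.2⟩ : E.Hcomp a (n + 1 + 1) d) = ⟨E.toH a (n + 1 + 1) z, z, hz1, rfl⟩ := Subtype.ext hz3.symm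
  change Subtype.val (f ⟨x.1, x.2⟩) = _
  rw [hx, hfz z hz1]
  exact congrArg _ (Subtype.ext hz2.symm)

theorem degQuot_Hgr_eq_bot {n : ℕ} (h : ∀ g, E.Hcomp a (n + 1 + 1) g = ⊥) (d : ℤ) :
    (degQuot E d a.toIdeal).Hgr (n + 1) = ⊥ := by
  obtain ⟨f, -, -⟩ := exists_Hrel_addEquiv E d a (n + 1 + 1)
  obtain ⟨eQ, -⟩ := exists_degQuot_equiv E d a.toIdeal n
  rw [eq_bot_iff]
  intro v hv
  have h0 : f.symm (eQ ⟨v, hv⟩) = 0 := by
    refine Subtype.ext ?_
    have hm := (f.symm (eQ ⟨v, hv⟩)).2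
    simp only [h d, Submodule.mem_bot] at hm
    exact hm
  have h1 : eQ ⟨v, hv⟩ = 0 := by simpa using congrArg f h0
  exact (Submodule.mem_bot k).2 (congrArg Subtype.val (eQ.map_eq_zero_iff.1 h1))

end OneFactor

section

variable {k R S T : Type u} [Field k] [CommRing R] [CommRing S] [CommRing T] [Algebra k R]
  [Algebra k S] [Algebra k T] {𝒜 : ℤ → Submodule k R} [GradedAlgebra 𝒜] {ℬ : ℤ → Submodule k S}
  [GradedAlgebra ℬ] {𝒯 : ℤ → Submodule k T} [GradedAlgebra 𝒯] {ψ : T →ₐ[k] R ⊗[k] S}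
  {mR : HomogeneousIdeal 𝒜} {mS : HomogeneousIdeal ℬ} {mT : HomogeneousIdeal 𝒯}
  (H : Setting k R S T 𝒜 ℬ 𝒯 ψ mR mS mT)
  {M : Type u} [AddCommGroup M] [Module R M] [Module k M] [IsScalarTower k R M]
  {τM : Type u} [SetLike τM M] [AddSubgroupClass τM M]
  {ℳ : ℤ → τM} [Decomposition ℳ] [SetLike.GradedSMul 𝒜 ℳ] (EM : GrLC.StarInjRes 𝒜 ℳ)
  {N : Type u} [AddCommGroup N] [Module S N] [Module k N] [IsScalarTower k S N]
  {τN : Type u} [SetLike τN N] [AddSubgroupClass τN N]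
  {𝒩 : ℤ → τN} [Decomposition 𝒩] [SetLike.GradedSMul ℬ 𝒩] (EN : GrLC.StarInjRes ℬ 𝒩)
  {P : Type u} [AddCommGroup P] [Module T P] [Module k P] [IsScalarTower k T P]
  {τQ : Type u} [SetLike τQ P] [AddSubgroupClass τQ P]
  {𝒬 : ℤ → τQ} [Decomposition 𝒬] [SetLike.GradedSMul 𝒯 𝒬] {φ : P →ₗ[k] M ⊗[k] N}
  (hP : GrSeg.IsSegreMod ψ ℳ 𝒩 𝒬 φ)

theorem pairVal_tmul {d : ℤ} {c : Big EM} {c' : Big EN} (hc : c ∈ LinearMap.range (bigP EM d))
    (hc' : c' ∈ LinearMap.range (bigP EN d)) :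
    pairVal ψ EM EN d ((⟨c, hc⟩ : LinearMap.range (bigP EM d)) ⊗ₜ[k] (⟨c', hc'⟩ : LinearMap.range (bigP EN d))) =
      (TW.val ψ).symm (c ⊗ₜ[k] c') := by
  apply (TW.val ψ).injective
  rw [val_pairVal, LinearEquiv.apply_symm_apply, pairJ, TensorProduct.map_tmul]
  rfl

variable {a b : ℕ} [Module k (EM.H mR (a + 1 + 1))] [IsScalarTower k R (EM.H mR (a + 1 + 1))]
  [Module k (EN.H mS (b + 1 + 1))] [IsScalarTower k S (EN.H mS (b + 1 + 1))]

include H in
/-- One degree of the top classes of the ambient complex. -/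
theorem exists_topMap (hMv : ∀ i, a + 1 + 1 < i → ∀ g, EM.Hcomp mR i g = ⊥)
    (hNv : ∀ i, b + 1 + 1 < i → ∀ g, EN.Hcomp mS i g = ⊥) (d : ℤ) :
    ∃ Ω : hPiece EM mR (a + 1 + 1) d ⊗[k] hPiece EN mS (b + 1 + 1) d →ₗ[k] Amb ψ EM EN ⧸ KD ψ EM EN mT,
      Function.Injective Ω ∧
      (∀ v, v ∈ LinearMap.range Ω ↔ ∃ z, IsCocyc H EM EN (a + b + 1 + 1 + 1) d z ∧ v = Submodule.Quotient.mk z) ∧
      ∀ x y c c', IsTopRep EM mR a d x.1 c → IsTopRep EN mS b d y.1 c' →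
        Ω (x ⊗ₜ[k] y) = Submodule.Quotient.mk (totD ψ EM EN ((TW.val ψ).symm (c ⊗ₜ[k] c'))) := by
  classical
  obtain ⟨eM, heM⟩ := exists_topEquiv EM mR a d
  obtain ⟨eN, heN⟩ := exists_topEquiv EN mS b d
  obtain ⟨eG, heG⟩ : ∃ e : (degQuot EM d mR.toIdeal).Hgr (a + 1) ⊗[k] (degQuot EN d mS.toIdeal).Hgr (b + 1) ≃ₗ[k]
      (pairCx EM EN d).Hrel (pairK EM EN d mR.toIdeal mS.toIdeal) (a + b + 1 + 1 + 1),
      ∀ x y u v, (degCx EM d).π (a + 1) u = u → (degCx EN d).π (b + 1) v = v →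
        (degCx EM d).d u ∈ degGam EM d mR.toIdeal → (degCx EN d).d v ∈ degGam EN d mS.toIdeal →
        x.1 = (degQuot EM d mR.toIdeal).B.mkQ ((degGam EM d mR.toIdeal).mkQ u) →
        y.1 = (degQuot EN d mS.toIdeal).B.mkQ ((degGam EN d mS.toIdeal).mkQ v) →
          (e (x ⊗ₜ[k] y)).1 = ((pairK EM EN d mR.toIdeal mS.toIdeal).map (pairCx EM EN d).d).mkQ
            ((pairCx EM EN d).d (u ⊗ₜ[k] v)) :=
    Cx.exists_top_general (stable_degGam EM d mR.toIdeal) (stable_degGam EN d mS.toIdeal)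
      (exactPos_degCx EM d) (exactPos_degCx EN d) (a + 1) (b + 1) (a + b + 1) (by omega) fun p q hpq => by
      by_cases h1 : a + 1 < p
      · obtain ⟨i, rfl⟩ : ∃ i, p = i + 1 := ⟨p - 1, by omega⟩
        exact Or.inr (Or.inl (degQuot_Hgr_eq_bot EM mR (hMv _ (by omega)) d))
      by_cases h2 : b + 1 < q
      · obtain ⟨i, rfl⟩ : ∃ i, q = i + 1 := ⟨q - 1, by omega⟩
        exact Or.inr (Or.inr (degQuot_Hgr_eq_bot EN mS (hNv _ (by omega)) d))
      exact Or.inl ⟨by omega, by omega⟩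
  let j : (LinearMap.range (bigP EM d) ⊗[k] LinearMap.range (bigP EN d)) ⧸
      (pairK EM EN d mR.toIdeal mS.toIdeal).map (pairCx EM EN d).d →ₗ[k] Amb ψ EM EN ⧸ KD ψ EM EN mT :=
    Submodule.liftQ _ (((KD ψ EM EN mT).mkQ.restrictScalars k) ∘ₗ pairVal ψ EM EN d) fun z hz =>
      (Submodule.Quotient.mk_eq_zero _).2 ((pairVal_mem_KD_iff H EM EN d).2 hz)
  have hj : Function.Injective j := by
    refine (injective_iff_map_eq_zero j).2 fun v hv => ?_
    obtain ⟨z, rfl⟩ := Submodule.mkQ_surjective _ v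
    exact (Submodule.Quotient.mk_eq_zero _).2
      ((pairVal_mem_KD_iff H EM EN d).1 ((Submodule.Quotient.mk_eq_zero _).1 hv))
  let θ : hPiece EM mR (a + 1 + 1) d ⊗[k] hPiece EN mS (b + 1 + 1) d ≃ₗ[k]
      (pairCx EM EN d).Hrel (pairK EM EN d mR.toIdeal mS.toIdeal) (a + b + 1 + 1 + 1) :=
    (TensorProduct.congr eM eN).trans eG
  refine ⟨j ∘ₗ ((pairCx EM EN d).Hrel (pairK EM EN d mR.toIdeal mS.toIdeal) (a + b + 1 + 1 + 1)).subtype ∘ₗ
      θ.toLinearMap, hj.comp (Subtype.val_injective.comp θ.injective), fun v => ?_, ?_⟩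
  · constructor
    · rintro ⟨w, rfl⟩
      obtain ⟨u, ⟨⟨hu1, hu2⟩, hu3⟩, hu⟩ := (θ w).2
      refine ⟨_, isCocyc_pairVal H EM EN d ((pairCx EM EN d).mem_range_π.1 hu3) hu1 hu2, ?_⟩
      show j (θ w : _ ⧸ _) = _
      rw [← hu]
      rfl
    · rintro ⟨z, hz, rfl⟩
      obtain ⟨w, hw1, hw2, hw3, rfl⟩ := exists_of_isCocyc H EM EN d hz
      let u : (pairCx EM EN d).Hrel (pairK EM EN d mR.toIdeal mS.toIdeal) (a + b + 1 + 1 + 1) :=
        ⟨_, w, ⟨⟨hw2, hw3⟩, (pairCx EM EN d).mem_range_π.2 hw1⟩, rfl⟩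
      refine ⟨θ.symm u, ?_⟩
      show j (θ (θ.symm u) : _ ⧸ _) = _
      rw [θ.apply_symm_apply]
      rfl
  · intro x y c c' hc hc'
    set cR : LinearMap.range (bigP EM d) := ⟨c, c, hc.1⟩ with hcR
    set cS : LinearMap.range (bigP EN d) := ⟨c', c', hc'.1⟩ with hcS
    have hπM : (degCx EM d).π (a + 1) cR = cR := Subtype.ext hc.2.1
    have hπN : (degCx EN d).π (b + 1) cS = cS := Subtype.ext hc'.2.1
    have hdM : (degCx EM d).d cR ∈ degGam EM d mR.toIdeal := by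
      obtain ⟨-, -, z, -, hz2, -⟩ := hc
      show bigD EM c ∈ GrLC.gam mR.toIdeal (Big EM)
      rw [hz2]
      exact map_gam (inc EM (a + 1 + 1)) _ z.2.1
    have hdN : (degCx EN d).d cS ∈ degGam EN d mS.toIdeal := by
      obtain ⟨-, -, z, -, hz2, -⟩ := hc'
      show bigD EN c' ∈ GrLC.gam mS.toIdeal (Big EN)
      rw [hz2]
      exact map_gam (inc EN (b + 1 + 1)) _ z.2.1
    have h3 := heG (eM x) (eN y) cR cS hπM hπN hdM hdN (heM x c hc) (heN y c' hc')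
    show j (θ (x ⊗ₜ[k] y)).1 = _
    rw [show θ (x ⊗ₜ[k] y) = eG (eM x ⊗ₜ[k] eN y) from by
      simp only [θ, LinearEquiv.trans_apply, TensorProduct.congr_tmul], h3]
    show Submodule.Quotient.mk (pairVal ψ EM EN d ((pairCx EM EN d).d (cR ⊗ₜ[k] cS))) = _
    rw [← totD_pairVal, pairVal_tmul]

include H in
/-- Scalars act on the top classes factorwise. -/
theorem smul_topMap {e d : ℤ}
    (Ω : hPiece EM mR (a + 1 + 1) d ⊗[k] hPiece EN mS (b + 1 + 1) d →ₗ[k] Amb ψ EM EN ⧸ KD ψ EM EN mT)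
    (Ω' : hPiece EM mR (a + 1 + 1) (e + d) ⊗[k] hPiece EN mS (b + 1 + 1) (e + d) →ₗ[k]
      Amb ψ EM EN ⧸ KD ψ EM EN mT)
    (hΩ : ∀ x y c c', IsTopRep EM mR a d x.1 c → IsTopRep EN mS b d y.1 c' →
      Ω (x ⊗ₜ[k] y) = Submodule.Quotient.mk (totD ψ EM EN ((TW.val ψ).symm (c ⊗ₜ[k] c'))))
    (hΩ' : ∀ x y c c', IsTopRep EM mR a (e + d) x.1 c → IsTopRep EN mS b (e + d) y.1 c' →
      Ω' (x ⊗ₜ[k] y) = Submodule.Quotient.mk (totD ψ EM EN ((TW.val ψ).symm (c ⊗ₜ[k] c'))))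
    {t : T} (ht : t ∈ 𝒯 e) (w : hPiece EM mR (a + 1 + 1) d ⊗[k] hPiece EN mS (b + 1 + 1) d) :
    ∃ w'', TensorProduct.map (hPiece EM mR (a + 1 + 1) (e + d)).subtype (hPiece EN mS (b + 1 + 1) (e + d)).subtype w'' =
        GrSeg.act k R S _ _ (ψ t) (TensorProduct.map (hPiece EM mR (a + 1 + 1) d).subtype
          (hPiece EN mS (b + 1 + 1) d).subtype w) ∧
      Ω' w'' = t • Ω w := by
  induction w using TensorProduct.induction_on with
  | zero => exact ⟨0, by rw [map_zero, map_zero, map_zero], by rw [map_zero, map_zero, smul_zero]⟩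
  | add u v hu hv =>
    obtain ⟨u', hu1, hu2⟩ := hu
    obtain ⟨v', hv1, hv2⟩ := hv
    exact ⟨u' + v', by rw [map_add, map_add, map_add, hu1, hv1],
      by rw [map_add, map_add, smul_add, hu2, hv2]⟩
  | tmul p p' =>
    obtain ⟨c, hc⟩ := exists_topRep EM mR (show (p : EM.H mR (a + 1 + 1)) ∈ EM.Hgr mR (a + 1 + 1) d from p.2)
    obtain ⟨c', hc'⟩ := exists_topRep EN mS (show (p' : EN.H mS (b + 1 + 1)) ∈ EN.Hgr mS (b + 1 + 1) d from p'.2)
    let L : R ⊗[k] S →ₗ[k] Amb ψ EM EN ⧸ KD ψ EM EN mT :=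
      ((KD ψ EM EN mT).mkQ.restrictScalars k) ∘ₗ ((totD ψ EM EN).restrictScalars k) ∘ₗ
        (TW.val ψ).symm.toLinearMap ∘ₗ (GrSeg.act k R S (Big EM) (Big EN)).flip (c ⊗ₜ[k] c')
    let A : R ⊗[k] S →ₗ[k] EM.H mR (a + 1 + 1) ⊗[k] EN.H mS (b + 1 + 1) :=
      (GrSeg.act k R S (EM.H mR (a + 1 + 1)) (EN.H mS (b + 1 + 1))).flip
        ((p : EM.H mR (a + 1 + 1)) ⊗ₜ[k] (p' : EN.H mS (b + 1 + 1)))
    let ι' := TensorProduct.map (hPiece EM mR (a + 1 + 1) (e + d)).subtype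
      (hPiece EN mS (b + 1 + 1) (e + d)).subtype
    have hle : GrSeg.segrePiece k 𝒜 ℬ e ≤ (LinearMap.range (LinearMap.prod ι' Ω')).comap (LinearMap.prod A L) := by
      refine Submodule.span_le.2 ?_
      rintro _ ⟨r, hr, s, hs, rfl⟩
      have h1 := hc.smul EM mR hr
      have h2 := hc'.smul EN mS hs
      have hp1 : r • (p : EM.H mR (a + 1 + 1)) ∈ hPiece EM mR (a + 1 + 1) (e + d) := by
        obtain ⟨-, -, z, hz, -, hzp⟩ := h1
        exact ⟨z, hz, hzp⟩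
      have hp2 : s • (p' : EN.H mS (b + 1 + 1)) ∈ hPiece EN mS (b + 1 + 1) (e + d) := by
        obtain ⟨-, -, z, hz, -, hzp⟩ := h2
        exact ⟨z, hz, hzp⟩
      refine ⟨(⟨_, hp1⟩ : hPiece EM mR (a + 1 + 1) (e + d)) ⊗ₜ[k]
        (⟨_, hp2⟩ : hPiece EN mS (b + 1 + 1) (e + d)), Prod.ext ?_ ?_⟩
      · show ι' _ = A (r ⊗ₜ[k] s)
        rw [TensorProduct.map_tmul]
        exact (GrSeg.act_tmul r s _ _).symm
      · show Ω' _ = L (r ⊗ₜ[k] s)
        rw [hΩ' ⟨_, hp1⟩ ⟨_, hp2⟩ _ _ h1 h2]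
        show _ = Submodule.Quotient.mk (totD ψ EM EN ((TW.val ψ).symm
          (GrSeg.act k R S (Big EM) (Big EN) (r ⊗ₜ[k] s) (c ⊗ₜ[k] c'))))
        rw [GrSeg.act_tmul]
    obtain ⟨w'', hw⟩ := hle ((H.deg e).le ⟨t, ht, rfl⟩)
    refine ⟨w'', (congrArg Prod.fst hw).trans ?_, (congrArg Prod.snd hw).trans ?_⟩
    · show A (ψ t) = _
      rw [TensorProduct.map_tmul]
      rfl
    · show L (ψ t) = _
      rw [hΩ p p' c c' hc hc', ← Submodule.Quotient.mk_smul, ← map_smul]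
      show Submodule.Quotient.mk (totD ψ EM EN _) = _
      congr 2

end

section Abstract

variable {k R S T : Type u} [Field k] [CommRing R] [CommRing S] [CommRing T] [Algebra k R]
  [Algebra k S] [Algebra k T] {𝒯 : ℤ → Submodule k T} [GradedAlgebra 𝒯] {ψ : T →ₐ[k] R ⊗[k] S}

/-- A piece of a Segre product of two families as the image of the tensor product of the pieces. -/
theorem segrePiece_eq_range {X Y : Type u} [AddCommGroup X] [Module k X] [AddCommGroup Y] [Module k Y]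
    {τX τY : Type u} [SetLike τX X] [SetLike τY Y] (𝒳 : ℤ → τX) (𝒴 : ℤ → τY) (n : ℤ)
    (A : Submodule k X) (B : Submodule k Y) (hA : ∀ x, x ∈ A ↔ x ∈ 𝒳 n) (hB : ∀ y, y ∈ B ↔ y ∈ 𝒴 n) :
    GrSeg.segrePiece k 𝒳 𝒴 n = LinearMap.range (TensorProduct.map A.subtype B.subtype) := by
  refine le_antisymm (Submodule.span_le.2 ?_) ?_
  · rintro _ ⟨x, hx, y, hy, rfl⟩
    exact ⟨(⟨x, (hA x).2 hx⟩ : A) ⊗ₜ[k] (⟨y, (hB y).2 hy⟩ : B), TensorProduct.map_tmul _ _ _ _⟩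
  · rintro _ ⟨w, rfl⟩
    induction w using TensorProduct.induction_on with
    | zero => rw [map_zero]; exact zero_mem _
    | tmul x y =>
      rw [TensorProduct.map_tmul]
      exact Submodule.subset_span ⟨x, (hA x).1 x.2, y, (hB y).1 y.2, rfl⟩
    | add u v hu hv => rw [map_add]; exact add_mem hu hv

theorem map_subtype_injective {X Y : Type u} [AddCommGroup X] [Module k X] [AddCommGroup Y] [Module k Y]
    (A : Submodule k X) (B : Submodule k Y) : Function.Injective (TensorProduct.map A.subtype B.subtype) :=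
  fun u v h => (boxEquiv A B).injective (Subtype.ext h)

/-- A Segre presentation from injective maps out of the pieces of a product. -/
theorem exists_isSegreMod_of_pieces {X Y U V : Type u} [AddCommGroup X] [Module T X] [Module k X]
    [IsScalarTower k T X] (𝒳 : ℤ → AddSubgroup X) [Decomposition 𝒳] [SetLike.GradedSMul 𝒯 𝒳]
    [AddCommGroup Y] [Module T Y] [Module k Y] [IsScalarTower k T Y]
    [AddCommGroup U] [Module R U] [Module k U] [IsScalarTower k R U] (𝒰 : ℤ → AddSubgroup U) [Decomposition 𝒰]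
    [AddCommGroup V] [Module S V] [Module k V] [IsScalarTower k S V] (𝒱 : ℤ → AddSubgroup V)
    (A : ℤ → Submodule k U) (hA : ∀ d x, x ∈ A d ↔ x ∈ 𝒰 d)
    (B : ℤ → Submodule k V) (hB : ∀ d y, y ∈ B d ↔ y ∈ 𝒱 d)
    (Θ : X →ₗ[T] Y) (hΘ : Function.Injective Θ) (Ω : ∀ d, A d ⊗[k] B d →ₗ[k] Y)
    (hΩ : ∀ d, Function.Injective (Ω d)) (hsub : ∀ d, ∀ x ∈ 𝒳 d, Θ x ∈ LinearMap.range (Ω d))
    (hsup : ∀ d w, ∃ x ∈ 𝒳 d, Θ x = Ω d w)
    (hsmul : ∀ (e d : ℤ), ∀ t ∈ 𝒯 e, ∀ w, ∃ w'',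
      TensorProduct.map (A (e + d)).subtype (B (e + d)).subtype w'' =
        GrSeg.act k R S U V (ψ t) (TensorProduct.map (A d).subtype (B d).subtype w) ∧
      Ω (e + d) w'' = t • Ω d w) :
    ∃ Φ : X →ₗ[k] U ⊗[k] V, GrSeg.IsSegreMod ψ 𝒰 𝒱 𝒳 Φ := by
  classical
  choose W hW using fun (d : ℤ) (x : 𝒳 d) => hsub d x x.2
  let ι : ∀ d, A d ⊗[k] B d →ₗ[k] U ⊗[k] V := fun d => TensorProduct.map (A d).subtype (B d).subtype
  have hWadd : ∀ d s t, W d (s + t) = W d s + W d t := fun d s t =>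
    hΩ d (by rw [map_add, hW, hW, hW]; exact map_add Θ _ _)
  let Φ₀ : X →+ U ⊗[k] V :=
    (DirectSum.toAddMonoid fun d => AddMonoidHom.mk' (fun x => ι d (W d x))
      fun s t => by rw [hWadd, map_add]).comp (decomposeAddEquiv 𝒳).toAddMonoidHom
  have hΦd : ∀ (d : ℤ) (x : X), x ∈ 𝒳 d → ∀ w, Ω d w = Θ x → Φ₀ x = ι d w := by
    intro d x hx w hw
    have h : Φ₀ x = ι d (W d ⟨x, hx⟩) := by
      show DirectSum.toAddMonoid (fun d => AddMonoidHom.mk' (fun x => ι d (W d x)) _) (decompose 𝒳 x) = _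
      rw [decompose_of_mem _ hx, DirectSum.toAddMonoid_of]
      rfl
    rw [h, hΩ d ((hW d ⟨x, hx⟩).trans hw.symm)]
  have hsmulk : ∀ (c : k) (x : X), Φ₀ (c • x) = c • Φ₀ x := by
    intro c x
    induction x using DirectSum.Decomposition.inductionOn 𝒳 with
    | zero => simp
    | add u v hu hv => simp only [smul_add, map_add, hu, hv]
    | @homogeneous d x =>
      have hcx : c • (x : X) ∈ 𝒳 d := by
        have h := GrInjLib.smul_mem 𝒯 𝒳 (SetLike.algebraMap_mem_graded 𝒯 c) x.2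
        rwa [algebraMap_smul, zero_add] at h
      rw [hΦd d _ x.2 _ (hW d x), hΦd d _ hcx (c • W d x) ?_, map_smul]
      rw [map_smul, hW, LinearMap.map_smul_of_tower]
  refine ⟨{ toFun := Φ₀, map_add' := map_add Φ₀, map_smul' := hsmulk }, ⟨?_, fun d => ?_, fun t x => ?_⟩⟩
  · show Function.Injective Φ₀
    refine (injective_iff_map_eq_zero Φ₀).2 fun x hx => ?_
    have hsep : ∀ g, ι g (W g (decompose 𝒳 x g)) = 0 := by
      intro g
      let p : U →ₗ[k] U :=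
        { toFun := proj 𝒰 g
          map_add' := map_add _
          map_smul' := fun c u => by
            rw [RingHom.id_apply]
            induction u using DirectSum.Decomposition.inductionOn 𝒰 with
            | zero => simp
            | add u v hu hv => simp only [smul_add, map_add, hu, hv]
            | @homogeneous i u =>
              have hcu : c • (u : U) ∈ 𝒰 i := (hA i _).1 ((A i).smul_mem c ((hA i _).2 u.2))
              by_cases h : i = g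
              · subst h; rw [proj_of_mem _ u.2, proj_of_mem _ hcu]
              · rw [proj_of_mem_ne _ u.2 h, proj_of_mem_ne _ hcu h, smul_zero] }
      have hcomp : TensorProduct.map p LinearMap.id (Φ₀ x) = ι g (W g (decompose 𝒳 x g)) := by
        clear hx
        induction x using DirectSum.Decomposition.inductionOn 𝒳 with
        | zero =>
          have h0 : W g 0 = 0 := hΩ g (by rw [hW, map_zero]; exact map_zero Θ)
          rw [map_zero, map_zero, decompose_zero, DirectSum.zero_apply, h0, map_zero]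
        | add u v hu hv => rw [map_add, map_add, hu, hv, decompose_add, DirectSum.add_apply, hWadd, map_add]
        | @homogeneous d u =>
          rw [hΦd d _ u.2 _ (hW d u)]
          have hp : ∀ w, TensorProduct.map p LinearMap.id (ι d w) = if d = g then ι d w else 0 := by
            intro w
            induction w using TensorProduct.induction_on with
            | zero => simp
            | tmul s t =>
              simp only [ι, TensorProduct.map_tmul, Submodule.subtype_apply, LinearMap.id_apply]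
              show proj 𝒰 g (s : U) ⊗ₜ[k] (t : V) = _
              split_ifs with h
              · subst h; rw [proj_of_mem _ ((hA _ _).1 s.2)]
              · rw [proj_of_mem_ne _ ((hA _ _).1 s.2) h, TensorProduct.zero_tmul]
            | add s t hs ht => simp only [map_add, hs, ht]; split_ifs <;> simp
          rw [hp]
          split_ifs with h
          · subst h
            rw [decompose_coe, DirectSum.of_eq_same]
          · have h0 : W g 0 = 0 := hΩ g (by rw [hW, map_zero]; exact map_zero Θ)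
            rw [decompose_coe, DirectSum.of_eq_of_ne _ _ _ (Ne.symm h), h0, map_zero]
      rw [← hcomp, hx, map_zero]
    rw [← DirectSum.sum_support_decompose 𝒳 x]
    refine Finset.sum_eq_zero fun g _ => hΘ ?_
    have hW0 : W g (decompose 𝒳 x g) = 0 := map_subtype_injective _ _ ((hsep g).trans (map_zero _).symm)
    rw [map_zero, ← hW g, hW0, map_zero]
  · refine Set.ext fun v => ?_
    rw [segrePiece_eq_range 𝒰 𝒱 d (A d) (B d) (hA d) (hB d), SetLike.mem_coe]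
    constructor
    · rintro ⟨x, hx, rfl⟩
      exact ⟨_, (hΦd d x hx _ (hW d ⟨x, hx⟩)).symm⟩
    · rintro ⟨w, rfl⟩
      obtain ⟨x, hx, hxw⟩ := hsup d w
      exact ⟨x, hx, hΦd d x hx w hxw.symm⟩
  · show Φ₀ (t • x) = GrSeg.act k R S U V (ψ t) (Φ₀ x)
    induction t using DirectSum.Decomposition.inductionOn 𝒯 with
    | zero => simp
    | add u v hu hv => simp only [add_smul, map_add, hu, hv, LinearMap.add_apply]
    | @homogeneous e t =>
      induction x using DirectSum.Decomposition.inductionOn 𝒳 with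
      | zero => simp
      | add u v hu hv => simp only [smul_add, map_add, hu, hv]
      | @homogeneous d x =>
        obtain ⟨w'', hw1, hw2⟩ := hsmul e d t t.2 (W d x)
        rw [hΦd d _ x.2 _ (hW d x), ← hw1]
        exact hΦd (e + d) _ (GrInjLib.smul_mem 𝒯 𝒳 t.2 x.2) w'' (by rw [hw2, hW, map_smul])

end Abstract

section

variable {k R S T : Type u} [Field k] [CommRing R] [CommRing S] [CommRing T] [Algebra k R]
  [Algebra k S] [Algebra k T] {𝒜 : ℤ → Submodule k R} [GradedAlgebra 𝒜] {ℬ : ℤ → Submodule k S}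
  [GradedAlgebra ℬ] {𝒯 : ℤ → Submodule k T} [GradedAlgebra 𝒯] {ψ : T →ₐ[k] R ⊗[k] S}
  {mR : HomogeneousIdeal 𝒜} {mS : HomogeneousIdeal ℬ} {mT : HomogeneousIdeal 𝒯}
  (H : Setting k R S T 𝒜 ℬ 𝒯 ψ mR mS mT)
  {M : Type u} [AddCommGroup M] [Module R M] [Module k M] [IsScalarTower k R M]
  {τM : Type u} [SetLike τM M] [AddSubgroupClass τM M]
  {ℳ : ℤ → τM} [Decomposition ℳ] [SetLike.GradedSMul 𝒜 ℳ] (EM : GrLC.StarInjRes 𝒜 ℳ)
  {N : Type u} [AddCommGroup N] [Module S N] [Module k N] [IsScalarTower k S N]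
  {τN : Type u} [SetLike τN N] [AddSubgroupClass τN N]
  {𝒩 : ℤ → τN} [Decomposition 𝒩] [SetLike.GradedSMul ℬ 𝒩] (EN : GrLC.StarInjRes ℬ 𝒩)
  {P : Type u} [AddCommGroup P] [Module T P] [Module k P] [IsScalarTower k T P]
  {τQ : Type u} [SetLike τQ P] [AddSubgroupClass τQ P]
  {𝒬 : ℤ → τQ} [Decomposition 𝒬] [SetLike.GradedSMul 𝒯 𝒬] {φ : P →ₗ[k] M ⊗[k] N}
  (hP : GrSeg.IsSegreMod ψ ℳ 𝒩 𝒬 φ)
  {a b : ℕ} [Module k (EM.H mR (a + 1 + 1))] [IsScalarTower k R (EM.H mR (a + 1 + 1))]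
  [Module k (EN.H mS (b + 1 + 1))] [IsScalarTower k S (EN.H mS (b + 1 + 1))]

include H hP in
/-- The top local cohomology of a Segre product is the Segre product of the top local cohomologies. -/
theorem exists_isSegreMod_top (F : GrLC.StarInjRes 𝒯 𝒬)
    [Module k (F.H mT (a + b + 1 + 1 + 1))] [IsScalarTower k T (F.H mT (a + b + 1 + 1 + 1))]
    [Decomposition (F.Hgr mT (a + b + 1 + 1 + 1))]
    (hMv : ∀ i, a + 1 + 1 < i → ∀ g, EM.Hcomp mR i g = ⊥)
    (hNv : ∀ i, b + 1 + 1 < i → ∀ g, EN.Hcomp mS i g = ⊥) :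
    ∃ Φ : F.H mT (a + b + 1 + 1 + 1) →ₗ[k] EM.H mR (a + 1 + 1) ⊗[k] EN.H mS (b + 1 + 1),
      GrSeg.IsSegreMod ψ (EM.Hgr mR (a + 1 + 1)) (EN.Hgr mS (b + 1 + 1)) (F.Hgr mT (a + b + 1 + 1 + 1)) Φ := by
  classical
  obtain ⟨Θ, hΘ, hΘd⟩ := exists_H_amb H EM EN hP F (a + b + 1 + 1 + 1)
  choose Ω hΩinj hΩrange hΩrep using exists_topMap (ψ := ψ) (mT := mT) H EM EN hMv hNv
  haveI : SetLike.GradedSMul 𝒯 (F.Hgr mT (a + b + 1 + 1 + 1)) := ⟨fun {e g r v} hr hv => by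
    obtain ⟨z, hz, rfl⟩ := hv
    exact ⟨r • z, GrInjLib.smul_mem 𝒯 (F.X _).gr hr hz, map_smul _ _ _⟩⟩
  letI := (addPieces_isInternal ℳ).chooseDecomposition
  letI : Decomposition (EM.Hgr mR (a + 1 + 1)) :=
    (H_isInternal (addRes ℳ EM) mR (a + 1 + 1)).chooseDecomposition
  refine exists_isSegreMod_of_pieces (F.Hgr mT (a + b + 1 + 1 + 1)) (EM.Hgr mR (a + 1 + 1))
    (EN.Hgr mS (b + 1 + 1)) (hPiece EM mR (a + 1 + 1)) (fun _ _ => Iff.rfl) (hPiece EN mS (b + 1 + 1))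
    (fun _ _ => Iff.rfl) Θ hΘ Ω hΩinj (fun d x hx => ?_) (fun d w => ?_)
    (fun e d t ht w => smul_topMap H EM EN (Ω d) (Ω (e + d)) (hΩrep d) (hΩrep (e + d)) ht w)
  · obtain ⟨z, hz, hzx⟩ := (hΘd d).1 x hx
    exact (hΩrange d _).2 ⟨z, hz, hzx⟩
  · obtain ⟨z, hz, hzw⟩ := (hΩrange d _).1 ⟨w, rfl⟩
    obtain ⟨x, hx, hxz⟩ := (hΘd d).2 z hz
    exact ⟨x, hx, hxz.trans hzw.symm⟩

end

end Groth.Agent.GrKunnethLib
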