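import Mathlib
import Groth.Agent.GrKunnethLib.TopIso
import Groth.Agent.GrSegreLib.Homog

/-!
# Local cohomology of a Segre product with a module on which a positive element acts bijectively
-/

set_option autoImplicit false
set_option linter.style.haveILetI false
set_option linter.unusedSectionVars false
set_option maxHeartbeats 1000000
universe u

open scoped TensorProduct
open DirectSum GrInjLib

namespace Groth.Agent.GrKunnethLib

namespace Cx

variable {k : Type u} [Field k] {V W : Type u} [AddCommGroup V] [Module k V] [AddCommGroup W] [Module k W]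

/-- A homotopy between the identity and a projection on the cycles of degree zero. -/
theorem exists_homotopy {C : Cx k W} (hC : C.ExactPos) :
    ∃ ρ h : W →ₗ[k] W, (∀ x, C.d (h x) + h (C.d x) = x - ρ x) ∧ (∀ x, ρ x ∈ C.Z0) ∧
      (∀ x ∈ C.Z0, ρ x = x) ∧ ∀ x, ρ (C.d x) = 0 := by
  classical
  obtain ⟨u, hu⟩ := C.exists_quasi_inverse
  have hZ : ∀ x, x - u (C.d x) ∈ C.Z := fun x => C.mem_Z.2 (by rw [map_sub, hu, sub_self])
  have hB : ∀ y ∈ C.Z, y - C.π 0 y ∈ C.B := by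
    intro y hy
    obtain ⟨s, hs⟩ := C.exists_sum_π y
    have h1 := hs (insert 0 s) (Finset.subset_insert _ _)
    rw [← Finset.add_sum_erase _ _ (Finset.mem_insert_self 0 s)] at h1
    rw [show y - C.π 0 y = ∑ n ∈ (insert 0 s).erase 0, C.π n y from sub_eq_of_eq_add' h1.symm]
    refine Submodule.sum_mem _ fun n hn => ?_
    obtain ⟨m, rfl⟩ := Nat.exists_eq_succ_of_ne_zero (Finset.mem_erase.1 hn).1
    exact hC m _ (C.π_mem_Z hy _) (C.π_self _ _)
  let e : W →ₗ[k] W := LinearMap.id - u ∘ₗ C.d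
  have he : ∀ x, e x = x - u (C.d x) := fun x => rfl
  have hed : ∀ x, e (C.d x) = C.d x := fun x => by rw [he, C.d_d, map_zero, sub_zero]
  refine ⟨C.π 0 ∘ₗ e, u ∘ₗ (LinearMap.id - C.π 0) ∘ₗ e, fun x => ?_, fun x => ?_, fun x hx => ?_, fun x => ?_⟩
  · obtain ⟨w, hw⟩ := hB _ (hZ x)
    simp only [LinearMap.comp_apply, LinearMap.sub_apply, LinearMap.id_apply]
    rw [hed, C.π_zero_d, sub_zero, he, ← hw, hu, hw]
    abel
  · exact ⟨C.π_mem_Z (hZ x) 0, _, rfl⟩
  · rw [LinearMap.comp_apply, he, C.mem_Z.1 hx.1, map_zero, sub_zero]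
    exact C.mem_range_π.1 hx.2
  · rw [LinearMap.comp_apply, hed, C.π_zero_d]

/-- A contraction of an acyclic subcomplex. -/
theorem exists_contraction {C : Cx k W} {A : Submodule k W} (hA : C.Stable A)
    (hex : ∀ y ∈ A, C.d y = 0 → ∃ a ∈ A, C.d a = y) :
    ∃ h : W →ₗ[k] W, (∀ x, h x ∈ A) ∧ ∀ a ∈ A, C.d (h a) + h (C.d a) = a := by
  obtain ⟨u, hu⟩ := (C.sub A hA).exists_quasi_inverse
  obtain ⟨p, hp, hp'⟩ := exists_proj A
  let D := (C.sub A hA).d
  let h₀ : A →ₗ[k] A := u ∘ₗ (LinearMap.id - u ∘ₗ D)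
  refine ⟨A.subtype ∘ₗ h₀ ∘ₗ p.codRestrict A hp, fun x => (h₀ _).2, fun a ha => ?_⟩
  have hpa : ∀ (b : W) (hb : b ∈ A), p.codRestrict A hp b = ⟨b, hb⟩ := fun b hb => Subtype.ext (hp' b hb)
  simp only [LinearMap.comp_apply, hpa a ha, hpa _ (hA.d_mem a ha)]
  have hD2 : D (D ⟨a, ha⟩) = 0 := (C.sub A hA).d_d _
  have hz : D (⟨a, ha⟩ - u (D ⟨a, ha⟩)) = 0 := by rw [map_sub, hu, sub_self]
  obtain ⟨w₀, hw₀⟩ : ∃ w₀ : A, w₀ = ⟨a, ha⟩ - u (D ⟨a, ha⟩) := ⟨_, rfl⟩
  rw [← hw₀] at hz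
  obtain ⟨b, hb, hbd⟩ := hex (w₀ : W) w₀.2 (congrArg Subtype.val hz)
  have hbD : D ⟨b, hb⟩ = ⟨a, ha⟩ - u (D ⟨a, ha⟩) := hw₀ ▸ Subtype.ext hbd
  have key : D (h₀ ⟨a, ha⟩) + h₀ (D ⟨a, ha⟩) = ⟨a, ha⟩ := by
    show D (u (⟨a, ha⟩ - u (D ⟨a, ha⟩))) + u (D ⟨a, ha⟩ - u (D (D ⟨a, ha⟩))) = _
    rw [hD2, map_zero, sub_zero, ← hbD, hu, hbD, sub_add_cancel]
  exact congrArg Subtype.val key

/-- The relative classes of a product with a complex whose torsion is acyclic. -/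
theorem exists_Hrel_tensor {C : Cx k V} {C' : Cx k W} {A : Submodule k V} {A' : Submodule k W}
    (hA : C.Stable A) (hA' : C'.Stable A') (hC' : C'.ExactPos)
    (hex : ∀ y ∈ A', C'.d y = 0 → ∃ a ∈ A', C'.d a = y) (q : ℕ) :
    ∃ G : C.Hrel A q ⊗[k] C'.Z0 →ₗ[k] (V ⊗[k] W) ⧸ (Kq A A').map (tensor C C').d,
      Function.Injective G ∧ LinearMap.range G = (tensor C C').Hrel (Kq A A') q ∧
      ∀ (h : C.Hrel A q) (y : C'.Z0) (x : V), (h : V ⧸ A.map C.d) = (A.map C.d).mkQ x →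
        G (h ⊗ₜ[k] y) = ((Kq A A').map (tensor C C').d).mkQ (x ⊗ₜ[k] (y : W)) := by
  classical
  obtain ⟨ρ, h, hh, hρ, hρ', hρd⟩ := exists_homotopy hC'
  obtain ⟨h', hh'A, hh'⟩ := exists_contraction hA' hex
  let M := (Kq A A').map (tensor C C').d
  have hKsup : Kq A A' = box A ⊤ ⊔ box ⊤ A' := ker_map_mkQ A A'
  have hKl : box A (⊤ : Submodule k W) ≤ Kq A A' := hKsup ▸ le_sup_left
  have hKr : box (⊤ : Submodule k V) A' ≤ Kq A A' := hKsup ▸ le_sup_right
  have hDbox : ∀ z ∈ box A (⊤ : Submodule k W), tD C C' z ∈ box A (⊤ : Submodule k W) := fun z hz =>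
    (box_le (P := (box A ⊤).comap (tD C C')) fun a ha b _ => by
      rw [Submodule.mem_comap, tD_tmul]
      exact add_mem (tmul_mem_box (hA.d_mem a ha) trivial) (tmul_mem_box (hA.σ_mem ha) trivial)) hz
  have hHbox : ∀ (g : W →ₗ[k] W), ∀ z ∈ box A (⊤ : Submodule k W),
      TensorProduct.map C.σ g z ∈ box A (⊤ : Submodule k W) := fun g z hz =>
    (box_le (P := (box A ⊤).comap (TensorProduct.map C.σ g)) fun a ha b _ => by
      rw [Submodule.mem_comap, TensorProduct.map_tmul]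
      exact tmul_mem_box (hA.σ_mem ha) trivial) hz
  have hHg : ∀ (g : W →ₗ[k] W) (z : V ⊗[k] W), tD C C' (TensorProduct.map C.σ g z) +
      TensorProduct.map C.σ g (tD C C' z) = TensorProduct.map LinearMap.id (C'.d ∘ₗ g + g ∘ₗ C'.d) z := by
    intro g z
    induction z using TensorProduct.induction_on with
    | zero => simp
    | tmul x y =>
      simp only [TensorProduct.map_tmul, tD_tmul, map_add, C.σ_σ, LinearMap.id_apply, LinearMap.add_apply,
        LinearMap.comp_apply, C.d_σ, TensorProduct.neg_tmul, TensorProduct.tmul_add]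
      abel
    | add a b ha hb => simp only [map_add, ← ha, ← hb]; abel
  have hid' : ∀ z ∈ box (⊤ : Submodule k V) A',
      TensorProduct.map LinearMap.id (C'.d ∘ₗ h' + h' ∘ₗ C'.d) z = z := fun z hz =>
    map_eq_self_of_mem_box (fun _ _ => rfl) (fun a ha => hh' a ha) hz
  have hH' : ∀ z, TensorProduct.map C.σ h' z ∈ box (⊤ : Submodule k V) A' := fun z =>
    map_mem_box (A := ⊤) (B := A') _ _ (fun _ => trivial) hh'A z
  -- the map
  let S : Submodule k V := C.Z ⊓ A ⊓ LinearMap.range (C.π q)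
  let B : (V ⧸ A.map C.d) →ₗ[k] C'.Z0 →ₗ[k] (V ⊗[k] W) ⧸ M :=
    Submodule.liftQ _ (((TensorProduct.mk k V W).compl₂ C'.Z0.subtype).compr₂ M.mkQ) (by
      rintro _ ⟨a, ha, rfl⟩
      rw [LinearMap.mem_ker]
      refine LinearMap.ext fun y => (Submodule.Quotient.mk_eq_zero _).2 ⟨a ⊗ₜ[k] (y : W),
        hKl (tmul_mem_box ha trivial), ?_⟩
      show tD C C' _ = _
      rw [tD_tmul, C'.mem_Z.1 y.2.1, TensorProduct.tmul_zero, add_zero]
      rfl)
  let ι : C.Hrel A q ⊗[k] C'.Z0 →ₗ[k] (V ⧸ A.map C.d) ⊗[k] C'.Z0 :=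
    TensorProduct.map (C.Hrel A q).subtype LinearMap.id
  let G : C.Hrel A q ⊗[k] C'.Z0 →ₗ[k] (V ⊗[k] W) ⧸ M := TensorProduct.lift B ∘ₗ ι
  have hG : ∀ (h₁ : C.Hrel A q) (y : C'.Z0) (x : V), (h₁ : V ⧸ A.map C.d) = (A.map C.d).mkQ x →
      G (h₁ ⊗ₜ[k] y) = M.mkQ (x ⊗ₜ[k] (y : W)) := fun h₁ y x hx => by
    show TensorProduct.lift B ((h₁ : V ⧸ A.map C.d) ⊗ₜ[k] y) = _
    rw [hx]
    rfl
  let p : S →ₗ[k] C.Hrel A q :=
    ((A.map C.d).mkQ ∘ₗ S.subtype).codRestrict _ fun x => Submodule.mem_map_of_mem x.2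
  have hp : Function.Surjective p := fun v => by
    obtain ⟨x, hx, hxv⟩ := v.2
    exact ⟨⟨x, hx⟩, Subtype.ext hxv⟩
  have hGinj : Function.Injective G := by
    suffices key : ∀ w, G w = 0 → w = 0 from
      fun a b hab => sub_eq_zero.1 (key (a - b) (by rw [map_sub G a b, hab, sub_self]))
    intro w hw
    obtain ⟨x'', rfl⟩ := TensorProduct.map_surjective hp (g' := (LinearMap.id : C'.Z0 →ₗ[k] C'.Z0))
      Function.surjective_id w
    let x : V ⊗[k] W := TensorProduct.map S.subtype C'.Z0.subtype x''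
    have hGx : G (TensorProduct.map p LinearMap.id x'') = M.mkQ x := by
      clear hw
      induction x'' using TensorProduct.induction_on with
      | zero => simp [x]
      | tmul a y => exact hG (p a) y a rfl
      | add a b ha hb => simp only [x, map_add, ha, hb]
    have hxA : x ∈ box A (⊤ : Submodule k W) :=
      map_mem_box (A := A) (B := ⊤) _ _ (fun a => a.2.1.2) (fun _ => trivial) x''
    let L : V ⊗[k] W →ₗ[k] (V ⧸ A.map C.d) ⊗[k] C'.Z0 :=
      TensorProduct.map (A.map C.d).mkQ (ρ.codRestrict C'.Z0 hρ)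
    have hL : ∀ z ∈ box A (⊤ : Submodule k W), L (tD C C' z) = 0 := fun z hz =>
      (box_le (P := LinearMap.ker (L ∘ₗ tD C C')) fun a ha b _ => by
        rw [LinearMap.mem_ker, LinearMap.comp_apply, tD_tmul, map_add, TensorProduct.map_tmul,
          TensorProduct.map_tmul, Submodule.mkQ_apply, (Submodule.Quotient.mk_eq_zero (A.map C.d)).2 ⟨a, ha, rfl⟩,
          show ρ.codRestrict C'.Z0 hρ (C'.d b) = 0 from Subtype.ext (hρd b),
          TensorProduct.zero_tmul, TensorProduct.tmul_zero, add_zero]) hz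
    rw [hGx, Submodule.mkQ_apply, Submodule.Quotient.mk_eq_zero] at hw
    obtain ⟨w, hwK, hwx⟩ := hw
    rw [hKsup] at hwK
    obtain ⟨w1, hw1, w2, hw2, rfl⟩ := Submodule.mem_sup.1 hwK
    change tD C C' (w1 + w2) = x at hwx
    rw [map_add] at hwx
    have hDw2 : tD C C' w2 ∈ box A (⊤ : Submodule k W) := by
      rw [eq_sub_of_add_eq' hwx]
      exact sub_mem hxA (hDbox _ hw1)
    have hDD : tD C C' (TensorProduct.map C.σ h' (tD C C' w2)) = tD C C' w2 := by
      have h1 := congrArg (tD C C') ((hHg h' w2).trans (hid' _ hw2))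
      rw [map_add, tD_tD, zero_add] at h1
      exact h1
    have hx0 : L x = 0 := by
      rw [← hwx, ← hDD, map_add, hL _ hw1, hL _ (hHbox h' _ hDw2), add_zero]
    have hLx : L x = ι (TensorProduct.map p LinearMap.id x'') := by
      clear hwx hw1 hw2 hDw2 hxA hx0 hwK hGx
      induction x'' using TensorProduct.induction_on with
      | zero => simp [x]
      | tmul a y =>
        simp only [x, L, ι, TensorProduct.map_tmul, Submodule.subtype_apply, LinearMap.id_apply]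
        rw [show ρ.codRestrict C'.Z0 hρ (y : W) = y from Subtype.ext (hρ' y y.2)]
        rfl
      | add a b ha hb => simp only [x, map_add] at ha hb ⊢; rw [ha, hb]
    obtain ⟨g, hg⟩ := LinearMap.exists_leftInverse_of_injective (C.Hrel A q).subtype (Submodule.ker_subtype _)
    have := congrArg (TensorProduct.map g (LinearMap.id : C'.Z0 →ₗ[k] C'.Z0)) (hLx.symm.trans hx0)
    rwa [map_zero, ← LinearMap.comp_apply, ← TensorProduct.map_comp, hg, LinearMap.id_comp,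
      TensorProduct.map_id, LinearMap.id_apply] at this
  refine ⟨G, hGinj, le_antisymm ?_ ?_, hG⟩
  · rintro _ ⟨w, rfl⟩
    induction w using TensorProduct.induction_on with
    | zero => rw [map_zero]; exact zero_mem _
    | add a b ha hb => rw [map_add]; exact add_mem ha hb
    | tmul h₁ y =>
      obtain ⟨x, ⟨⟨hxZ, hxA⟩, hxq⟩, hx⟩ := h₁.2
      refine (hG h₁ y x hx.symm) ▸ ⟨x ⊗ₜ[k] (y : W), ⟨⟨tmul_mem_Z C C' hxZ y.2.1,
        hKl (tmul_mem_box hxA trivial)⟩, (tensor C C').mem_range_π.2 ?_⟩, rfl⟩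
      show tπ C C' q _ = _
      rw [← C.mem_range_π.1 hxq, ← C'.mem_range_π.1 y.2.2, tπ_tmul_π, if_pos (by omega)]
  · rintro _ ⟨z, ⟨⟨hzZ, hzK⟩, hzq⟩, rfl⟩
    replace hzZ : tD C C' z = 0 := hzZ
    replace hzq : tπ C C' q z = z := (tensor C C').mem_range_π.1 hzq
    rw [SetLike.mem_coe, hKsup] at hzK
    obtain ⟨z1, hz1, z2, hz2, hz12⟩ := Submodule.mem_sup.1 hzK
    let z' := z - tD C C' (TensorProduct.map C.σ h' z2)
    have hDz2 : tD C C' z2 = -tD C C' z1 := by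
      rw [eq_neg_iff_add_eq_zero, add_comm, ← map_add, hz12, hzZ]
    have hz'A : z' ∈ box A (⊤ : Submodule k W) := by
      have h1 := (hHg h' z2).trans (hid' _ hz2)
      have h2 : z' = z1 + TensorProduct.map C.σ h' (tD C C' z2) := by
        show z - _ = _
        rw [← hz12]
        conv_lhs => enter [1, 2]; rw [← h1]
        abel
      rw [h2, hDz2, map_neg]
      exact add_mem hz1 (neg_mem (hHbox h' _ (hDbox _ hz1)))
    have hz'Z : tD C C' z' = 0 := by rw [map_sub, hzZ, tD_tD, sub_zero]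
    let x0 := TensorProduct.map (LinearMap.id : V →ₗ[k] V) ρ z'
    let v := TensorProduct.map C.σ h' z2 + TensorProduct.map C.σ h z'
    have hv : v ∈ Kq A A' := add_mem (hKr (hH' _)) (hKl (hHbox h _ hz'A))
    have hzx : z = x0 + tD C C' v := by
      have h1 := hHg h z'
      rw [hz'Z, map_zero, add_zero] at h1
      have h2 : TensorProduct.map (LinearMap.id : V →ₗ[k] V) (C'.d ∘ₗ h + h ∘ₗ C'.d) z' = z' - x0 := by
        show _ = z' - TensorProduct.map LinearMap.id ρ z'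
        rw [show C'.d ∘ₗ h + h ∘ₗ C'.d = LinearMap.id - ρ from LinearMap.ext hh]
        induction z' using TensorProduct.induction_on with
        | zero => simp
        | tmul a b => simp [TensorProduct.tmul_sub]
        | add a b ha hb => simp only [map_add, ha, hb]; abel
      rw [h2] at h1
      rw [map_add, h1]
      show z = x0 + (tD C C' _ + (z - tD C C' _ - x0))
      abel
    have hx0A : x0 ∈ box A C'.Z0 :=
      (box_le (P := (box A C'.Z0).comap (TensorProduct.map (LinearMap.id : V →ₗ[k] V) ρ)) fun a ha b _ => by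
        rw [Submodule.mem_comap, TensorProduct.map_tmul]
        exact tmul_mem_box ha (hρ b)) hz'A
    have hdx0 : TensorProduct.map C.d (LinearMap.id : W →ₗ[k] W) x0 = 0 := by
      have h1 : tD C C' x0 = TensorProduct.map C.d (LinearMap.id : W →ₗ[k] W) x0 :=
        (box_le (P := LinearMap.eqLocus (tD C C') (TensorProduct.map C.d LinearMap.id)) fun a _ b hb => by
          show tD C C' _ = TensorProduct.map C.d LinearMap.id _
          rw [tD_tmul, C'.mem_Z.1 hb.1, TensorProduct.tmul_zero, add_zero, TensorProduct.map_tmul,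
            LinearMap.id_apply]) hx0A
      rw [← h1, eq_sub_of_add_eq hzx.symm, map_sub, hzZ, tD_tD, sub_zero]
    obtain ⟨x1, hx1⟩ : x0 ∈ LinearMap.range (TensorProduct.map A.subtype (LinearMap.id : W →ₗ[k] W)) :=
      (box_le (P := LinearMap.range (TensorProduct.map A.subtype (LinearMap.id : W →ₗ[k] W)))
        fun a ha b _ => ⟨(⟨a, ha⟩ : A) ⊗ₜ[k] b, TensorProduct.map_tmul _ _ _ _⟩) hx0A
    have hx1Z : x1 ∈ box (C.sub A hA).Z ⊤ := by
      refine (C.sub A hA).mem_box_Z_top ?_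
      obtain ⟨g, hg⟩ := LinearMap.exists_leftInverse_of_injective A.subtype (Submodule.ker_subtype _)
      have h2 : TensorProduct.map A.subtype (LinearMap.id : W →ₗ[k] W)
          (TensorProduct.map (C.sub A hA).d LinearMap.id x1) = 0 := by
        rw [← LinearMap.comp_apply, ← TensorProduct.map_comp]
        rw [← hx1, ← LinearMap.comp_apply, ← TensorProduct.map_comp] at hdx0
        exact hdx0
      have h3 := congrArg (TensorProduct.map g (LinearMap.id : W →ₗ[k] W)) h2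
      rwa [map_zero, ← LinearMap.comp_apply, ← TensorProduct.map_comp, hg, LinearMap.id_comp,
        TensorProduct.map_id, LinearMap.id_apply] at h3
    have hx0Z : x0 ∈ box (C.Z ⊓ A) C'.Z0 := by
      rw [← box_inf]
      refine ⟨?_, box_mono le_top le_rfl hx0A⟩
      rw [← hx1]
      exact (box_le (P := (box (C.Z ⊓ A) ⊤).comap (TensorProduct.map A.subtype LinearMap.id)) fun a ha b _ => by
        rw [Submodule.mem_comap, TensorProduct.map_tmul]
        exact tmul_mem_box ⟨C.mem_Z.2 (congrArg Subtype.val ((C.sub A hA).mem_Z.1 ha)), a.2⟩ trivial) hx1Z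
    have hπx0 : tπ C C' q x0 ∈ box S C'.Z0 :=
      (box_le (P := (box S C'.Z0).comap (tπ C C' q)) fun a ha b hb => by
        rw [Submodule.mem_comap, tπ_decomp, Finset.sum_eq_single (q, 0)]
        · rw [TensorProduct.map_tmul, C'.mem_range_π.1 hb.2]
          exact tmul_mem_box ⟨⟨C.π_mem_Z ha.1 q, hA.π_mem q a ha.2⟩, _, rfl⟩ hb
        · intro i hi hne
          have h2 : i.2 ≠ 0 := fun h0 => hne (Prod.ext (by
            have := Finset.HasAntidiagonal.mem_antidiagonal.1 hi; omega) h0)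
          rw [TensorProduct.map_tmul, ← C'.mem_range_π.1 hb.2, C'.π_ne h2, TensorProduct.tmul_zero]
        · exact fun hn => absurd (Finset.HasAntidiagonal.mem_antidiagonal.2 (add_zero q)) hn) hx0Z
    have hπDv : tπ C C' q (tD C C' v) ∈ M := by
      cases q with
      | zero =>
        rw [show tπ C C' 0 (tD C C' v) = 0 from (tensor C C').π_zero_d v]
        exact zero_mem _
      | succ m => exact ⟨tπ C C' m v, (stable_Kq hA hA').π_mem m v hv, ((tensor C C').d_π m v).symm⟩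
    have hgoal : M.mkQ z = M.mkQ (tπ C C' q x0) := by
      conv_lhs => rw [← hzq, hzx, map_add]
      rw [map_add, Submodule.mkQ_apply M (tπ C C' q (tD C C' v)), (Submodule.Quotient.mk_eq_zero M).2 hπDv,
        add_zero]
    show M.mkQ z ∈ LinearMap.range G
    rw [hgoal]
    exact (box_le (P := (LinearMap.range G).comap M.mkQ) fun a ha b hb =>
      ⟨p ⟨a, ha⟩ ⊗ₜ[k] (⟨b, hb⟩ : C'.Z0), hG _ _ a rfl⟩) hπx0

end Cx

section

variable {k R S T : Type u} [Field k] [CommRing R] [CommRing S] [CommRing T] [Algebra k R]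
  [Algebra k S] [Algebra k T] {𝒜 : ℤ → Submodule k R} [GradedAlgebra 𝒜] {ℬ : ℤ → Submodule k S}
  [GradedAlgebra ℬ] {𝒯 : ℤ → Submodule k T} [GradedAlgebra 𝒯] {ψ : T →ₐ[k] R ⊗[k] S}
  {mR : HomogeneousIdeal 𝒜} {mS : HomogeneousIdeal ℬ} {mT : HomogeneousIdeal 𝒯}
  (H : Setting k R S T 𝒜 ℬ 𝒯 ψ mR mS mT)
  {M : Type u} [AddCommGroup M] [Module R M] [Module k M] [IsScalarTower k R M]
  {ℳ : ℤ → AddSubgroup M} [Decomposition ℳ] [SetLike.GradedSMul 𝒜 ℳ] (EM : GrLC.StarInjRes 𝒜 ℳ)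
  {N : Type u} [AddCommGroup N] [Module S N] [Module k N] [IsScalarTower k S N]
  {𝒩 : ℤ → AddSubgroup N} [Decomposition 𝒩] [SetLike.GradedSMul ℬ 𝒩] (EN : GrLC.StarInjRes ℬ 𝒩)
  {P : Type u} [AddCommGroup P] [Module T P] [Module k P] [IsScalarTower k T P]
  {𝒬 : ℤ → AddSubgroup P} [Decomposition 𝒬] [SetLike.GradedSMul 𝒯 𝒬] {φ : P →ₗ[k] M ⊗[k] N}
  (hP : GrSeg.IsSegreMod ψ ℳ 𝒩 𝒬 φ)

/-- The torsion of a degree is acyclic when all the local cohomology vanishes. -/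
theorem degGam_acyclic (hN : ∀ j g, EN.Hcomp mS j g = ⊥) (d : ℤ) :
    ∀ y ∈ degGam EN d mS.toIdeal, (degCx EN d).d y = 0 →
      ∃ a ∈ degGam EN d mS.toIdeal, (degCx EN d).d a = y := by
  intro y hy hdy
  obtain ⟨s, hs⟩ := (degCx EN d).exists_sum_π y
  suffices h : y ∈ (degGam EN d mS.toIdeal).map (degCx EN d).d from Submodule.mem_map.1 h
  rw [← hs s subset_rfl]
  refine Submodule.sum_mem _ fun n _ => ?_
  obtain ⟨f, -, -⟩ := exists_Hrel_addEquiv EN d mS n
  let v : (degCx EN d).Hrel (degGam EN d mS.toIdeal) n :=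
    ⟨_, (degCx EN d).π n y, ⟨⟨(degCx EN d).π_mem_Z ((degCx EN d).mem_Z.2 hdy) n,
      (stable_degGam EN d mS.toIdeal).π_mem n y hy⟩, _, rfl⟩, rfl⟩
  have h0 : f.symm v = 0 := by
    refine Subtype.ext ?_
    have hm := (f.symm v).2
    simp only [hN n d, Submodule.mem_bot] at hm
    exact hm
  have h1 : v = 0 := by simpa using congrArg f h0
  exact (Submodule.Quotient.mk_eq_zero _).1 (congrArg Subtype.val h1)

variable {q : ℕ} [Module k (EM.H mR q)] [IsScalarTower k R (EM.H mR q)]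

include H in
/-- One degree of the classes of the ambient complex. -/
theorem exists_bijMap (hN : ∀ j g, EN.Hcomp mS j g = ⊥) (d : ℤ) :
    ∃ Ω : hPiece EM mR q d ⊗[k] piece ℬ 𝒩 d →ₗ[k] Amb ψ EM EN ⧸ KD ψ EM EN mT,
      Function.Injective Ω ∧
      (∀ v, v ∈ LinearMap.range Ω ↔ ∃ z, IsCocyc H EM EN q d z ∧ v = Submodule.Quotient.mk z) ∧
      ∀ (x : hPiece EM mR q d) (y : piece ℬ 𝒩 d) (z : EM.cocyc mR q), (z : (EM.X q).carrier) ∈ (EM.X q).gr d →
        EM.toH mR q z = (x : EM.H mR q) →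
        Ω (x ⊗ₜ[k] y) = Submodule.Quotient.mk
          ((TW.val ψ).symm (inc EM q (z : (EM.X q).carrier) ⊗ₜ[k] bigε EN (y : N))) := by
  classical
  obtain ⟨f, hfc, hfz⟩ := exists_Hrel_addEquiv EM d mR q
  obtain ⟨e0, he0⟩ := exists_Z0_equiv EN d
  let g : hPiece EM mR q d ≃ₗ[k] (degCx EM d).Hrel (degGam EM d mR.toIdeal) q :=
    { toFun := fun x => f ⟨x.1, x.2⟩
      invFun := fun v => ⟨(f.symm v).1, (f.symm v).2⟩
      left_inv := fun x => Subtype.ext (congrArg Subtype.val (f.symm_apply_apply ⟨x.1, x.2⟩))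
      right_inv := fun v => f.apply_symm_apply v
      map_add' := fun x y => map_add f (⟨x.1, x.2⟩ : EM.Hcomp mR q d) ⟨y.1, y.2⟩
      map_smul' := fun c x => by
        rw [RingHom.id_apply]
        refine (congrArg f (Subtype.ext ?_)).trans
          (hfc c ⟨x.1, x.2⟩ ⟨algebraMap k R c, SetLike.algebraMap_mem_graded 𝒜 c⟩ rfl)
        exact (algebraMap_smul R c (x : EM.H mR q)).symm }
  obtain ⟨G, hG1, hG2, hG3⟩ := Cx.exists_Hrel_tensor (stable_degGam EM d mR.toIdeal)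
    (stable_degGam EN d mS.toIdeal) (exactPos_degCx EN d) (degGam_acyclic EN hN d) q
  let j : (LinearMap.range (bigP EM d) ⊗[k] LinearMap.range (bigP EN d)) ⧸
      (pairK EM EN d mR.toIdeal mS.toIdeal).map (pairCx EM EN d).d →ₗ[k] Amb ψ EM EN ⧸ KD ψ EM EN mT :=
    Submodule.liftQ _ (((KD ψ EM EN mT).mkQ.restrictScalars k) ∘ₗ pairVal ψ EM EN d) fun z hz =>
      (Submodule.Quotient.mk_eq_zero _).2 ((pairVal_mem_KD_iff H EM EN d).2 hz)
  have hj : Function.Injective j := by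
    refine (injective_iff_map_eq_zero j).2 fun v hv => ?_
    obtain ⟨z, rfl⟩ := Submodule.mkQ_surjective _ v
    exact (Submodule.Quotient.mk_eq_zero _).2
      ((pairVal_mem_KD_iff H EM EN d).1 ((Submodule.Quotient.mk_eq_zero _).1 hv))
  let θ : hPiece EM mR q d ⊗[k] piece ℬ 𝒩 d ≃ₗ[k]
      (degCx EM d).Hrel (degGam EM d mR.toIdeal) q ⊗[k] (degCx EN d).Z0 := TensorProduct.congr g e0
  refine ⟨j ∘ₗ G ∘ₗ θ.toLinearMap, hj.comp (hG1.comp θ.injective), fun v => ?_, ?_⟩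
  · constructor
    · rintro ⟨w, rfl⟩
      obtain ⟨u, ⟨⟨hu1, hu2⟩, hu3⟩, hu⟩ := hG2.le ⟨θ w, rfl⟩
      refine ⟨_, isCocyc_pairVal H EM EN d ((pairCx EM EN d).mem_range_π.1 hu3) hu1 hu2, ?_⟩
      show j (G (θ w)) = _
      rw [← hu]
      rfl
    · rintro ⟨z, hz, rfl⟩
      obtain ⟨w, hw1, hw2, hw3, rfl⟩ := exists_of_isCocyc H EM EN d hz
      obtain ⟨u, hu⟩ := hG2.ge ⟨w, ⟨⟨hw2, hw3⟩, (pairCx EM EN d).mem_range_π.2 hw1⟩, rfl⟩
      refine ⟨θ.symm u, ?_⟩
      show j (G (θ (θ.symm u))) = _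
      rw [θ.apply_symm_apply, hu]
      rfl
  · intro x y z hz hzx
    have h1 : (g x : LinearMap.range (bigP EM d) ⧸ (degGam EM d mR.toIdeal).map (degCx EM d).d) =
        ((degGam EM d mR.toIdeal).map (degCx EM d).d).mkQ ⟨inc EM q z, bigP_inc_mem EM d hz⟩ := by
      show Subtype.val (f ⟨x.1, x.2⟩) = _
      rw [show (⟨x.1, x.2⟩ : EM.Hcomp mR q d) = ⟨EM.toH mR q z, z, hz, rfl⟩ from Subtype.ext hzx.symm, hfz z hz]
      rfl
    show j (G (θ (x ⊗ₜ[k] y))) = _
    rw [TensorProduct.congr_tmul, hG3 _ _ _ h1]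
    show Submodule.Quotient.mk (pairVal ψ EM EN d _) = _
    refine congrArg _ ((TW.val ψ).injective ?_)
    rw [val_pairVal, LinearEquiv.apply_symm_apply, pairJ, TensorProduct.map_tmul]
    exact congrArg _ (he0 y)

include H in
/-- Scalars act on the classes factorwise. -/
theorem smul_bijMap {e d : ℤ}
    (Ω : hPiece EM mR q d ⊗[k] piece ℬ 𝒩 d →ₗ[k] Amb ψ EM EN ⧸ KD ψ EM EN mT)
    (Ω' : hPiece EM mR q (e + d) ⊗[k] piece ℬ 𝒩 (e + d) →ₗ[k] Amb ψ EM EN ⧸ KD ψ EM EN mT)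
    (hΩ : ∀ (x : hPiece EM mR q d) (y : piece ℬ 𝒩 d) (z : EM.cocyc mR q),
      (z : (EM.X q).carrier) ∈ (EM.X q).gr d → EM.toH mR q z = (x : EM.H mR q) →
      Ω (x ⊗ₜ[k] y) = Submodule.Quotient.mk
        ((TW.val ψ).symm (inc EM q (z : (EM.X q).carrier) ⊗ₜ[k] bigε EN (y : N))))
    (hΩ' : ∀ (x : hPiece EM mR q (e + d)) (y : piece ℬ 𝒩 (e + d)) (z : EM.cocyc mR q),
      (z : (EM.X q).carrier) ∈ (EM.X q).gr (e + d) → EM.toH mR q z = (x : EM.H mR q) →
      Ω' (x ⊗ₜ[k] y) = Submodule.Quotient.mk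
        ((TW.val ψ).symm (inc EM q (z : (EM.X q).carrier) ⊗ₜ[k] bigε EN (y : N))))
    {t : T} (ht : t ∈ 𝒯 e) (w : hPiece EM mR q d ⊗[k] piece ℬ 𝒩 d) :
    ∃ w'', TensorProduct.map (hPiece EM mR q (e + d)).subtype (piece ℬ 𝒩 (e + d)).subtype w'' =
        GrSeg.act k R S _ _ (ψ t) (TensorProduct.map (hPiece EM mR q d).subtype
          (piece ℬ 𝒩 d).subtype w) ∧
      Ω' w'' = t • Ω w := by
  induction w using TensorProduct.induction_on with
  | zero => exact ⟨0, by rw [map_zero, map_zero, map_zero], by rw [map_zero, map_zero, smul_zero]⟩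
  | add u v hu hv =>
    obtain ⟨u', hu1, hu2⟩ := hu
    obtain ⟨v', hv1, hv2⟩ := hv
    exact ⟨u' + v', by rw [map_add, map_add, map_add, hu1, hv1],
      by rw [map_add, map_add, smul_add, hu2, hv2]⟩
  | tmul p p' =>
    obtain ⟨z, hz, hzp⟩ := p.2
    let L : R ⊗[k] S →ₗ[k] Amb ψ EM EN ⧸ KD ψ EM EN mT :=
      ((KD ψ EM EN mT).mkQ.restrictScalars k) ∘ₗ (TW.val ψ).symm.toLinearMap ∘ₗ
        (GrSeg.act k R S (Big EM) (Big EN)).flip (inc EM q (z : (EM.X q).carrier) ⊗ₜ[k] bigε EN (p' : N))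
    let A : R ⊗[k] S →ₗ[k] EM.H mR q ⊗[k] N :=
      (GrSeg.act k R S (EM.H mR q) N).flip ((p : EM.H mR q) ⊗ₜ[k] (p' : N))
    let ι' := TensorProduct.map (hPiece EM mR q (e + d)).subtype (piece ℬ 𝒩 (e + d)).subtype
    have hle : GrSeg.segrePiece k 𝒜 ℬ e ≤ (LinearMap.range (LinearMap.prod ι' Ω')).comap (LinearMap.prod A L) := by
      refine Submodule.span_le.2 ?_
      rintro _ ⟨r, hr, s, hs, rfl⟩
      have h1 : ((r • z : EM.cocyc mR q) : (EM.X q).carrier) ∈ (EM.X q).gr (e + d) :=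
        GrInjLib.smul_mem 𝒜 (EM.X q).gr hr hz
      have h2 : EM.toH mR q (r • z) = r • (p : EM.H mR q) := by rw [map_smul]; exact congrArg _ hzp
      have hp1 : r • (p : EM.H mR q) ∈ hPiece EM mR q (e + d) := ⟨r • z, h1, h2⟩
      have hp2 : s • (p' : N) ∈ piece ℬ 𝒩 (e + d) := GrInjLib.smul_mem ℬ 𝒩 hs p'.2
      refine ⟨(⟨_, hp1⟩ : hPiece EM mR q (e + d)) ⊗ₜ[k] (⟨_, hp2⟩ : piece ℬ 𝒩 (e + d)), Prod.ext ?_ ?_⟩
      · show ι' _ = A (r ⊗ₜ[k] s)
        rw [TensorProduct.map_tmul]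
        exact (GrSeg.act_tmul r s _ _).symm
      · show Ω' _ = L (r ⊗ₜ[k] s)
        rw [hΩ' ⟨_, hp1⟩ ⟨_, hp2⟩ (r • z) h1 h2]
        show _ = Submodule.Quotient.mk ((TW.val ψ).symm
          (GrSeg.act k R S (Big EM) (Big EN) (r ⊗ₜ[k] s) (inc EM q (z : (EM.X q).carrier) ⊗ₜ[k] bigε EN (p' : N))))
        rw [GrSeg.act_tmul, SetLike.val_smul, map_smul, map_smul]
    obtain ⟨w'', hw⟩ := hle ((H.deg e).le ⟨t, ht, rfl⟩)
    refine ⟨w'', (congrArg Prod.fst hw).trans ?_, (congrArg Prod.snd hw).trans ?_⟩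
    · show A (ψ t) = _
      rw [TensorProduct.map_tmul]
      rfl
    · show L (ψ t) = _
      rw [hΩ p p' z hz hzp, ← Submodule.Quotient.mk_smul]
      show Submodule.Quotient.mk _ = _
      refine congrArg _ ((TW.val ψ).injective ?_)
      rw [TW.val_smul, LinearEquiv.apply_symm_apply]
      exact (LinearEquiv.apply_symm_apply _ _)

include H hP in
/-- The local cohomology of a Segre product with a module without local cohomology. -/
theorem exists_isSegreMod_acyclic (hN : ∀ j g, EN.Hcomp mS j g = ⊥) (F : GrLC.StarInjRes 𝒯 𝒬)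
    [Module k (F.H mT q)] [IsScalarTower k T (F.H mT q)] [Decomposition (F.Hgr mT q)] :
    ∃ Φ : F.H mT q →ₗ[k] EM.H mR q ⊗[k] N,
      GrSeg.IsSegreMod ψ (EM.Hgr mR q) 𝒩 (F.Hgr mT q) Φ := by
  classical
  haveI := H.noethR
  obtain ⟨Θ, hΘ, hΘd⟩ := exists_H_amb H EM EN hP F q
  choose Ω hΩinj hΩrange hΩrep using exists_bijMap (ψ := ψ) (mT := mT) H EM EN (q := q) hN
  haveI : SetLike.GradedSMul 𝒯 (F.Hgr mT q) := ⟨fun {e g r v} hr hv => by
    obtain ⟨z, hz, rfl⟩ := hv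
    exact ⟨r • z, GrInjLib.smul_mem 𝒯 (F.X _).gr hr hz, map_smul _ _ _⟩⟩
  letI : Decomposition (EM.Hgr mR q) := (H_isInternal EM mR q).chooseDecomposition
  refine exists_isSegreMod_of_pieces (F.Hgr mT q) (EM.Hgr mR q) 𝒩 (hPiece EM mR q) (fun _ _ => Iff.rfl)
    (piece ℬ 𝒩) (fun _ _ => Iff.rfl) Θ hΘ Ω hΩinj (fun d x hx => ?_) (fun d w => ?_)
    (fun e d t ht w => smul_bijMap H EM EN (Ω d) (Ω (e + d)) (hΩrep d) (hΩrep (e + d)) ht w)
  · obtain ⟨z, hz, hzx⟩ := (hΘd d).1 x hx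
    exact (hΩrange d _).2 ⟨z, hz, hzx⟩
  · obtain ⟨z, hz, hzw⟩ := (hΩrange d _).1 ⟨w, rfl⟩
    obtain ⟨x, hx, hxz⟩ := (hΘd d).2 z hz
    exact ⟨x, hx, hxz.trans hzw.symm⟩

end

end Groth.Agent.GrKunnethLib
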