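import Mathlib
import Groth.Agent.GrKunnethLib.Formula

/-!
# The dimension formula for Segre products
-/

set_option autoImplicit false
set_option linter.style.haveILetI false
set_option linter.unusedSectionVars false
universe u

open scoped TensorProduct
open DirectSum GrInjLib

namespace Groth.Agent.GrKunnethLib

variable {k R S T : Type u} [Field k] [CommRing R] [CommRing S] [CommRing T] [Algebra k R]
  [Algebra k S] [Algebra k T] {𝒜 : ℤ → Submodule k R} [GradedAlgebra 𝒜] {ℬ : ℤ → Submodule k S}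
  [GradedAlgebra ℬ] {𝒯 : ℤ → Submodule k T} [GradedAlgebra 𝒯] {ψ : T →ₐ[k] R ⊗[k] S}

theorem act_self (z w : R ⊗[k] S) : GrSeg.act k R S R S z w = z * w := by
  induction z using TensorProduct.induction_on with
  | zero => simp
  | tmul a b =>
    induction w using TensorProduct.induction_on with
    | zero => simp
    | tmul x y => rw [GrSeg.act_tmul, Algebra.TensorProduct.tmul_mul_tmul, smul_eq_mul, smul_eq_mul]
    | add x y hx hy => simp only [map_add, mul_add, hx, hy]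
  | add a b ha hb => simp only [map_add, LinearMap.add_apply, add_mul, ha, hb]

/-- The Segre product of the rings themselves. -/
theorem isSegreMod_self (hψ : Function.Injective ψ)
    (hdeg : ∀ n : ℤ, (𝒯 n).map ψ.toLinearMap = GrSeg.segrePiece k 𝒜 ℬ n) :
    GrSeg.IsSegreMod ψ 𝒜 ℬ 𝒯 ψ.toLinearMap where
  injective := hψ
  image_piece n := by
    rw [← hdeg n]
    rfl
  map_smul t p := by
    show ψ (t • p) = _
    rw [smul_eq_mul, map_mul, act_self]
    rfl

variable {M : Type u} [AddCommGroup M] [Module R M] [Module k M] [IsScalarTower k R M]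
  {τM : Type u} [SetLike τM M] [AddSubgroupClass τM M]
  {ℳ : ℤ → τM} [Decomposition ℳ] [SetLike.GradedSMul 𝒜 ℳ]
  {N : Type u} [AddCommGroup N] [Module S N] [Module k N] [IsScalarTower k S N]
  {τN : Type u} [SetLike τN N] [AddSubgroupClass τN N]
  {𝒩 : ℤ → τN} [Decomposition 𝒩] [SetLike.GradedSMul ℬ 𝒩]

theorem act_mem_segrePiece {e g : ℤ} {z : R ⊗[k] S} (hz : z ∈ GrSeg.segrePiece k 𝒜 ℬ e) {w : M ⊗[k] N}
    (hw : w ∈ GrSeg.segrePiece k ℳ 𝒩 g) :
    GrSeg.act k R S M N z w ∈ GrSeg.segrePiece k ℳ 𝒩 (e + g) := by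
  induction hz using Submodule.span_induction with
  | mem x hx =>
    obtain ⟨a, ha, b, hb, rfl⟩ := hx
    induction hw using Submodule.span_induction with
    | mem y hy =>
      obtain ⟨m, hm, n, hn, rfl⟩ := hy
      rw [GrSeg.act_tmul]
      exact Submodule.subset_span ⟨_, SetLike.GradedSMul.smul_mem (A := 𝒜) (B := ℳ) ha hm,
        _, SetLike.GradedSMul.smul_mem (A := ℬ) (B := 𝒩) hb hn, rfl⟩
    | zero => rw [map_zero]; exact zero_mem _
    | add x y _ _ hx hy => rw [map_add]; exact add_mem hx hy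
    | smul c x _ hx => rw [map_smul]; exact Submodule.smul_mem _ c hx
  | zero => rw [map_zero, LinearMap.zero_apply]; exact zero_mem _
  | add x y _ _ hx hy => rw [map_add, LinearMap.add_apply]; exact add_mem hx hy
  | smul c x _ hx => rw [map_smul, LinearMap.smul_apply]; exact Submodule.smul_mem _ c hx

/-- A Segre product of modules is graded. -/
theorem gradedSMul_segre (hdeg : ∀ n : ℤ, (𝒯 n).map ψ.toLinearMap = GrSeg.segrePiece k 𝒜 ℬ n)
    {P : Type u} [AddCommGroup P] [Module T P] [Module k P] [IsScalarTower k T P]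
    {τQ : Type u} [SetLike τQ P] [AddSubgroupClass τQ P]
    {𝒬 : ℤ → τQ} [Decomposition 𝒬] {φ : P →ₗ[k] M ⊗[k] N}
    (hP : GrSeg.IsSegreMod ψ ℳ 𝒩 𝒬 φ) : SetLike.GradedSMul 𝒯 𝒬 := by
  refine ⟨fun {e g t p} ht hp => ?_⟩
  have h1 : φ p ∈ GrSeg.segrePiece k ℳ 𝒩 g := (hP.image_piece g).subset ⟨p, hp, rfl⟩
  have h2 := act_mem_segrePiece ((hdeg e).le ⟨t, ht, rfl⟩ : ψ t ∈ GrSeg.segrePiece k 𝒜 ℬ e) h1
  rw [← hP.map_smul t p] at h2
  obtain ⟨q, hq, hqe⟩ := (hP.image_piece (e + g)).superset h2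
  rw [vadd_eq_add, ← hP.injective hqe]
  exact hq

theorem finrank_comp_eq [Nontrivial R] (h0 : 𝒜 0 = Submodule.span k {(1 : R)}) (d : ℤ) :
    Module.finrank (GrLC.deg0 𝒜) (GrLC.comp 𝒜 ℳ d) = Module.finrank k (piece 𝒜 ℳ d) := by
  obtain ⟨i, hi⟩ := exists_deg0_equiv h0
  refine finrank_eq_of_bij i
    { toFun := fun x => ⟨x, x.2⟩, invFun := fun x => ⟨x, x.2⟩, left_inv := fun _ => rfl,
      right_inv := fun _ => rfl, map_add' := fun _ _ => rfl } fun c x => Subtype.ext ?_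
  show (i c : R) • (x : M) = c • (x : M)
  rw [hi, algebraMap_smul]

theorem piece_eq_bot_iff {d : ℤ} : piece 𝒜 ℳ d = ⊥ ↔ ∀ m ∈ ℳ d, m = 0 := by
  rw [Submodule.eq_bot_iff]
  exact Iff.rfl

theorem finrank_piece_self (d : ℤ) :
    Module.finrank k (piece 𝒜 𝒜 d) = Module.finrank k (𝒜 d) := by
  refine LinearEquiv.finrank_eq (LinearEquiv.ofEq _ _ ?_)
  ext x
  exact Iff.rfl

theorem sum_antidiag_identity (a b : ℕ) (h g : ℕ → ℕ) (h0 : h 0 = 0) (g0 : g 0 = 0) (n : ℕ) :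
    (∑ p ∈ Finset.HasAntidiagonal.antidiagonal n,
        ((if p.1 = 0 then a else 0) + h (p.1 + 1)) * ((if p.2 = 0 then b else 0) + g (p.2 + 1))) =
      (if n = 0 then a * b else 0) + (a * g (n + 1) + h (n + 1) * b +
        ∑ i ∈ Finset.range (n + 3), h i * g (n + 2 - i)) := by
  rw [Finset.Nat.sum_antidiagonal_eq_sum_range_succ
    (fun i j => ((if i = 0 then a else 0) + h (i + 1)) * ((if j = 0 then b else 0) + g (j + 1))) n]
  rw [Finset.sum_range_succ' (fun i => h i * g (n + 2 - i)), Finset.sum_range_succ _ (n + 1)]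
  simp only [h0, zero_mul, add_zero]
  rw [show n + 2 - (n + 1 + 1) = 0 by omega, g0, mul_zero, add_zero]
  simp only [add_mul, mul_add, Finset.sum_add_distrib]
  have e1 : ∑ i ∈ Finset.range (n + 1), (if i = 0 then a else 0) * (if n - i = 0 then b else 0) =
      if n = 0 then a * b else 0 := by
    rw [Finset.sum_eq_single 0]
    · simp only [if_pos, Nat.sub_zero]
      split_ifs <;> simp
    · intro i _ hi
      rw [if_neg hi, zero_mul]
    · simp
  have e2 : ∑ i ∈ Finset.range (n + 1), (if i = 0 then a else 0) * g (n - i + 1) = a * g (n + 1) := by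
    rw [Finset.sum_eq_single 0]
    · simp
    · intro i _ hi
      rw [if_neg hi, zero_mul]
    · simp
  have e3 : ∑ i ∈ Finset.range (n + 1), h (i + 1) * (if n - i = 0 then b else 0) = h (n + 1) * b := by
    rw [Finset.sum_eq_single n]
    · simp
    · intro i hi hne
      rw [if_neg (by rw [Finset.mem_range] at hi; omega), mul_zero]
    · simp
  have e4 : ∑ i ∈ Finset.range (n + 1), h (i + 1) * g (n - i + 1) =
      ∑ i ∈ Finset.range (n + 1), h (i + 1) * g (n + 2 - (i + 1)) := by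
    refine Finset.sum_congr rfl fun i hi => ?_
    rw [Finset.mem_range] at hi
    rw [show n - i + 1 = n + 2 - (i + 1) by omega]
  rw [e1, e2, e3, e4]
  omega

variable {mR : HomogeneousIdeal 𝒜} {mS : HomogeneousIdeal ℬ} {mT : HomogeneousIdeal 𝒯}
  {P : Type u} [AddCommGroup P] [Module T P] [Module k P] [IsScalarTower k T P]
  {τQ : Type u} [SetLike τQ P] [AddSubgroupClass τQ P]
  {𝒬 : ℤ → τQ} [Decomposition 𝒬] [SetLike.GradedSMul 𝒯 𝒬] {φ : P →ₗ[k] M ⊗[k] N}

/-- The dimension formula in all degrees. -/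
theorem finrank_Hcomp_segre_formula (H : Setting k R S T 𝒜 ℬ 𝒯 ψ mR mS mT)
    (EM : GrLC.StarInjRes 𝒜 ℳ) (EN : GrLC.StarInjRes ℬ 𝒩)
    (hP : GrSeg.IsSegreMod ψ ℳ 𝒩 𝒬 φ) [Nontrivial R] [Nontrivial S] [Module.Finite R M] [Module.Finite S N]
    (hposR : ∀ n : ℤ, n < 0 → 𝒜 n = ⊥) (h0R : 𝒜 0 = Submodule.span k {(1 : R)})
    (hposS : ∀ n : ℤ, n < 0 → ℬ n = ⊥) (h0S : ℬ 0 = Submodule.span k {(1 : S)})
    (F : GrLC.StarInjRes 𝒯 𝒬) (d : ℤ) (hM : EM.Hcomp mR 0 d = ⊥) (hN : EN.Hcomp mS 0 d = ⊥) :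
    Module.finrank (GrLC.deg0 𝒯) (F.Hcomp mT 0 d) = 0 ∧
    ∀ n : ℕ, Module.finrank (GrLC.deg0 𝒯) (F.Hcomp mT (n + 1) d) =
      Module.finrank (GrLC.deg0 𝒜) (GrLC.comp 𝒜 ℳ d) * Module.finrank (GrLC.deg0 ℬ) (EN.Hcomp mS (n + 1) d) +
      Module.finrank (GrLC.deg0 𝒜) (EM.Hcomp mR (n + 1) d) * Module.finrank (GrLC.deg0 ℬ) (GrLC.comp ℬ 𝒩 d) +
      ∑ i ∈ Finset.range (n + 3), Module.finrank (GrLC.deg0 𝒜) (EM.Hcomp mR i d) *
        Module.finrank (GrLC.deg0 ℬ) (EN.Hcomp mS (n + 2 - i) d) := by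
  obtain ⟨h1, h2⟩ := finrank_Hcomp_segre H EM EN hP hposR h0R hposS h0S F d hM hN
  refine ⟨h1, fun n => ?_⟩
  have h := h2 n
  simp only [dimD] at h
  rw [sum_antidiag_identity (Module.finrank k (piece 𝒜 ℳ d)) (Module.finrank k (piece ℬ 𝒩 d))
    (fun i => Module.finrank (GrLC.deg0 𝒜) (EM.Hcomp mR i d))
    (fun i => Module.finrank (GrLC.deg0 ℬ) (EN.Hcomp mS i d))
    (by rw [hM, finrank_bot]) (by rw [hN, finrank_bot]) n] at h
  rw [finrank_comp_eq h0R, finrank_comp_eq h0S]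
  split_ifs at h <;> omega

end Groth.Agent.GrKunnethLib
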