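import Mathlib
import Groth.Agent.GrCoreLib.Height
import Groth.Agent.GrCoreLib.Depth
import Groth.Agent.GrKunnethLib.Segre
import Groth.Agent.GrInjLib.QuasiRegular
import Groth.Agent.LocCohLib.Depth
import Groth.Agent.LocCohLib.Vanishing
import Groth.Agent.QGorLib.Depth
import Groth.Agent.GrSegreLib.Torsion
import Groth.Agent.S11650
import Groth.Agent.S13234

/-!
# The Cohen–Macaulay property of graded modules via the pieces of local cohomology
-/

set_option autoImplicit false
set_option linter.style.haveILetI false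
set_option linter.unusedSectionVars false
universe u

namespace Groth.Agent.GrKunnethLib

open DirectSum GrInjLib Groth.Agent.GrCoreLib

section General

variable {A : Type u} [CommRing A] [IsNoetherianRing A]
  {M : Type u} [AddCommGroup M] [Module A M] [Module.Finite A M]

/-- The depth of the localization at a maximal ideal. -/
theorem depth_localization_maximal (m : Ideal A) [m.IsMaximal] :
    LocCoh.depth (Localization.AtPrime m) (LocalizedModule m.primeCompl M) = LocCoh.idealDepth m M := by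
  refine le_antisymm (ENat.forall_natCast_le_iff_le.mp fun n hn => ?_)
    (ENat.forall_natCast_le_iff_le.mp fun n hn => ?_)
  · refine (QGorLib.le_idealDepth_iff_forall n).2 fun p hp => ?_
    obtain ⟨p, hpp⟩ := p
    obtain rfl : m = p := (Ideal.IsMaximal.eq_of_le inferInstance hpp.ne_top hp)
    exact hn
  · exact (QGorLib.le_idealDepth_iff_forall n).1 hn ⟨m, inferInstance⟩ le_rfl

/-- A lower bound for the depth is the vanishing of local cohomology below it. -/
theorem natCast_le_idealDepth_iff_H {I : Ideal A} (hI : I • (⊤ : Submodule A M) ≠ ⊤) (n : ℕ) :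
    (n : ℕ∞) ≤ LocCoh.idealDepth I M ↔ ∀ i < n, Subsingleton (LocCoh.H I i M) := by
  obtain ⟨rs, hrs⟩ := Depth.exists_isMaxSeq (M := M) hI
  rw [Depth.idealDepth_eq_length hI hrs, Nat.cast_le]
  refine ⟨fun h i hi => LocCohLib.subsingleton_of_isWeaklyRegular I (ModuleCat.of A M) rs hrs.1 hrs.2.1 i
    (by omega), fun h => ?_⟩
  by_contra hlt
  exact not_subsingleton_iff_nontrivial.2 (LocCohLib.nontrivial_of_isMaxSeq I M hrs).1 (h _ (by omega))

/-- A module which is nonzero at a maximal ideal is not killed by it. -/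
theorem smul_top_ne_top_of_nontrivial {m : Ideal A} [m.IsMaximal]
    [Nontrivial (LocalizedModule m.primeCompl M)] : m • (⊤ : Submodule A M) ≠ ⊤ := by
  intro h
  obtain ⟨r, hr1, hr⟩ := Submodule.exists_sub_one_mem_and_smul_eq_zero_of_fg_of_le_smul m ⊤
    Module.Finite.fg_top h.ge
  suffices hs : Subsingleton (LocalizedModule m.primeCompl M) from
    not_subsingleton (LocalizedModule m.primeCompl M) hs
  refine LocalizedModule.subsingleton_iff.2 fun x => ⟨r, fun hrm => ?_, hr x trivial⟩
  exact (Ideal.IsMaximal.ne_top inferInstance) ((Ideal.eq_top_iff_one m).2 (by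
    have := Ideal.sub_mem m hrm hr1
    rwa [sub_sub_cancel] at this))

theorem mem_support_iff_nontrivial (p : Ideal A) [p.IsPrime] :
    Nontrivial (LocalizedModule p.primeCompl M) ↔ Module.annihilator A M ≤ p := by
  rw [← Module.mem_support_iff_of_finite (p := ⟨p, inferInstance⟩), Module.mem_support_iff]

/-- Cohen–Macaulay modules stay Cohen–Macaulay under further localization. -/
theorem cm_of_le (q m : Ideal A) [q.IsPrime] [m.IsPrime] (hqm : q ≤ m)
    (hm : LocCoh.IsCohenMacaulayModule (Localization.AtPrime m) (LocalizedModule m.primeCompl M))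
    [Nontrivial (LocalizedModule q.primeCompl M)] :
    LocCoh.IsCohenMacaulayModule (Localization.AtPrime q) (LocalizedModule q.primeCompl M) := by
  have hq : Module.annihilator A M ≤ q := (mem_support_iff_nontrivial q).1 inferInstance
  refine le_antisymm ?_ (QGorLib.depth_le_supportDim _)
  let Q : PrimeSpectrum A := ⟨q, inferInstance⟩
  let P : PrimeSpectrum A := ⟨m, inferInstance⟩
  have hQP : Q ≤ P := hqm
  have h1 : Module.supportDim (Localization.AtPrime q) (LocalizedModule q.primeCompl M) =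
      (relHeight (Module.annihilator A M) Q hq : WithBot ℕ∞) := supportDim_localized_eq M Q hq
  have h2 : Module.supportDim (Localization.AtPrime m) (LocalizedModule m.primeCompl M) =
      (relHeight (Module.annihilator A M) P (hq.trans hqm) : WithBot ℕ∞) :=
    supportDim_localized_eq M P (hq.trans hqm)
  have h3 := relHeight_add_le (Module.annihilator A M) (q := Q) (P := P) hq hQP
  rw [relHeight_eq_height_quot q P hQP] at h3
  unfold LocCoh.IsCohenMacaulayModule at hm
  rw [h2, WithBot.coe_inj] at hm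
  rw [hm] at h3
  rw [h1, WithBot.coe_le_coe]
  have hfin : (m.map (Ideal.Quotient.mk q)).height ≠ ⊤ :=
    (relHeight_eq_height_quot q P hQP) ▸ relHeight_ne_top q P hQP
  exact (ENat.add_le_add_iff_right hfin).1
    (h3.trans (Groth.Agent.S11650.result A M q m hqm))

end General

section Graded

variable {k T : Type u} [Field k] [CommRing T] [Algebra k T] {𝒯 : ℤ → Submodule k T} [GradedAlgebra 𝒯]
  (hpos : ∀ n : ℤ, n < 0 → 𝒯 n = ⊥) (h0 : 𝒯 0 = Submodule.span k {(1 : T)}) [Algebra.FiniteType k T]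
  {P : Type u} [AddCommGroup P] [Module T P] [Module.Finite T P]
  {τ : Type u} [SetLike τ P] [AddSubgroupClass τ P] {𝒬 : ℤ → τ} [Decomposition 𝒬]
  [SetLike.GradedSMul 𝒯 𝒬]

variable (𝒬) in
include 𝒯 𝒬 in
theorem annihilator_homogeneous : (Module.annihilator T P).IsHomogeneous 𝒯 := by
  classical
  intro i a ha
  rw [Module.mem_annihilator] at ha ⊢
  intro x
  letI := (addPieces_isInternal 𝒬).chooseDecomposition
  rw [← DirectSum.sum_support_decompose (addPieces 𝒬) x, Finset.smul_sum]
  refine Finset.sum_eq_zero fun g _ => ?_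
  have h := GrInjLib.proj_smul_hom 𝒯 (addPieces 𝒬) (decompose (addPieces 𝒬) x g).2 a i
  rw [ha] at h
  simpa using h.symm

include hpos h0 𝒬 in
theorem nontrivial_localized_irr [Nontrivial P] :
    Module.annihilator T P ≤ GrSegreLib.irr 𝒯 := by
  refine GrSegreLib.le_irr 𝒯 hpos h0 (annihilator_homogeneous 𝒬) fun h => ?_
  exact not_subsingleton P (Module.annihilator_eq_top_iff.1 h)

include hpos h0 𝒬 in
/-- Cohen–Macaulayness at the irrelevant ideal gives it everywhere. -/
theorem cm_of_irr [(GrSegreLib.irr 𝒯).IsPrime]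
    (hm : LocCoh.IsCohenMacaulayModule (Localization.AtPrime (GrSegreLib.irr 𝒯))
      (LocalizedModule (GrSegreLib.irr 𝒯).primeCompl P))
    (p : Ideal T) [p.IsPrime] : Subsingleton (LocalizedModule p.primeCompl P) ∨
      LocCoh.IsCohenMacaulayModule (Localization.AtPrime p) (LocalizedModule p.primeCompl P) := by
  classical
  haveI : IsNoetherianRing T := Algebra.FiniteType.isNoetherianRing k T
  rcases subsingleton_or_nontrivial (LocalizedModule p.primeCompl P) with hp | hp
  · exact Or.inl hp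
  right
  let 𝒯' : ℤ → AddSubgroup T := fun n => (𝒯 n).toAddSubgroup
  letI : GradedRing 𝒯' :=
    { one_mem := SetLike.GradedOne.one_mem (A := 𝒯)
      mul_mem := fun _ _ _ _ h h' => SetLike.GradedMul.mul_mem (A := 𝒯) h h'
      decompose' := DirectSum.Decomposition.decompose' (ℳ := 𝒯)
      left_inv := DirectSum.Decomposition.left_inv (ℳ := 𝒯)
      right_inv := DirectSum.Decomposition.right_inv (ℳ := 𝒯) }
  let 𝒬' : ℤ → AddSubgroup P := addPieces 𝒬
  letI : Decomposition 𝒬' := (addPieces_isInternal 𝒬).chooseDecomposition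
  haveI : SetLike.GradedSMul 𝒯' 𝒬' :=
    ⟨fun {a b r x} hr hx => SetLike.GradedSMul.smul_mem (A := 𝒯) (B := 𝒬) hr hx⟩
  let p₀ : PrimeSpectrum T := ⟨p, inferInstance⟩
  have hann : Module.annihilator T P ≤ p := (mem_support_iff_nontrivial p).1 hp
  have hAh : (Module.annihilator T P).IsHomogeneous 𝒯' := fun i a ha => annihilator_homogeneous 𝒬 i ha
  let q₀ := corePt 𝒯' p₀
  have hq : Module.annihilator T P ≤ q₀.asIdeal := le_corePt 𝒯' hAh (P := p₀) hann
  haveI hqp : (Ideal.homogeneousCore 𝒯' p).toIdeal.IsPrime := q₀.isPrime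
  have hqm : (Ideal.homogeneousCore 𝒯' p).toIdeal ≤ GrSegreLib.irr 𝒯 :=
    GrSegreLib.le_irr 𝒯 hpos h0 (fun i a ha => core_homogeneous 𝒯' p i ha) hqp.ne_top
  haveI : Nontrivial (LocalizedModule (Ideal.homogeneousCore 𝒯' p).toIdeal.primeCompl P) :=
    (mem_support_iff_nontrivial _).2 hq
  have hqcm := cm_of_le (M := P) (Ideal.homogeneousCore 𝒯' p).toIdeal (GrSegreLib.irr 𝒯) hqm hm
  unfold LocCoh.IsCohenMacaulayModule at hqcm ⊢
  have h1 : Module.supportDim (Localization.AtPrime p) (LocalizedModule p.primeCompl P) =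
      (relHeight (Module.annihilator T P) p₀ hann : WithBot ℕ∞) := supportDim_localized_eq P p₀ hann
  have h2 : Module.supportDim (Localization.AtPrime (Ideal.homogeneousCore 𝒯' p).toIdeal)
      (LocalizedModule (Ideal.homogeneousCore 𝒯' p).toIdeal.primeCompl P) =
      (relHeight (Module.annihilator T P) q₀ hq : WithBot ℕ∞) := supportDim_localized_eq P q₀ hq
  rw [h2, WithBot.coe_inj] at hqcm
  obtain ⟨d, hd⟩ := ENat.ne_top_iff_exists.1 (relHeight_ne_top q₀.asIdeal p₀ (corePt_le 𝒯' p₀))
  have hd' : (p.map (Ideal.Quotient.mk (Ideal.homogeneousCore 𝒯' p).toIdeal)).height = d :=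
    ((relHeight_eq_height_quot _ p₀ (corePt_le 𝒯' p₀)).symm.trans hd.symm)
  rw [h1, WithBot.coe_inj, relHeight_eq_core_add (𝒜 := 𝒯') _ hAh p₀ q₀ hann rfl hq (corePt_le 𝒯' p₀),
    Groth.Agent.S13234.result T 𝒯' P 𝒬' p d hd', hqcm, hd]

include hpos h0 𝒬 in
/-- The dimension of a graded module is that of its localization at the irrelevant ideal. -/
theorem supportDim_irr [(GrSegreLib.irr 𝒯).IsPrime] [Nontrivial P] :
    Module.supportDim (Localization.AtPrime (GrSegreLib.irr 𝒯))
      (LocalizedModule (GrSegreLib.irr 𝒯).primeCompl P) = Module.supportDim T P := by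
  classical
  haveI : IsNoetherianRing T := Algebra.FiniteType.isNoetherianRing k T
  haveI : Nontrivial T := (Module.nontrivial T P)
  have hm := nontrivial_localized_irr hpos h0 (P := P) (𝒬 := 𝒬)
  let m₀ : PrimeSpectrum T := ⟨GrSegreLib.irr 𝒯, inferInstance⟩
  rw [supportDim_localized_eq P m₀ hm, Module.supportDim_eq_ringKrullDim_quotient_annihilator]
  set I := Module.annihilator T P
  refine le_antisymm ?_ ?_
  · rw [relHeight_eq_height_quot]
    haveI : (m₀.asIdeal.map (Ideal.Quotient.mk I)).IsPrime :=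
      Ideal.map_isPrime_of_surjective Ideal.Quotient.mk_surjective (by rw [Ideal.mk_ker]; exact hm)
    exact Ideal.height_le_ringKrullDim_of_isPrime
  · rw [ringKrullDim_quotient, Order.krullDim]
    refine iSup_le fun c => ?_
    have hc : I ≤ c.head.1.asIdeal := c.head.2
    obtain ⟨p, hp, hpc⟩ := Ideal.exists_minimalPrimes_le hc
    haveI := hp.1.1
    obtain ⟨c', hc1, hc2, hlen⟩ := GrSegreLib.exists_chain_to_irr 𝒯 hpos h0 p
      (GrSegreLib.minimalPrimes_homogeneous 𝒯 (annihilator_homogeneous 𝒬) hp)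
    have h1 : (c.length : WithBot ℕ∞) ≤ ringKrullDim (T ⧸ p) := by
      rw [ringKrullDim_quotient]
      let c₀ : LTSeries (PrimeSpectrum.zeroLocus (p : Set T)) :=
        { length := c.length
          toFun := fun i => ⟨(c i).1, hpc.trans (show c.head.1.asIdeal ≤ (c i).1.asIdeal from c.head_le i)⟩
          step := fun i => c.step i }
      exact Order.LTSeries.length_le_krullDim c₀
    refine le_trans (h1.trans hlen) (WithBot.coe_le_coe.2 ?_)
    have hI : ∀ i, I ≤ (c' i).asIdeal := fun i =>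
      hp.1.2.trans (hc1 ▸ show c'.head.asIdeal ≤ (c' i).asIdeal from c'.head_le i)
    let c₁ : LTSeries {Q : PrimeSpectrum T // I ≤ Q.asIdeal} :=
      { length := c'.length
        toFun := fun i => ⟨c' i, hI i⟩
        step := fun i => c'.step i }
    exact Order.length_le_height (p := c₁)
      (show c'.last ≤ m₀ from (PrimeSpectrum.ext hc2).le)

variable (E : GrLC.StarInjRes 𝒯 𝒬) {mT : HomogeneousIdeal 𝒯}
  (hmT : mT.toIdeal = Ideal.span (⋃ n ∈ Set.Ioi (0 : ℤ), (𝒯 n : Set T)))

theorem subsingleton_H_iff [IsNoetherianRing T] (a : HomogeneousIdeal 𝒯) (i : ℕ) :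
    Subsingleton (E.H a i) ↔ ∀ g, E.Hcomp a i g = ⊥ := by
  classical
  refine ⟨fun h g => (Submodule.eq_bot_iff _).2 fun x _ => Subsingleton.elim _ _, fun h => ⟨fun x y => ?_⟩⟩
  suffices hz : ∀ z : E.H a i, z = 0 by rw [hz x, hz y]
  intro z
  letI := (addPieces_isInternal 𝒬).chooseDecomposition
  letI : Decomposition (E.Hgr a i) := (H_isInternal (addRes 𝒬 E) a i).chooseDecomposition
  rw [← sum_support_decompose (E.Hgr a i) z]
  refine Finset.sum_eq_zero fun g _ => ?_
  have hmem : (decompose (E.Hgr a i) z g : E.H a i) ∈ E.Hcomp a i g := (decompose (E.Hgr a i) z g).2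
  rwa [h g, Submodule.mem_bot] at hmem

theorem subsingleton_locCoh_iff [IsNoetherianRing T] (a : HomogeneousIdeal 𝒯) (i : ℕ) :
    Subsingleton (LocCoh.H a.toIdeal i P) ↔ ∀ g, E.Hcomp a i g = ⊥ := by
  letI := (addPieces_isInternal 𝒬).chooseDecomposition
  obtain ⟨e⟩ := exists_H_equiv_locCoh (addRes 𝒬 E) a i
  exact e.toEquiv.subsingleton_congr.symm.trans (subsingleton_H_iff E a i)

theorem Hcomp_eq_bot_of_supportDim_lt [IsNoetherianRing T] (a : HomogeneousIdeal 𝒯) {i : ℕ}
    (hi : Module.supportDim T P < (i : WithBot ℕ∞)) (g : ℤ) : E.Hcomp a i g = ⊥ :=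
  (subsingleton_locCoh_iff E a i).1 (LocCohLib.subsingleton_of_supportDim_lt a.toIdeal P i hi) g

include hpos h0 hmT 𝒬 in
theorem irr_smul_top_ne [Nontrivial P] : mT.toIdeal • (⊤ : Submodule T P) ≠ ⊤ := by
  haveI : IsNoetherianRing T := Algebra.FiniteType.isNoetherianRing k T
  haveI : Nontrivial T := Module.nontrivial T P
  haveI := GrSegreLib.irr_isMaximal 𝒯 hpos h0
  haveI : Nontrivial (LocalizedModule (GrSegreLib.irr 𝒯).primeCompl P) :=
    (mem_support_iff_nontrivial _).2 (nontrivial_localized_irr hpos h0 (𝒬 := 𝒬))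
  rw [hmT]
  exact smul_top_ne_top_of_nontrivial (m := GrSegreLib.irr 𝒯)

include hpos h0 hmT in
/-- The depth along the irrelevant ideal is the first degree with nonzero cohomology. -/
theorem idealDepth_eq [Nontrivial P] (n : ℕ) (h1 : ∀ i < n, ∀ g, E.Hcomp mT i g = ⊥)
    (g : ℤ) (h2 : E.Hcomp mT n g ≠ ⊥) : LocCoh.idealDepth mT.toIdeal P = (n : ℕ∞) := by
  haveI : IsNoetherianRing T := Algebra.FiniteType.isNoetherianRing k T
  have hI := irr_smul_top_ne hpos h0 hmT (P := P) (𝒬 := 𝒬)
  refine le_antisymm (not_lt.1 fun h => h2 ?_) ((natCast_le_idealDepth_iff_H hI n).2 fun i hi =>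
    (subsingleton_locCoh_iff E mT i).2 (h1 i hi))
  exact (subsingleton_locCoh_iff E mT n).1
    ((natCast_le_idealDepth_iff_H hI (n + 1)).1 (by exact_mod_cast Order.add_one_le_of_lt h) n
      (Nat.lt_succ_self n)) g

include hpos h0 hmT in
/-- A graded module is Cohen–Macaulay when its local cohomology vanishes below its dimension. -/
theorem cm_iff_Hcomp [Nontrivial P] {d : ℕ} (hd : Module.supportDim T P = d) :
    (∀ (q : Ideal T) [q.IsPrime], Subsingleton (LocalizedModule q.primeCompl P) ∨
      LocCoh.IsCohenMacaulayModule (Localization.AtPrime q) (LocalizedModule q.primeCompl P)) ↔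
    ∀ i < d, ∀ g, E.Hcomp mT i g = ⊥ := by
  haveI : IsNoetherianRing T := Algebra.FiniteType.isNoetherianRing k T
  haveI : Nontrivial T := Module.nontrivial T P
  haveI := GrSegreLib.irr_isMaximal 𝒯 hpos h0
  haveI hnt : Nontrivial (LocalizedModule (GrSegreLib.irr 𝒯).primeCompl P) :=
    (mem_support_iff_nontrivial _).2 (nontrivial_localized_irr hpos h0 (𝒬 := 𝒬))
  have hdim := (supportDim_irr hpos h0 (P := P) (𝒬 := 𝒬)).trans hd
  have hdep := depth_localization_maximal (M := P) (GrSegreLib.irr 𝒯)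
  have key : LocCoh.IsCohenMacaulayModule (Localization.AtPrime (GrSegreLib.irr 𝒯))
      (LocalizedModule (GrSegreLib.irr 𝒯).primeCompl P) ↔ ∀ i < d, ∀ g, E.Hcomp mT i g = ⊥ := by
    have hle := QGorLib.depth_le_supportDim (R := Localization.AtPrime (GrSegreLib.irr 𝒯))
      (LocalizedModule (GrSegreLib.irr 𝒯).primeCompl P)
    rw [hdim, hdep] at hle
    have hle' : LocCoh.idealDepth (GrSegreLib.irr 𝒯) P ≤ (d : ℕ∞) := WithBot.coe_le_coe.1 hle
    have hI := irr_smul_top_ne hpos h0 hmT (P := P) (𝒬 := 𝒬)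
    rw [show mT.toIdeal = GrSegreLib.irr 𝒯 from hmT] at hI
    unfold LocCoh.IsCohenMacaulayModule
    rw [hdim, hdep, show (d : WithBot ℕ∞) = ((d : ℕ∞) : WithBot ℕ∞) from rfl, WithBot.coe_inj,
      ← show (d : ℕ∞) ≤ LocCoh.idealDepth (GrSegreLib.irr 𝒯) P ↔
          (d : ℕ∞) = LocCoh.idealDepth (GrSegreLib.irr 𝒯) P from
        ⟨fun h => le_antisymm h hle', fun h => h.le⟩,
      natCast_le_idealDepth_iff_H hI d]
    refine forall₂_congr fun i _ => ?_
    rw [← show mT.toIdeal = GrSegreLib.irr 𝒯 from hmT]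
    exact subsingleton_locCoh_iff E mT i
  exact ⟨fun h => key.1 ((h _).resolve_left (not_subsingleton _)),
    fun h p _ => cm_of_irr hpos h0 (𝒬 := 𝒬) (key.2 h) p⟩

end Graded

end Groth.Agent.GrKunnethLib
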