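import Mathlib
import Groth.Agent.GrKunnethLib.CM
import Groth.Agent.GrSegreLib.Finite
import Groth.Agent.GrInjLib.Resolution

/-!
# Cohen–Macaulayness of Segre products
-/

set_option autoImplicit false
set_option linter.style.haveILetI false
set_option linter.unusedSectionVars false
set_option maxHeartbeats 1000000
universe u

open scoped TensorProduct

namespace Groth.Agent.GrKunnethLib

open DirectSum GrInjLib

section OneFactor

variable {k R : Type u} [Field k] [CommRing R] [Algebra k R] {𝒜 : ℤ → Submodule k R} [GradedAlgebra 𝒜]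
  [Nontrivial R] (hpos : ∀ n : ℤ, n < 0 → 𝒜 n = ⊥) (h0 : 𝒜 0 = Submodule.span k {(1 : R)})
  {M : Type u} [AddCommGroup M] [Module R M]
  {τ : Type u} [SetLike τ M] [AddSubgroupClass τ M] {ℳ : ℤ → τ} [Decomposition ℳ] [SetLike.GradedSMul 𝒜 ℳ]
  [IsNoetherianRing R] [Module.Finite R M] (E : GrLC.StarInjRes 𝒜 ℳ) {a : HomogeneousIdeal 𝒜}
  (ha : a.toIdeal = Ideal.span (⋃ n ∈ Set.Ioi (0 : ℤ), (𝒜 n : Set R)))

include h0 in
theorem deg0_isField : IsField (GrLC.deg0 𝒜) := by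
  obtain ⟨i, -⟩ := exists_deg0_equiv h0
  exact i.symm.toMulEquiv.isField (Field.toIsField k)

include hpos h0 ha in
theorem finrank_Hcomp_eq_zero_iff (i : ℕ) (d : ℤ) :
    Module.finrank (GrLC.deg0 𝒜) (E.Hcomp a i d) = 0 ↔ E.Hcomp a i d = ⊥ := by
  letI := (deg0_isField h0).toField
  letI := (addPieces_isInternal ℳ).chooseDecomposition
  haveI : Module.Finite R (addG 𝒜 ℳ).carrier := ‹Module.Finite R M›
  haveI : IsNoetherian (GrLC.deg0 𝒜) (E.Hcomp a i d) :=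
    (pieces_finite_vanish (ℬ := 𝒜) (fun m hm x hx => by rw [hpos m hm] at hx; exact (Submodule.mem_bot k).1 hx)
      a ha i (addG 𝒜 ℳ) (addRes ℳ E)).1 d
  exact Submodule.finrank_eq_zero

variable (ℳ) in
include h0 in
theorem finrank_comp_eq_zero_iff (d : ℤ) :
    Module.finrank (GrLC.deg0 𝒜) (GrLC.comp 𝒜 ℳ d) = 0 ↔ ∀ x ∈ ℳ d, x = 0 := by
  letI := (deg0_isField h0).toField
  letI := (addPieces_isInternal ℳ).chooseDecomposition
  haveI : IsNoetherian (GrLC.deg0 𝒜) (GrLC.comp 𝒜 ℳ d) := isNoetherian_comp 𝒜 (addPieces ℳ) d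
  rw [Submodule.finrank_eq_zero, Submodule.eq_bot_iff]
  exact Iff.rfl

end OneFactor

section Segre

variable {k R S T : Type u} [Field k] [CommRing R] [CommRing S] [CommRing T] [Algebra k R]
  [Algebra k S] [Algebra k T] [Algebra.FiniteType k R] [Algebra.FiniteType k S]
  {𝒜 : ℤ → Submodule k R} [GradedAlgebra 𝒜] {ℬ : ℤ → Submodule k S} [GradedAlgebra ℬ]
  {𝒯 : ℤ → Submodule k T} [GradedAlgebra 𝒯] {ψ : T →ₐ[k] R ⊗[k] S}
  (hposR : ∀ n : ℤ, n < 0 → 𝒜 n = ⊥) (h0R : 𝒜 0 = Submodule.span k {(1 : R)})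
  (hposS : ∀ n : ℤ, n < 0 → ℬ n = ⊥) (h0S : ℬ 0 = Submodule.span k {(1 : S)})
  (hψ : Function.Injective ψ) (hdegT : ∀ n : ℤ, (𝒯 n).map ψ.toLinearMap = GrSeg.segrePiece k 𝒜 ℬ n)

include hposR hposS hdegT hψ in
theorem pos_segre (n : ℤ) (hn : n < 0) : 𝒯 n = ⊥ := by
  have h := hdegT n
  rw [show GrSeg.segrePiece k 𝒜 ℬ n = ⊥ from Submodule.span_eq_bot.2 (by
    rintro x ⟨a, ha, b, hb, rfl⟩
    rw [hposR n hn, Submodule.mem_bot] at ha
    rw [ha, TensorProduct.zero_tmul])] at h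
  exact Submodule.map_injective_of_injective (f := ψ.toLinearMap) hψ (h.trans (Submodule.map_bot _).symm)

variable {M : Type u} [AddCommGroup M] [Module R M] [Module k M] [IsScalarTower k R M]
  {τM : Type u} [SetLike τM M] [AddSubgroupClass τM M]
  {ℳ : ℤ → τM} [Decomposition ℳ] [SetLike.GradedSMul 𝒜 ℳ] [Module.Finite R M]
  {N : Type u} [AddCommGroup N] [Module S N] [Module k N] [IsScalarTower k S N]
  {τN : Type u} [SetLike τN N] [AddSubgroupClass τN N]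
  {𝒩 : ℤ → τN} [Decomposition 𝒩] [SetLike.GradedSMul ℬ 𝒩] [Module.Finite S N]
  {P : Type u} [AddCommGroup P] [Module T P] [Module k P] [IsScalarTower k T P]
  {τQ : Type u} [SetLike τQ P] [AddSubgroupClass τQ P]
  {𝒬 : ℤ → τQ} [Decomposition 𝒬] {φ : P →ₗ[k] M ⊗[k] N}
  (hP : GrSeg.IsSegreMod ψ ℳ 𝒩 𝒬 φ)

include hP in
theorem isSegreMod_addPieces [Decomposition (addPieces 𝒬)] : GrSeg.IsSegreMod ψ (addPieces ℳ) (addPieces 𝒩) (addPieces 𝒬) φ where
  injective := hP.injective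
  image_piece n := hP.image_piece n
  map_smul := hP.map_smul

include hposR h0R hposS h0S hdegT hP in
theorem moduleFinite_segre' : Module.Finite T P := by
  letI := (addPieces_isInternal ℳ).chooseDecomposition
  letI := (addPieces_isInternal 𝒩).chooseDecomposition
  letI := (addPieces_isInternal 𝒬).chooseDecomposition
  exact GrSegreLib.moduleFinite_segre 𝒜 ℬ 𝒯 ψ (addPieces ℳ) (addPieces 𝒩) (addPieces 𝒬) φ hposR h0R
    hposS h0S hdegT (isSegreMod_addPieces hP)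

include hposR h0R hposS h0S hψ hdegT hP in
theorem supportDim_segre' [Nontrivial P] {r s : ℕ} (h1r : 1 ≤ r) (h1s : 1 ≤ s)
    (hdM : Module.supportDim R M = r) (hdN : Module.supportDim S N = s)
    (hMcm : ∀ (q : Ideal R) [q.IsPrime], Subsingleton (LocalizedModule q.primeCompl M) ∨
      LocCoh.IsCohenMacaulayModule (Localization.AtPrime q) (LocalizedModule q.primeCompl M))
    (hNcm : ∀ (q : Ideal S) [q.IsPrime], Subsingleton (LocalizedModule q.primeCompl N) ∨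
      LocCoh.IsCohenMacaulayModule (Localization.AtPrime q) (LocalizedModule q.primeCompl N)) :
    Module.supportDim T P = ((r + s - 1 : ℕ) : WithBot ℕ∞) := by
  letI := (addPieces_isInternal ℳ).chooseDecomposition
  letI := (addPieces_isInternal 𝒩).chooseDecomposition
  letI := (addPieces_isInternal 𝒬).chooseDecomposition
  exact (GrSegreLib.supportDim_segre_cm 𝒜 (addPieces ℳ) ℬ 𝒯 ψ (addPieces 𝒩) (addPieces 𝒬) φ hposR h0R hposS
    h0S ⟨hψ, hdegT⟩ (isSegreMod_addPieces hP) h1r h1s hdM hdN hMcm hNcm).resolve_right (not_subsingleton P)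

/-- The local cohomology below the top degree, when the factors have cohomology in one degree only. -/
theorem low_Hcomp {mR : HomogeneousIdeal 𝒜} {mS : HomogeneousIdeal ℬ} {mT : HomogeneousIdeal 𝒯}
    [Nontrivial R] [Nontrivial S] (H : Setting k R S T 𝒜 ℬ 𝒯 ψ mR mS mT) [SetLike.GradedSMul 𝒯 𝒬]
    (hposR : ∀ n : ℤ, n < 0 → 𝒜 n = ⊥) (h0R : 𝒜 0 = Submodule.span k {(1 : R)})
    (hposS : ∀ n : ℤ, n < 0 → ℬ n = ⊥) (h0S : ℬ 0 = Submodule.span k {(1 : S)})
    (hP : GrSeg.IsSegreMod ψ ℳ 𝒩 𝒬 φ) (EM : GrLC.StarInjRes 𝒜 ℳ) (EN : GrLC.StarInjRes ℬ 𝒩)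
    (F : GrLC.StarInjRes 𝒯 𝒬) {r s : ℕ} (h1r : 1 ≤ r) (h1s : 1 ≤ s)
    (hMv : ∀ i, i ≠ r → ∀ d, EM.Hcomp mR i d = ⊥) (hNv : ∀ i, i ≠ s → ∀ d, EN.Hcomp mS i d = ⊥)
    (q : ℕ) (d : ℤ) (hq : q + 1 < r + s) :
    F.Hcomp mT q d = ⊥ ↔
      (q = s → (∀ x ∈ ℳ d, x = 0) ∨ EN.Hcomp mS s d = ⊥) ∧
        (q = r → EM.Hcomp mR r d = ⊥ ∨ ∀ y ∈ 𝒩 d, y = 0) := by
  haveI := H.noethR
  haveI := H.noethS
  haveI := H.noethT
  obtain ⟨hTnt, h0T⟩ := deg0_segre H h0R h0S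
  haveI := hTnt
  have hposT := pos_segre hposR hposS H.inj H.deg
  haveI : Module.Finite T P := moduleFinite_segre' hposR h0R hposS h0S H.deg hP
  obtain ⟨h1, h2⟩ := finrank_Hcomp_segre_formula H EM EN hP hposR h0R hposS h0S F d
    (hMv 0 (by omega) d) (hNv 0 (by omega) d)
  rw [← finrank_Hcomp_eq_zero_iff hposT h0T F H.hmT q d]
  cases q with
  | zero => exact ⟨fun _ => ⟨fun h => by omega, fun h => by omega⟩, fun _ => h1⟩
  | succ n =>
    rw [h2 n, Finset.sum_eq_zero (fun i _ => by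
      rcases eq_or_ne i r with rfl | hi
      · rw [hNv (n + 2 - i) (by omega) d, finrank_bot, mul_zero]
      · rw [hMv i hi d, finrank_bot, zero_mul]), add_zero, Nat.add_eq_zero_iff, mul_eq_zero, mul_eq_zero,
      finrank_comp_eq_zero_iff h0R ℳ, finrank_comp_eq_zero_iff h0S 𝒩,
      finrank_Hcomp_eq_zero_iff hposS h0S EN H.hmS, finrank_Hcomp_eq_zero_iff hposR h0R EM H.hmR]
    refine and_congr ?_ ?_
    · by_cases hs : n + 1 = s
      · subst hs; simp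
      · simp [hs, hNv (n + 1) hs d]
    · by_cases hr : n + 1 = r
      · subst hr; simp
      · simp [hr, hMv (n + 1) hr d]

include hposR h0R in
theorem Hcomp_eq_bot_of_cm [Nontrivial M] (EM : GrLC.StarInjRes 𝒜 ℳ) {mR : HomogeneousIdeal 𝒜}
    (hmR : mR.toIdeal = Ideal.span (⋃ n ∈ Set.Ioi (0 : ℤ), (𝒜 n : Set R))) {r : ℕ}
    (hdM : Module.supportDim R M = r)
    (hMcm : ∀ (q : Ideal R) [q.IsPrime], Subsingleton (LocalizedModule q.primeCompl M) ∨
      LocCoh.IsCohenMacaulayModule (Localization.AtPrime q) (LocalizedModule q.primeCompl M))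
    (i : ℕ) (hi : i ≠ r) (d : ℤ) : EM.Hcomp mR i d = ⊥ := by
  haveI : IsNoetherianRing R := Algebra.FiniteType.isNoetherianRing k R
  rcases lt_or_gt_of_ne hi with h | h
  · exact (cm_iff_Hcomp hposR h0R EM hmR hdM).1 hMcm i h d
  · exact Hcomp_eq_bot_of_supportDim_lt EM mR (by rw [hdM]; exact_mod_cast h) d

include hposR h0R hposS h0S hψ hdegT hP in
/-- When the Segre product of Cohen–Macaulay modules is Cohen–Macaulay. -/
theorem cm_segre_iff [Nontrivial P] {mR : HomogeneousIdeal 𝒜} {mS : HomogeneousIdeal ℬ}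
    (hmR : mR.toIdeal = Ideal.span (⋃ n ∈ Set.Ioi (0 : ℤ), (𝒜 n : Set R)))
    (hmS : mS.toIdeal = Ideal.span (⋃ n ∈ Set.Ioi (0 : ℤ), (ℬ n : Set S)))
    (EM : GrLC.StarInjRes 𝒜 ℳ) (EN : GrLC.StarInjRes ℬ 𝒩) {r s : ℕ} (h1r : 1 ≤ r) (h1s : 1 ≤ s)
    (hdM : Module.supportDim R M = r) (hdN : Module.supportDim S N = s)
    (hMcm : ∀ (q : Ideal R) [q.IsPrime], Subsingleton (LocalizedModule q.primeCompl M) ∨
      LocCoh.IsCohenMacaulayModule (Localization.AtPrime q) (LocalizedModule q.primeCompl M))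
    (hNcm : ∀ (q : Ideal S) [q.IsPrime], Subsingleton (LocalizedModule q.primeCompl N) ∨
      LocCoh.IsCohenMacaulayModule (Localization.AtPrime q) (LocalizedModule q.primeCompl N)) :
    (∀ (q : Ideal T) [q.IsPrime], Subsingleton (LocalizedModule q.primeCompl P) ∨
      LocCoh.IsCohenMacaulayModule (Localization.AtPrime q) (LocalizedModule q.primeCompl P)) ↔
    (2 ≤ r → ∀ d, (∀ x ∈ ℳ d, x = 0) ∨ EN.Hcomp mS s d = ⊥) ∧
      (2 ≤ s → ∀ d, EM.Hcomp mR r d = ⊥ ∨ ∀ y ∈ 𝒩 d, y = 0) := by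
  haveI : Nontrivial M := (Module.supportDim_ne_bot_iff_nontrivial R M).1 (by rw [hdM]; simp)
  haveI : Nontrivial N := (Module.supportDim_ne_bot_iff_nontrivial S N).1 (by rw [hdN]; simp)
  haveI : Nontrivial R := Module.nontrivial R M
  haveI : Nontrivial S := Module.nontrivial S N
  haveI := GrSegreLib.finiteType_segre 𝒜 ℬ 𝒯 ψ hposR h0R hposS h0S hψ hdegT
  let mT : HomogeneousIdeal 𝒯 := ⟨GrSegreLib.irr 𝒯, GrSegreLib.irr_homogeneous 𝒯⟩
  have H : Setting k R S T 𝒜 ℬ 𝒯 ψ mR mS mT := setting_of hposR h0R hposS h0S hψ hdegT hmR hmS rfl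
  haveI : Module.Finite T P := moduleFinite_segre' hposR h0R hposS h0S hdegT hP
  letI := (addPieces_isInternal 𝒬).chooseDecomposition
  have hP' : GrSeg.IsSegreMod ψ ℳ 𝒩 (addPieces 𝒬) φ := ⟨hP.injective, hP.image_piece, hP.map_smul⟩
  haveI : SetLike.GradedSMul 𝒯 (addPieces 𝒬) := gradedSMul_segre hdegT hP'
  obtain ⟨F⟩ := exists_starInjRes 𝒯 (addPieces 𝒬)
  obtain ⟨-, h0T⟩ := deg0_segre H h0R h0S
  have hposT := pos_segre hposR hposS hψ hdegT
  have hMv := Hcomp_eq_bot_of_cm hposR h0R EM hmR hdM hMcm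
  have hNv := Hcomp_eq_bot_of_cm hposS h0S EN hmS hdN hNcm
  rw [cm_iff_Hcomp hposT h0T F (mT := mT) rfl (supportDim_segre' hposR h0R hposS h0S hψ hdegT hP h1r h1s hdM hdN hMcm hNcm)]
  have hlow : ∀ q, q < r + s - 1 → ∀ d, (F.Hcomp mT q d = ⊥ ↔ _) := fun q hq d =>
    low_Hcomp H hposR h0R hposS h0S hP' EM EN F h1r h1s hMv hNv q d (by omega)
  constructor
  · intro h
    exact ⟨fun h2 d => ((hlow s (by omega) d).1 (h s (by omega) d)).1 rfl,
      fun h2 d => ((hlow r (by omega) d).1 (h r (by omega) d)).2 rfl⟩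
  · rintro ⟨hA, hB⟩ q hq d
    exact (hlow q hq d).2 ⟨fun h => hA (by omega) d, fun h => hB (by omega) d⟩

end Segre

end Groth.Agent.GrKunnethLib
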