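import Mathlib
import Groth.Agent.GrKunnethLib.CMSegre
import Groth.Agent.Depth.FlatLocal

/-!
# Cohen–Macaulayness of Segre product rings
-/

set_option autoImplicit false
set_option linter.style.haveILetI false
set_option linter.unusedSectionVars false
universe u

open scoped TensorProduct

namespace Groth.Agent.GrKunnethLib

open DirectSum GrInjLib

/-- A Cohen–Macaulay ring is a Cohen–Macaulay module over itself. -/
theorem cmRing_iff (A : Type u) [CommRing A] [IsNoetherianRing A] :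
    LocCoh.IsCohenMacaulayRing A ↔ ∀ (q : Ideal A) [q.IsPrime],
      Subsingleton (LocalizedModule q.primeCompl A) ∨
        LocCoh.IsCohenMacaulayModule (Localization.AtPrime q) (LocalizedModule q.primeCompl A) := by
  constructor
  · intro h q _
    refine Or.inr ?_
    have h1 := (h.isCohenMacaulayLocalRing_localization q).supportDim_eq_depth
    rw [Module.supportDim_self_eq_ringKrullDim] at h1
    unfold LocCoh.IsCohenMacaulayModule
    rw [Depth.supportDim_localizedSelf, Depth.depth_localizedSelf, h1]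
  · intro h
    refine { isCohenMacaulayLocalRing_localization := fun q hq => ?_ }
    have hnt : Nontrivial (LocalizedModule q.primeCompl A) :=
      (Depth.localizedSelfEquiv q).toEquiv.nontrivial
    have h1 : LocCoh.IsCohenMacaulayModule _ _ := (h q).resolve_left (not_subsingleton _)
    unfold LocCoh.IsCohenMacaulayModule at h1
    rw [Depth.supportDim_localizedSelf, Depth.depth_localizedSelf] at h1
    refine { supportDim_eq_depth := ?_ }
    rw [Module.supportDim_self_eq_ringKrullDim, h1]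

theorem endDeg_lt_zero_iff {M : Type u} [AddCommGroup M] (ℳ : ℤ → AddSubgroup M) :
    GrLC.endDeg ℳ < 0 ↔ ∀ n : ℤ, 0 ≤ n → ℳ n = ⊥ := by
  constructor
  · intro h n hn
    by_contra hne
    have h1 : ((n : WithTop ℤ) : WithBot (WithTop ℤ)) < 0 :=
      lt_of_le_of_lt (le_iSup₂ (f := fun (g : ℤ) (_ : ℳ g ≠ ⊥) =>
        ((g : WithTop ℤ) : WithBot (WithTop ℤ))) n hne) h
    rw [← WithBot.coe_zero, WithBot.coe_lt_coe, ← WithTop.coe_zero, WithTop.coe_lt_coe] at h1
    omega
  · intro h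
    refine lt_of_le_of_lt (b := ((((-1 : ℤ)) : WithTop ℤ) : WithBot (WithTop ℤ))) (iSup₂_le fun n hne => ?_) ?_
    · rw [WithBot.coe_le_coe, WithTop.coe_le_coe]
      by_contra hlt
      exact hne (h n (by omega))
    · rw [← WithBot.coe_zero, WithBot.coe_lt_coe, ← WithTop.coe_zero, WithTop.coe_lt_coe]
      omega

variable {k R : Type u} [Field k] [CommRing R] [Algebra k R] {𝒜 : ℤ → Submodule k R} [GradedAlgebra 𝒜]

/-- A standard graded algebra of positive dimension is nonzero in every nonnegative degree. -/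
theorem piece_ne_bot (hpos : ∀ n : ℤ, n < 0 → 𝒜 n = ⊥) (h0 : 𝒜 0 = Submodule.span k {(1 : R)})
    (hstd : Ideal.span (⋃ n ∈ Set.Ioi (0 : ℤ), (𝒜 n : Set R)) = Ideal.span ((𝒜 1 : Submodule k R) : Set R))
    (hdim : (1 : WithBot ℕ∞) ≤ ringKrullDim R) (n : ℤ) (hn : 0 ≤ n) : 𝒜 n ≠ ⊥ := by
  intro hbot
  haveI : Nontrivial R := by
    by_contra h
    rw [not_nontrivial_iff_subsingleton] at h
    rw [ringKrullDim_eq_bot_of_subsingleton] at hdim
    simp at hdim
  have hirr : GrSegreLib.irr 𝒜 ≤ nilradical R := by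
    rw [show GrSegreLib.irr 𝒜 = _ from hstd, Ideal.span_le]
    intro x hx
    refine ⟨n.toNat, ?_⟩
    have h1 := SetLike.pow_mem_graded n.toNat (show x ∈ 𝒜 1 from hx)
    rw [show n.toNat • (1 : ℤ) = n by rw [nsmul_eq_mul, mul_one, Int.toNat_of_nonneg hn], hbot,
      Submodule.mem_bot] at h1
    exact h1
  haveI := GrSegreLib.irr_isMaximal 𝒜 hpos h0
  haveI : Ring.KrullDimLE 0 R := Ring.krullDimLE_zero_iff.2 fun p hp => by
    rw [← Ideal.IsMaximal.eq_of_le (I := GrSegreLib.irr 𝒜) inferInstance hp.ne_top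
      (hirr.trans (nilradical_le_prime p))]
    infer_instance
  have h0' : ringKrullDim R ≤ 0 := Order.krullDimLE_iff 0 _ |>.1 inferInstance
  exact absurd (hdim.trans h0') (by decide)

variable (𝒜) in
/-- A resolution of a graded algebra by graded injectives. -/
theorem exists_selfRes : Nonempty (GrLC.StarInjRes 𝒜 𝒜) := by
  letI := (addPieces_isInternal 𝒜).chooseDecomposition
  obtain ⟨J⟩ := GrInjLib.exists_starInjRes 𝒜 (addPieces 𝒜)
  exact ⟨{ X := J.X, d := J.d, ε := J.ε, d_grHom := J.d_grHom, ε_grHom := J.ε_grHom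
           ε_injective := J.ε_injective, exact_zero := J.exact_zero, exact_succ := J.exact_succ
           starInj := J.starInj }⟩

variable (𝒜) in
/-- The dimension of a nonzero graded algebra of finite type is a natural number. -/
theorem exists_dim [Algebra.FiniteType k R] (hpos : ∀ n : ℤ, n < 0 → 𝒜 n = ⊥)
    (h0 : 𝒜 0 = Submodule.span k {(1 : R)}) (hdim : (0 : WithBot ℕ∞) ≤ ringKrullDim R) :
    ∃ d : ℕ, ringKrullDim R = d := by
  haveI : Nontrivial R := by
    by_contra h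
    rw [not_nontrivial_iff_subsingleton] at h
    rw [ringKrullDim_eq_bot_of_subsingleton] at hdim
    simp at hdim
  obtain ⟨s, g, hg, hgi⟩ := exists_integral_inj_algHom_of_fg k R
  refine ⟨s, ?_⟩
  rw [← GrSegreLib.ringKrullDim_eq_of_integral_injective g.toRingHom hg hgi,
    MvPolynomial.ringKrullDim_of_isNoetherianRing, ringKrullDim_eq_zero_of_field]
  simp

variable {S T : Type u} [CommRing S] [CommRing T] [Algebra k S] [Algebra k T] [Algebra.FiniteType k R]
  [Algebra.FiniteType k S] {ℬ : ℤ → Submodule k S} [GradedAlgebra ℬ]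
  {𝒯 : ℤ → Submodule k T} [GradedAlgebra 𝒯] {ψ : T →ₐ[k] R ⊗[k] S}

/-- When the Segre product of Cohen–Macaulay rings is Cohen–Macaulay. -/
theorem cm_segre_ring_iff (hposR : ∀ n : ℤ, n < 0 → 𝒜 n = ⊥) (h0R : 𝒜 0 = Submodule.span k {(1 : R)})
    (hposS : ∀ n : ℤ, n < 0 → ℬ n = ⊥) (h0S : ℬ 0 = Submodule.span k {(1 : S)})
    (hψ : Function.Injective ψ) (hdegT : ∀ n : ℤ, (𝒯 n).map ψ.toLinearMap = GrSeg.segrePiece k 𝒜 ℬ n)
    [LocCoh.IsCohenMacaulayRing R] [LocCoh.IsCohenMacaulayRing S]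
    {mR : HomogeneousIdeal 𝒜} {mS : HomogeneousIdeal ℬ}
    (hmR : mR.toIdeal = Ideal.span (⋃ n ∈ Set.Ioi (0 : ℤ), (𝒜 n : Set R)))
    (hmS : mS.toIdeal = Ideal.span (⋃ n ∈ Set.Ioi (0 : ℤ), (ℬ n : Set S)))
    (I : GrLC.StarInjRes 𝒜 𝒜) (J : GrLC.StarInjRes ℬ ℬ) {r s : ℕ} (hr : ringKrullDim R = r)
    (hs : ringKrullDim S = s) (h1r : 1 ≤ r) (h1s : 1 ≤ s) :
    LocCoh.IsCohenMacaulayRing T ↔
      (2 ≤ r → ∀ n, 𝒜 n = ⊥ ∨ J.Hcomp mS s n = ⊥) ∧ (2 ≤ s → ∀ n, I.Hcomp mR r n = ⊥ ∨ ℬ n = ⊥) := by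
  haveI := GrSegreLib.finiteType_segre 𝒜 ℬ 𝒯 ψ hposR h0R hposS h0S hψ hdegT
  haveI : IsNoetherianRing T := Algebra.FiniteType.isNoetherianRing k T
  haveI : Nontrivial R := by
    by_contra h
    rw [not_nontrivial_iff_subsingleton] at h
    rw [ringKrullDim_eq_bot_of_subsingleton] at hr
    simp at hr
  haveI : Nontrivial S := by
    by_contra h
    rw [not_nontrivial_iff_subsingleton] at h
    rw [ringKrullDim_eq_bot_of_subsingleton] at hs
    simp at hs
  let mT : HomogeneousIdeal 𝒯 := ⟨GrSegreLib.irr 𝒯, GrSegreLib.irr_homogeneous 𝒯⟩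
  have H : Setting k R S T 𝒜 ℬ 𝒯 ψ mR mS mT := setting_of hposR h0R hposS h0S hψ hdegT hmR hmS rfl
  haveI := (deg0_segre H h0R h0S).1
  simp only [Submodule.eq_bot_iff (𝒜 _), Submodule.eq_bot_iff (ℬ _)]
  rw [cmRing_iff]
  exact cm_segre_iff hposR h0R hposS h0S hψ hdegT (isSegreMod_self hψ hdegT) hmR hmS I J h1r h1s
    (by rw [Module.supportDim_self_eq_ringKrullDim, hr]) (by rw [Module.supportDim_self_eq_ringKrullDim, hs])
    ((cmRing_iff R).1 inferInstance) ((cmRing_iff S).1 inferInstance)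

end Groth.Agent.GrKunnethLib
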