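import Mathlib
import Groth.Agent.GrKunnethLib.CMSegre
import Groth.Agent.GrCoreLib.DualPieces
import Groth.Agent.GrCoreLib.Regrade
import Groth.Agent.GrCoreLib.VeroneseCanon

/-!
# The top local cohomology of a Segre product and the pieces of canonical modules
-/

set_option autoImplicit false
set_option linter.style.haveILetI false
set_option linter.unusedSectionVars false
set_option maxHeartbeats 1000000
universe u

open scoped TensorProduct

namespace Groth.Agent.GrKunnethLib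

open DirectSum GrInjLib

section Canon

variable {k R : Type u} [Field k] [CommRing R] [Algebra k R] {𝒜 : ℤ → Submodule k R} [GradedAlgebra 𝒜]
  [Nontrivial R] [IsNoetherianRing R] (hpos : ∀ n : ℤ, n < 0 → 𝒜 n = ⊥)
  (h0 : 𝒜 0 = Submodule.span k {(1 : R)})
  {m : HomogeneousIdeal 𝒜} (hm : m.toIdeal = Ideal.span (⋃ n ∈ Set.Ioi (0 : ℤ), (𝒜 n : Set R)))
  {E' : Type u} [AddCommGroup E'] [Module R E'] {𝓔 : ℤ → AddSubgroup E'} [Decomposition 𝓔]
  [SetLike.GradedSMul 𝒜 𝓔] {e : (R ⧸ m.toIdeal) →ₗ[R] E'}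
  (he : GrLC.IsStarInjHull 𝒜 (GrLC.quotGr 𝒜 m) 𝓔 e)
  {C : Type u} [AddCommGroup C] [Module R C] {𝒞 : ℤ → AddSubgroup C} [Decomposition 𝒞]
  [SetLike.GradedSMul 𝒜 𝒞] {r : ℕ} {I : GrLC.StarInjRes 𝒜 𝒜}

include hpos h0 hm he in
/-- The pieces of a canonical module are dual to those of the top local cohomology. -/
theorem finrank_canon_piece (hC : GrLC.IsStarCanonical 𝒜 𝒞 𝓔 m r I) (n : ℤ) :
    Module.finrank (GrLC.deg0 𝒜) (GrLC.comp 𝒜 𝒞 n) =
      Module.finrank (GrLC.deg0 𝒜) (I.Hcomp m r (-n)) := by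
  classical
  let 𝒜' := ringPieces 𝒜
  have hpos' : ∀ n : ℤ, n < 0 → 𝒜' n = ⊥ := fun n hn =>
    GrCoreLib.Regrade.pos_of 𝒜 n fun x hx => by rw [hpos n hn] at hx; exact (Submodule.mem_bot k).1 hx
  have h0' : IsField (GrLC.deg0 𝒜') := GrCoreLib.Regrade.isField_deg0 (deg0_isField h0)
  have hmsp : (GrCoreLib.Regrade.toA m).toIdeal = GrFieldLib.irr 𝒜' := hm
  have he' := GrCoreLib.Regrade.starInjHull he
  obtain ⟨hfin, Φ, hΦ⟩ := GrCoreLib.Regrade.starCanonical hC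
  haveI : Module.Finite R C := hfin
  letI : Field (GrLC.deg0 𝒜') := h0'.toField
  let I' := GrCoreLib.Regrade.ringRes I
  let P := LinearEquiv.ofBijective _
    (GrCoreLib.piecePairing_bijective 𝒞 hpos' h0' hmsp he' n)
  have h1 : Module.finrank (GrLC.deg0 𝒜') (GrLC.comp 𝒜' 𝒞 n) =
      Module.finrank (GrLC.deg0 𝒜') (GrLC.homDeg 𝒜' 𝒞 𝓔 (-n)) :=
    P.finrank_eq.trans Subspace.dual_finrank_eq
  let g : GrLC.homDeg 𝒜' 𝒞 𝓔 (-n) ≃ₗ[GrLC.deg0 𝒜'] I'.Hcomp (GrCoreLib.Regrade.toA m) r (-n) :=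
    { toFun := fun h => ⟨Φ (h : C →ₗ[R] E'), hΦ (-n) _ h.2⟩
      invFun := fun x => ⟨Φ.symm (x : I'.H (GrCoreLib.Regrade.toA m) r),
        GrCoreLib.exists_homDeg_of_mem (H_isInternal I' (GrCoreLib.Regrade.toA m) r) Φ hΦ x.2⟩
      left_inv := fun h => Subtype.ext (Φ.symm_apply_apply _)
      right_inv := fun x => Subtype.ext (Φ.apply_symm_apply _)
      map_add' := fun a b => Subtype.ext (map_add Φ _ _)
      map_smul' := fun c a => Subtype.ext (map_smul Φ (c : R) _) }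
  let j : GrLC.deg0 𝒜' ≃+* GrLC.deg0 𝒜 := RingEquiv.subringCongr GrCoreLib.Regrade.deg0_eq
  have e1 := rank_eq_of_equiv_equiv j
    ({ toFun := fun x => ⟨x.1, x.2⟩, invFun := fun x => ⟨x.1, x.2⟩, left_inv := fun _ => rfl,
       right_inv := fun _ => rfl, map_add' := fun _ _ => rfl } : GrLC.comp 𝒜' 𝒞 n ≃+ GrLC.comp 𝒜 𝒞 n)
    j.bijective (fun c x => rfl)
  have e2 := rank_eq_of_equiv_equiv j
    ({ toFun := fun x => ⟨x.1, x.2⟩, invFun := fun x => ⟨x.1, x.2⟩, left_inv := fun _ => rfl,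
       right_inv := fun _ => rfl, map_add' := fun _ _ => rfl } :
      I'.Hcomp (GrCoreLib.Regrade.toA m) r (-n) ≃+ I.Hcomp m r (-n))
    j.bijective (fun c x => rfl)
  exact ((congrArg Cardinal.toNat e1).symm.trans (h1.trans g.finrank_eq)).trans (congrArg Cardinal.toNat e2)

end Canon

section Quot

variable {k R : Type u} [Field k] [CommRing R] [Algebra k R] {𝒜 : ℤ → Submodule k R} [GradedAlgebra 𝒜]
  [Nontrivial R] [IsNoetherianRing R] (h0 : 𝒜 0 = Submodule.span k {(1 : R)})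
  (hpos : ∀ n : ℤ, n < 0 → 𝒜 n = ⊥)
  {M : Type u} [AddCommGroup M] [Module R M] [Module k M] [IsScalarTower k R M] [Module.Finite R M]
  {τ : Type u} [SetLike τ M] [AddSubgroupClass τ M] {ℳ : ℤ → τ} [Decomposition ℳ] [SetLike.GradedSMul 𝒜 ℳ]
  (E : GrLC.StarInjRes 𝒜 ℳ) (a : HomogeneousIdeal 𝒜)
  (ha : a.toIdeal = Ideal.span (⋃ n ∈ Set.Ioi (0 : ℤ), (𝒜 n : Set R))) (d : ℤ)

include h0 hpos ha in
theorem finite_degQuot (i : ℕ) : FiniteDimensional k ((degQuot E d a.toIdeal).Hgr i) := by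
  letI := (addPieces_isInternal ℳ).chooseDecomposition
  have hfinH : ∀ n, Module.Finite (GrLC.deg0 𝒜) (E.Hcomp a n d) := fun n => by
    haveI : Module.Finite R (addG 𝒜 ℳ).carrier := ‹Module.Finite R M›
    haveI : IsNoetherian (GrLC.deg0 𝒜) (E.Hcomp a n d) :=
      (pieces_finite_vanish (ℬ := 𝒜) (fun m hm x hx => by rw [hpos m hm] at hx; exact (Submodule.mem_bot k).1 hx)
        a ha n (addG 𝒜 ℳ) (addRes ℳ E)).1 d
    infer_instance
  cases i with
  | succ j =>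
    obtain ⟨e, -⟩ := exists_degQuot_equiv E d a.toIdeal j
    haveI := hfinH (j + 1 + 1)
    haveI := finite_Hrel E d h0 a (j + 1 + 1)
    exact Module.Finite.equiv e.symm
  | zero =>
    obtain ⟨eZ, -⟩ := exists_Z0_equiv E d
    haveI : Module.Finite k (kPiece ℳ d fun c _ hm => piece_smul_k 𝒜 c hm) := finite_piece (ℳ := ℳ) h0 d
    haveI : FiniteDimensional k (degCx E d).Z0 := Module.Finite.equiv eZ
    haveI := hfinH 1
    haveI := finite_Hrel E d h0 a 1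
    obtain ⟨Φ, hΦ, -, hker⟩ := Cx.exists_connecting (T := degCx E d) (Q := degQuot E d a.toIdeal)
      (K := degGam E d a.toIdeal) (degGam E d a.toIdeal).mkQ (Submodule.mkQ_surjective _) (fun x => rfl)
      (fun n x => rfl) (Submodule.ker_mkQ _).symm 0 (exactPos_degCx E d 0)
    haveI : FiniteDimensional k (LinearMap.ker Φ) := by
      have : FiniteDimensional k ((LinearMap.ker Φ).map ((degQuot E d a.toIdeal).Hgr 0).subtype) := by
        rw [hker]
        exact Module.Finite.map ((degCx E d).Z0) _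
      exact Module.Finite.equiv (((degQuot E d a.toIdeal).Hgr 0).equivSubtypeMap (LinearMap.ker Φ)).symm
    haveI : Module.Finite k ((degQuot E d a.toIdeal).Hgr 0 ⧸ LinearMap.ker Φ) :=
      Module.Finite.equiv (Φ.quotKerEquivOfSurjective hΦ).symm
    exact Module.Finite.of_submodule_quotient (LinearMap.ker Φ)

include h0 hpos ha in
theorem finrank_degQuot_succ (i : ℕ) :
    Module.finrank k ((degQuot E d a.toIdeal).Hgr (i + 1)) =
      Module.finrank (GrLC.deg0 𝒜) (E.Hcomp a (i + 1 + 1) d) := by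
  obtain ⟨e, -⟩ := exists_degQuot_equiv E d a.toIdeal i
  rw [e.finrank_eq, finrank_Hcomp E d h0]

end Quot

section Segre

variable {k R S T : Type u} [Field k] [CommRing R] [CommRing S] [CommRing T] [Algebra k R]
  [Algebra k S] [Algebra k T] [Nontrivial R] [Nontrivial S]
  {𝒜 : ℤ → Submodule k R} [GradedAlgebra 𝒜] {ℬ : ℤ → Submodule k S} [GradedAlgebra ℬ]
  {𝒯 : ℤ → Submodule k T} [GradedAlgebra 𝒯] {ψ : T →ₐ[k] R ⊗[k] S}
  {mR : HomogeneousIdeal 𝒜} {mS : HomogeneousIdeal ℬ} {mT : HomogeneousIdeal 𝒯}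
  {M : Type u} [AddCommGroup M] [Module R M] [Module k M] [IsScalarTower k R M] [Module.Finite R M]
  {τM : Type u} [SetLike τM M] [AddSubgroupClass τM M]
  {ℳ : ℤ → τM} [Decomposition ℳ] [SetLike.GradedSMul 𝒜 ℳ]
  {N : Type u} [AddCommGroup N] [Module S N] [Module k N] [IsScalarTower k S N] [Module.Finite S N]
  {τN : Type u} [SetLike τN N] [AddSubgroupClass τN N]
  {𝒩 : ℤ → τN} [Decomposition 𝒩] [SetLike.GradedSMul ℬ 𝒩]
  {P : Type u} [AddCommGroup P] [Module T P] [Module k P] [IsScalarTower k T P]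
  {τQ : Type u} [SetLike τQ P] [AddSubgroupClass τQ P]
  {𝒬 : ℤ → τQ} [Decomposition 𝒬] [SetLike.GradedSMul 𝒯 𝒬] {φ : P →ₗ[k] M ⊗[k] N}

/-- The top local cohomology of a Segre product. -/
theorem finrank_Hcomp_segre_top (H : Setting k R S T 𝒜 ℬ 𝒯 ψ mR mS mT)
    (hposR : ∀ n : ℤ, n < 0 → 𝒜 n = ⊥) (h0R : 𝒜 0 = Submodule.span k {(1 : R)})
    (hposS : ∀ n : ℤ, n < 0 → ℬ n = ⊥) (h0S : ℬ 0 = Submodule.span k {(1 : S)})
    (EM : GrLC.StarInjRes 𝒜 ℳ) (EN : GrLC.StarInjRes ℬ 𝒩) (hP : GrSeg.IsSegreMod ψ ℳ 𝒩 𝒬 φ)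
    (F : GrLC.StarInjRes 𝒯 𝒬) {r s : ℕ} (h2r : 2 ≤ r) (h2s : 2 ≤ s)
    (hMv : ∀ i, r < i → ∀ g, EM.Hcomp mR i g = ⊥) (hNv : ∀ i, s < i → ∀ g, EN.Hcomp mS i g = ⊥) (d : ℤ) :
    Module.finrank (GrLC.deg0 𝒯) (F.Hcomp mT (r + s - 1) d) =
      Module.finrank (GrLC.deg0 𝒜) (EM.Hcomp mR r d) * Module.finrank (GrLC.deg0 ℬ) (EN.Hcomp mS s d) := by
  haveI := H.noethR
  haveI := H.noethS
  obtain ⟨hTnt, h0T⟩ := deg0_segre H h0R h0S
  haveI := hTnt
  obtain ⟨a, rfl⟩ := Nat.exists_eq_add_of_le' h2r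
  obtain ⟨b, rfl⟩ := Nat.exists_eq_add_of_le' h2s
  obtain ⟨i, hi⟩ := exists_deg0_equiv h0T
  obtain ⟨f, hf⟩ := exists_Hcomp_addEquiv H EM EN hP d F (a + b + 1 + 1 + 1)
  rw [show a + 2 + (b + 2) - 1 = a + b + 1 + 1 + 1 by omega, finrank_eq_of_bij i f fun c x => hf c x (i c) (hi c)]
  have hqd : ∀ x, TensorProduct.map (degGam EM d mR.toIdeal).mkQ (degGam EN d mS.toIdeal).mkQ
      ((pairCx EM EN d).d x) = (pairQuot EM EN d mR.toIdeal mS.toIdeal).d
        (TensorProduct.map (degGam EM d mR.toIdeal).mkQ (degGam EN d mS.toIdeal).mkQ x) :=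
    Cx.qq_tD (stable_degGam EM d mR.toIdeal) (stable_degGam EN d mS.toIdeal)
  have hqπ : ∀ m x, TensorProduct.map (degGam EM d mR.toIdeal).mkQ (degGam EN d mS.toIdeal).mkQ
      ((pairCx EM EN d).π m x) = (pairQuot EM EN d mR.toIdeal mS.toIdeal).π m
        (TensorProduct.map (degGam EM d mR.toIdeal).mkQ (degGam EN d mS.toIdeal).mkQ x) :=
    Cx.qq_tπ (stable_degGam EM d mR.toIdeal) (stable_degGam EN d mS.toIdeal)
  have hex : (pairCx EM EN d).ExactPos := (exactPos_degCx EM d).tensor (exactPos_degCx EN d)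
  obtain ⟨e, -⟩ := Cx.exists_connecting_equiv (T := pairCx EM EN d)
    (Q := pairQuot EM EN d mR.toIdeal mS.toIdeal) (K := pairK EM EN d mR.toIdeal mS.toIdeal)
    (map_mkQ_surjective _ _) hqd hqπ rfl hex (a + b + 1)
  rw [← e.finrank_eq]
  refine (Cx.finrank_Hgr_tensor (degQuot EM d mR.toIdeal) (degQuot EN d mS.toIdeal) (a + b + 1 + 1)
    (fun j _ => finite_degQuot h0R hposR EM mR H.hmR d j)
    (fun j _ => finite_degQuot h0S hposS EN mS H.hmS d j)).2.trans ?_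
  rw [Finset.sum_eq_single (a + 1, b + 1)]
  · rw [finrank_degQuot_succ h0R hposR EM mR H.hmR d a, finrank_degQuot_succ h0S hposS EN mS H.hmS d b]
  · rintro ⟨p, q⟩ hpq hne
    rw [Finset.HasAntidiagonal.mem_antidiagonal] at hpq
    have : a + 1 < p ∨ b + 1 < q := by
      rcases Nat.lt_trichotomy p (a + 1) with h | h | h
      · right; omega
      · exact absurd (Prod.ext h (show q = b + 1 by omega)) hne
      · exact Or.inl h
    rcases this with h | h
    · obtain ⟨p', rfl⟩ := Nat.exists_eq_succ_of_ne_zero (show p ≠ 0 by omega)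
      rw [finrank_degQuot_succ h0R hposR EM mR H.hmR d p', hMv _ (by omega) d, finrank_bot, zero_mul]
    · obtain ⟨q', rfl⟩ := Nat.exists_eq_succ_of_ne_zero (show q ≠ 0 by omega)
      rw [finrank_degQuot_succ h0S hposS EN mS H.hmS d q', hNv _ (by omega) d, finrank_bot, mul_zero]
  · intro h
    exact absurd (Finset.HasAntidiagonal.mem_antidiagonal.2 (show a + 1 + (b + 1) = a + b + 1 + 1 by omega)) h

end Segre

end Groth.Agent.GrKunnethLib
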