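import Mathlib
import Groth.Agent.GrKunnethLib.TopIso
import Groth.Agent.GrKunnethLib.TopCanon
import Groth.Agent.GrKunnethLib.RingCM
import Groth.Agent.GrCoreLib.VeroneseType
import Groth.Agent.GrCoreLib.VeroneseConv

/-!
# The socle of the top local cohomology of a Segre product
-/

set_option autoImplicit false
set_option linter.style.haveILetI false
set_option linter.unusedSectionVars false
set_option maxHeartbeats 1000000
universe u

open scoped TensorProduct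

namespace Groth.Agent.GrKunnethLib

open DirectSum GrInjLib Groth.Agent.GrCoreLib

section Joint

variable {k : Type u} [Field k] {A B A' B' : Type u} [AddCommGroup A] [Module k A] [AddCommGroup B]
  [Module k B] [AddCommGroup A'] [Module k A'] [AddCommGroup B'] [Module k B']

/-- A family of maps with no common kernel stays so after tensoring with a vector space. -/
theorem eq_zero_of_joint_left {ι : Type*} (f : ι → A →ₗ[k] A') (hf : ∀ u, (∀ i, f i u = 0) → u = 0)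
    (w : A ⊗[k] B) (hw : ∀ i, TensorProduct.map (f i) (LinearMap.id : B →ₗ[k] B) w = 0) : w = 0 := by
  classical
  let b := Module.Basis.ofVectorSpace k B
  apply (TensorProduct.equivFinsuppOfBasisRight b).injective
  rw [map_zero]
  refine Finsupp.ext fun j => hf _ fun i => ?_
  have key : ∀ v : A ⊗[k] B, f i (TensorProduct.equivFinsuppOfBasisRight b v j) =
      TensorProduct.equivFinsuppOfBasisRight b (TensorProduct.map (f i) (LinearMap.id : B →ₗ[k] B) v) j := by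
    intro v
    induction v using TensorProduct.induction_on with
    | zero => simp
    | tmul x y => simp [TensorProduct.equivFinsuppOfBasisRight_apply_tmul_apply]
    | add x y hx hy => simp only [map_add, Finsupp.add_apply, hx, hy]
  rw [key, hw i, map_zero]
  rfl

/-- Two families of maps with no common kernel have none on the tensor product. -/
theorem eq_zero_of_joint {ι κ : Type*} (f : ι → A →ₗ[k] A') (g : κ → B →ₗ[k] B')
    (hf : ∀ u, (∀ i, f i u = 0) → u = 0) (hg : ∀ v, (∀ j, g j v = 0) → v = 0) (w : A ⊗[k] B)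
    (hw : ∀ i j, TensorProduct.map (f i) (g j) w = 0) : w = 0 := by
  refine eq_zero_of_joint_left f hf w fun i => ?_
  apply (TensorProduct.comm k A' B).injective
  rw [map_zero]
  refine eq_zero_of_joint_left g hg _ fun j => ?_
  have key : ∀ v : A ⊗[k] B, TensorProduct.map (g j) (LinearMap.id : A' →ₗ[k] A')
      (TensorProduct.comm k A' B (TensorProduct.map (f i) (LinearMap.id : B →ₗ[k] B) v)) =
        TensorProduct.comm k A' B' (TensorProduct.map (f i) (g j) v) := by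
    intro v
    induction v using TensorProduct.induction_on with
    | zero => simp
    | tmul x y => simp
    | add x y hx hy => simp only [map_add, hx, hy]
  rw [key, hw, map_zero]

end Joint

section Abstract

variable {k R S T : Type u} [Field k] [CommRing R] [CommRing S] [CommRing T] [Algebra k R]
  [Algebra k S] [Algebra k T] {𝒜 : ℤ → Submodule k R} [GradedAlgebra 𝒜] {ℬ : ℤ → Submodule k S}
  [GradedAlgebra ℬ] {𝒯 : ℤ → Submodule k T} [GradedAlgebra 𝒯] {ψ : T →ₐ[k] R ⊗[k] S}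
  {mT : HomogeneousIdeal 𝒯}
  {U : Type u} [AddCommGroup U] [Module R U] [Module k U] [IsScalarTower k R U]
  {𝒰 : ℤ → AddSubgroup U} [Decomposition 𝒰] [SetLike.GradedSMul 𝒜 𝒰]
  {V : Type u} [AddCommGroup V] [Module S V] [Module k V] [IsScalarTower k S V]
  {𝒱 : ℤ → AddSubgroup V} [Decomposition 𝒱] [SetLike.GradedSMul ℬ 𝒱]
  {X : Type u} [AddCommGroup X] [Module T X] [Module k X] [IsScalarTower k T X]
  {𝒳 : ℤ → AddSubgroup X} [Decomposition 𝒳] [SetLike.GradedSMul 𝒯 𝒳] {Φ : X →ₗ[k] U ⊗[k] V}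

theorem segreMod_eq_zero (hΦ : GrSeg.IsSegreMod ψ 𝒰 𝒱 𝒳 Φ) {d : ℤ}
    (h : (∀ u ∈ 𝒰 d, u = 0) ∨ ∀ v ∈ 𝒱 d, v = 0) {x : X} (hx : x ∈ 𝒳 d) : x = 0 := by
  refine hΦ.injective (((Submodule.mem_bot k).1 ?_).trans (map_zero Φ).symm)
  have h1 : Φ x ∈ GrSeg.segrePiece k 𝒰 𝒱 d := (hΦ.image_piece d).subset ⟨x, hx, rfl⟩
  refine (Submodule.span_le.2 ?_ : GrSeg.segrePiece k 𝒰 𝒱 d ≤ ⊥) h1
  rintro _ ⟨u, hu, v, hv, rfl⟩
  rcases h with h | h
  · rw [h u hu, TensorProduct.zero_tmul]; exact zero_mem _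
  · rw [h v hv, TensorProduct.tmul_zero]; exact zero_mem _

/-- Elements of a Segre module detected by scalars of one degree. -/
theorem segreMod_eq_zero_of_smul (hdeg : ∀ n : ℤ, (𝒯 n).map ψ.toLinearMap = GrSeg.segrePiece k 𝒜 ℬ n)
    (hΦ : GrSeg.IsSegreMod ψ 𝒰 𝒱 𝒳 Φ) {d e : ℤ}
    (hU : ∀ u ∈ 𝒰 d, (∀ r ∈ 𝒜 e, r • u = 0) → u = 0) (hV : ∀ v ∈ 𝒱 d, (∀ s ∈ ℬ e, s • v = 0) → v = 0)
    {x : X} (hx : x ∈ 𝒳 d) (h : ∀ t ∈ 𝒯 e, t • x = 0) : x = 0 := by
  let A := piece 𝒜 𝒰 d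
  let B := piece ℬ 𝒱 d
  have h1 : Φ x ∈ LinearMap.range (TensorProduct.map A.subtype B.subtype) :=
    (segrePiece_eq_range 𝒰 𝒱 d A B (fun _ => Iff.rfl) fun _ => Iff.rfl) ▸ (hΦ.image_piece d).subset ⟨x, hx, rfl⟩
  obtain ⟨w, hw⟩ := h1
  let f : 𝒜 e → A →ₗ[k] U := fun r => ((LinearMap.lsmul R U (r : R)).restrictScalars k) ∘ₗ A.subtype
  let g : ℬ e → B →ₗ[k] V := fun s => ((LinearMap.lsmul S V (s : S)).restrictScalars k) ∘ₗ B.subtype
  have hw0 : w = 0 := eq_zero_of_joint f g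
    (fun u hu => Subtype.ext (hU u u.2 fun r hr => hu ⟨r, hr⟩))
    (fun v hv => Subtype.ext (hV v v.2 fun s hs => hv ⟨s, hs⟩)) w fun r s => by
      obtain ⟨t, ht, hte⟩ := (hdeg e).ge (Submodule.subset_span ⟨r, r.2, s, s.2, rfl⟩)
      have h2 : GrSeg.act k R S U V ((r : R) ⊗ₜ[k] (s : S)) (TensorProduct.map A.subtype B.subtype w) = 0 := by
        rw [hw, ← show ψ t = (r : R) ⊗ₜ[k] (s : S) from hte, ← hΦ.map_smul, h t ht, map_zero]
      refine Eq.trans ?_ h2
      clear hw h2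
      induction w using TensorProduct.induction_on with
      | zero => simp
      | tmul u v =>
        simp only [TensorProduct.map_tmul, Submodule.subtype_apply, GrSeg.act_tmul]
        rfl
      | add u v hu hv => simp only [map_add, hu, hv]
  refine hΦ.injective ?_
  rw [← hw, hw0, map_zero, map_zero]

/-- The socle of a Segre module concentrated in one degree. -/
theorem mem_killed_segre_iff (hdeg : ∀ n : ℤ, (𝒯 n).map ψ.toLinearMap = GrSeg.segrePiece k 𝒜 ℬ n)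
    (hmT : mT.toIdeal = Ideal.span (⋃ n ∈ Set.Ioi (0 : ℤ), (𝒯 n : Set T)))
    (hΦ : GrSeg.IsSegreMod ψ 𝒰 𝒱 𝒳 Φ) {b : ℤ}
    (hU : ∀ d < b, ∀ u ∈ 𝒰 d, (∀ r ∈ 𝒜 (b - d), r • u = 0) → u = 0)
    (hV : ∀ d < b, ∀ v ∈ 𝒱 d, (∀ s ∈ ℬ (b - d), s • v = 0) → v = 0)
    (hV0 : ∀ d, b < d → ∀ v ∈ 𝒱 d, v = 0) (x : X) :
    x ∈ killed mT.toIdeal X ↔ x ∈ 𝒳 b := by
  rw [show x ∈ killed mT.toIdeal X ↔ ∀ r ∈ mT.toIdeal, r • x = 0 from by
    rw [killed, Submodule.mem_torsionBySet_iff]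
    exact ⟨fun h r hr => h ⟨r, hr⟩, fun h r => h r r.2⟩]
  constructor
  · intro hx
    suffices h : ∀ d, d ≠ b → proj 𝒳 d x = 0 by
      have h' : x - proj 𝒳 b x = 0 := eq_zero_of_proj 𝒳 _ fun g => by
        rw [map_sub]
        by_cases hg : g = b
        · subst hg; rw [proj_of_mem 𝒳 (proj_mem 𝒳 g _), sub_self]
        · rw [h g hg, proj_of_mem_ne 𝒳 (proj_mem 𝒳 b _) (Ne.symm hg), sub_zero]
      rw [sub_eq_zero.1 h']
      exact proj_mem 𝒳 b x
    intro d hd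
    rcases lt_or_gt_of_ne hd with h | h
    · refine segreMod_eq_zero_of_smul hdeg hΦ (hU d h) (hV d h) (proj_mem 𝒳 d x) fun t ht => ?_
      rw [← proj_smul 𝒯 𝒳 ht, hx t (hmT ▸ Ideal.subset_span
        (Set.mem_iUnion₂.2 ⟨b - d, show (0 : ℤ) < b - d by omega, ht⟩)), map_zero]
    · exact segreMod_eq_zero hΦ (Or.inr (hV0 d h)) (proj_mem 𝒳 d x)
  · intro hx r hr
    rw [hmT] at hr
    induction hr using Submodule.span_induction with
    | mem s hs =>
      obtain ⟨e, he, hse⟩ := Set.mem_iUnion₂.1 hs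
      exact segreMod_eq_zero hΦ (Or.inr (hV0 (e + b) (by have : (0 : ℤ) < e := he; omega)))
        (GrInjLib.smul_mem 𝒯 𝒳 hse hx)
    | zero => exact zero_smul _ _
    | add p p' _ _ hp hp' => rw [add_smul, hp, hp', add_zero]
    | smul c p _ hp => rw [smul_eq_mul, mul_smul, hp, smul_zero]

end Abstract

section OneFactor

variable {k R : Type u} [Field k] [CommRing R] [Algebra k R] {𝒜 : ℤ → Submodule k R} [GradedAlgebra 𝒜]
  [Nontrivial R] (hpos : ∀ n : ℤ, n < 0 → 𝒜 n = ⊥) (h0 : 𝒜 0 = Submodule.span k {(1 : R)})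
  {m : HomogeneousIdeal 𝒜} (hm : m.toIdeal = Ideal.span (⋃ n ∈ Set.Ioi (0 : ℤ), (𝒜 n : Set R)))
  {n : ℕ} (hn : ringKrullDim R = n) (I : GrLC.StarInjRes 𝒜 𝒜)

theorem finrank_Hcomp_ringRes (d : ℤ) :
    Module.finrank (GrLC.deg0 (ringPieces 𝒜)) ((Regrade.ringRes I).Hcomp (Regrade.toA m) n d) =
      Module.finrank (GrLC.deg0 𝒜) (I.Hcomp m n d) :=
  congrArg Cardinal.toNat (rank_eq_of_equiv_equiv (RingEquiv.subringCongr (Regrade.deg0_eq (𝒜 := 𝒜)))
    ({ toFun := fun x => ⟨x.1, x.2⟩, invFun := fun x => ⟨x.1, x.2⟩, left_inv := fun _ => rfl,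
       right_inv := fun _ => rfl, map_add' := fun _ _ => rfl } :
      (Regrade.ringRes I).Hcomp (Regrade.toA m) n d ≃+ I.Hcomp m n d)
    (RingEquiv.subringCongr (Regrade.deg0_eq (𝒜 := 𝒜))).bijective (fun c x => rfl))

theorem finrank_comp_ringPieces (d : ℤ) :
    Module.finrank (GrLC.deg0 (ringPieces 𝒜)) (GrLC.comp (ringPieces 𝒜) (ringPieces 𝒜) d) =
      Module.finrank (GrLC.deg0 𝒜) (GrLC.comp 𝒜 𝒜 d) :=
  congrArg Cardinal.toNat (rank_eq_of_equiv_equiv (RingEquiv.subringCongr (Regrade.deg0_eq (𝒜 := 𝒜)))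
    ({ toFun := fun x => ⟨x.1, x.2⟩, invFun := fun x => ⟨x.1, x.2⟩, left_inv := fun _ => rfl,
       right_inv := fun _ => rfl, map_add' := fun _ _ => rfl } :
      GrLC.comp (ringPieces 𝒜) (ringPieces 𝒜) d ≃+ GrLC.comp 𝒜 𝒜 d)
    (RingEquiv.subringCongr (Regrade.deg0_eq (𝒜 := 𝒜))).bijective (fun c x => rfl))

include h0 in
theorem finrank_comp_self (d : ℤ) :
    Module.finrank (GrLC.deg0 𝒜) (GrLC.comp 𝒜 𝒜 d) = Module.finrank k (𝒜 d) :=
  (finrank_comp_eq h0 d).trans (finrank_piece_self d)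

include hpos h0 hm hn in
/-- Duality of a Gorenstein graded algebra with its top local cohomology. -/
theorem gorenstein_data [LocCoh.IsGorensteinRing R] :
    ∃ a : ℤ, GrLC.endDeg (I.Hgr m n) = ((a : WithTop ℤ) : WithBot (WithTop ℤ)) ∧
      Module.finrank (GrLC.deg0 𝒜) (I.Hcomp m n a) = 1 ∧
      (∀ d, ∀ x ∈ I.Hgr m n d, x ≠ 0 → d ≤ a ∧ ∃ r ∈ 𝒜 (a - d), r • x ≠ 0) ∧
      ∀ ρ, Module.finrank (GrLC.deg0 𝒜) (I.Hcomp m n (a - ρ)) = Module.finrank k (𝒜 ρ) := by
  classical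
  have hpos' : ∀ n : ℤ, n < 0 → ringPieces 𝒜 n = ⊥ := fun n hn =>
    Regrade.pos_of 𝒜 n fun x hx => by rw [hpos n hn] at hx; exact (Submodule.mem_bot k).1 hx
  have h0' : IsField (GrLC.deg0 (ringPieces 𝒜)) := Regrade.isField_deg0 (deg0_isField h0)
  have hmsp : (Regrade.toA m).toIdeal = GrFieldLib.irr (ringPieces 𝒜) := hm
  have hm' : GrLC.IsStarLocal (ringPieces 𝒜) (Regrade.toA m) := by
    rw [show Regrade.toA m = irrH (ringPieces 𝒜) from HomogeneousIdeal.toIdeal_injective hmsp]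
    exact isStarLocal_irrH hpos' h0'
  haveI := isPrime_of_starLocal hm'
  have hht : (Regrade.toA m).toIdeal.height = n := by
    have h := (GrFieldLib.height_irr (ringPieces 𝒜) hpos' h0').trans hn
    rw [← hmsp] at h
    exact_mod_cast h
  obtain ⟨-, d, y₀, hy1, hy2, -, hd2⟩ := exists_socle_degree hpos' hm' hmsp hht (Regrade.ringRes I)
  have ha : GrLC.endDeg (I.Hgr m n) = ((d : WithTop ℤ) : WithBot (WithTop ℤ)) := by
    refine le_antisymm (iSup₂_le fun g hg => ?_)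
      (le_iSup₂ (f := fun (g : ℤ) (_ : I.Hgr m n g ≠ ⊥) => ((g : WithTop ℤ) : WithBot (WithTop ℤ))) d
        fun h => hy2 ((AddSubgroup.eq_bot_iff_forall _).1 h _ hy1))
    obtain ⟨y, hy, hy0⟩ : ∃ y ∈ I.Hgr m n g, y ≠ 0 := by
      by_contra h
      push Not at h
      exact hg ((AddSubgroup.eq_bot_iff_forall _).2 h)
    exact WithBot.coe_le_coe.2 (WithTop.coe_le_coe.2 (hd2 g y hy hy0).1)
  obtain ⟨hone, hd, hdual⟩ := gorenstein_pairing hpos' h0' hm' hmsp hn (Regrade.ringRes I) (a := d) ha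
  refine ⟨d, ha, (finrank_Hcomp_ringRes I d).symm.trans hone, hd, fun ρ => ?_⟩
  rw [← finrank_Hcomp_ringRes, (hdual ρ).2, finrank_comp_ringPieces, finrank_comp_self h0]

include hpos h0 hm hn in
/-- The type of a Cohen–Macaulay graded algebra whose top socle is one piece. -/
theorem bassNum_of_socle [Algebra.FiniteType k R] [LocCoh.IsCohenMacaulayRing R] [m.toIdeal.IsMaximal] {b : ℤ} {c : ℕ}
    (hsoc : ∀ x : I.H m n, x ∈ killed m.toIdeal (I.H m n) ↔ x ∈ I.Hcomp m n b)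
    (hc : Module.finrank (GrLC.deg0 𝒜) (I.Hcomp m n b) = c) :
    GrLC.bassNum m.toIdeal R n = (c : ℕ∞) := by
  classical
  haveI : IsNoetherianRing R := Algebra.FiniteType.isNoetherianRing k R
  have hpos' : ∀ n : ℤ, n < 0 → ringPieces 𝒜 n = ⊥ := fun n hn =>
    Regrade.pos_of 𝒜 n fun x hx => by rw [hpos n hn] at hx; exact (Submodule.mem_bot k).1 hx
  have h0' : IsField (GrLC.deg0 (ringPieces 𝒜)) := Regrade.isField_deg0 (deg0_isField h0)
  have hmsp : (Regrade.toA m).toIdeal = GrFieldLib.irr (ringPieces 𝒜) := hm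
  let I' := Regrade.ringRes I
  haveI : (Regrade.toA m).toIdeal.IsMaximal := inferInstanceAs m.toIdeal.IsMaximal
  refine (bassNum_eq_bassNum_topH (m := Regrade.toA m) I'
    (fun i hi => GrCoreLib.subsingleton_H_of_lt hpos' h0' hmsp hn I' i hi)).trans ?_
  rw [bassNum_zero_eq]
  refine (length_localized_killed hpos' h0' hmsp (I'.H (Regrade.toA m) n)).trans ?_
  letI : Field (GrLC.deg0 (ringPieces 𝒜)) := h0'.toField
  let e : killed (Regrade.toA m).toIdeal (I'.H (Regrade.toA m) n) ≃ₗ[GrLC.deg0 (ringPieces 𝒜)]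
      I'.Hcomp (Regrade.toA m) n b :=
    { toFun := fun x => ⟨x.1, (hsoc x.1).1 x.2⟩
      invFun := fun x => ⟨x.1, (hsoc x.1).2 x.2⟩
      map_add' := fun _ _ => rfl
      map_smul' := fun _ _ => rfl
      left_inv := fun _ => rfl
      right_inv := fun _ => rfl }
  rw [e.length_eq]
  haveI : IsNoetherianRing R := inferInstance
  haveI : Module.Finite R (addG (ringPieces 𝒜) (ringPieces 𝒜)).carrier := inferInstanceAs (Module.Finite R R)
  haveI : IsNoetherian (GrLC.deg0 (ringPieces 𝒜)) (I'.Hcomp (Regrade.toA m) n b) :=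
    (pieces_finite_vanish (ℬ := ringPieces 𝒜) (fun i hi x hx => by rw [hpos' i hi] at hx; exact AddSubgroup.mem_bot.1 hx)
      (Regrade.toA m) hmsp n (addG (ringPieces 𝒜) (ringPieces 𝒜)) (addRes (ringPieces 𝒜) I')).1 b
  rw [Module.length_eq_finrank]
  norm_cast

include hpos h0 hm hn in
/-- A Cohen–Macaulay graded algebra with self-dual top local cohomology is Gorenstein. -/
theorem isGorensteinRing_of_duality [Algebra.FiniteType k R] [LocCoh.IsCohenMacaulayRing R] {a : ℤ}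
    (hone : Module.finrank (GrLC.deg0 𝒜) (I.Hcomp m n a) = 1)
    (hP : ∀ d, ∀ x ∈ I.Hgr m n d, x ≠ 0 → d ≤ a ∧ ∃ r ∈ 𝒜 (a - d), r • x ≠ 0)
    (hdim : ∀ i, Module.finrank (GrLC.deg0 𝒜) (I.Hcomp m n (a - i)) = Module.finrank k (𝒜 i)) :
    LocCoh.IsGorensteinRing R := by
  classical
  haveI : IsNoetherianRing R := Algebra.FiniteType.isNoetherianRing k R
  have hpos' : ∀ n : ℤ, n < 0 → ringPieces 𝒜 n = ⊥ := fun n hn =>
    Regrade.pos_of 𝒜 n fun x hx => by rw [hpos n hn] at hx; exact (Submodule.mem_bot k).1 hx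
  have h0' : IsField (GrLC.deg0 (ringPieces 𝒜)) := Regrade.isField_deg0 (deg0_isField h0)
  have hmsp : (Regrade.toA m).toIdeal = GrFieldLib.irr (ringPieces 𝒜) := hm
  have hm' : GrLC.IsStarLocal (ringPieces 𝒜) (Regrade.toA m) := by
    rw [show Regrade.toA m = irrH (ringPieces 𝒜) from HomogeneousIdeal.toIdeal_injective hmsp]
    exact isStarLocal_irrH hpos' h0'
  letI : Field (GrLC.deg0 (ringPieces 𝒜)) := h0'.toField
  let I' := Regrade.ringRes I
  rw [← finrank_Hcomp_ringRes] at hone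
  haveI : Module.Finite (GrLC.deg0 (ringPieces 𝒜)) (I'.Hcomp (Regrade.toA m) n a) :=
    Module.finite_of_finrank_eq_succ hone
  obtain ⟨σ, hσ0, hσ⟩ := finrank_eq_one_iff'.1 hone
  refine isGorensteinRing_of_selfdual hpos' h0' hm' hmsp hn I' (a := a) (σ := σ.1) σ.2
    (fun h => hσ0 (Subtype.ext h)) (fun y hy => ?_) hP (fun i φ => ?_)
  · obtain ⟨c, hc⟩ := hσ ⟨y, hy⟩
    exact ⟨c.1, c.2, congrArg Subtype.val hc⟩
  · let H := HMod I' (Regrade.toA m) n
    haveI : IsNoetherian (GrLC.deg0 (ringPieces 𝒜)) (GrLC.comp (ringPieces 𝒜) (ringPieces 𝒜) i) :=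
      isNoetherian_comp (ringPieces 𝒜) (ringPieces 𝒜) i
    let P : I'.Hcomp (Regrade.toA m) n (a - i) →ₗ[GrLC.deg0 (ringPieces 𝒜)]
        GrLC.comp (ringPieces 𝒜) (ringPieces 𝒜) i →ₗ[GrLC.deg0 (ringPieces 𝒜)] I'.Hcomp (Regrade.toA m) n a :=
      LinearMap.mk₂ _ (fun x r => ⟨(r : R) • x.1, by
          have h : (r : R) • (x.1 : H.carrier) ∈ H.gr (i + (a - i)) := smul_mem (ringPieces 𝒜) H.gr r.2 x.2
          rwa [add_sub_cancel] at h⟩)
        (fun x x' r => Subtype.ext (smul_add _ _ _))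
        (fun c x r => Subtype.ext (show (r : R) • ((c : R) • x.1) = (c : R) • ((r : R) • x.1) from smul_comm _ _ _))
        (fun x r r' => Subtype.ext (add_smul _ _ _))
        (fun c x r => Subtype.ext (show ((c : R) • (r : R)) • x.1 = (c : R) • ((r : R) • x.1) from smul_assoc _ _ _))
    have hinj : Function.Injective P := by
      refine (injective_iff_map_eq_zero P).2 fun x hx => Subtype.ext ?_
      by_contra hne
      obtain ⟨-, r, hr, hrx⟩ := hP _ x.1 x.2 hne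
      rw [sub_sub_cancel] at hr
      exact hrx (congrArg Subtype.val (LinearMap.congr_fun hx ⟨r, hr⟩))
    haveI : Module.Finite (GrLC.deg0 (ringPieces 𝒜)) (I'.Hcomp (Regrade.toA m) n (a - i)) :=
      Module.Finite.of_injective P hinj
    obtain ⟨x, hx⟩ := (LinearMap.injective_iff_surjective_of_finrank_eq_finrank (by
      rw [Module.finrank_linearMap, hone, mul_one, finrank_Hcomp_ringRes, hdim, finrank_comp_ringPieces,
        finrank_comp_self h0])).1 hinj φ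
    exact ⟨x.1, x.2, fun r => congrArg Subtype.val (LinearMap.congr_fun hx r)⟩

end OneFactor

section Segre

variable {k R S T : Type u} [Field k] [CommRing R] [CommRing S] [CommRing T] [Algebra k R]
  [Algebra k S] [Algebra k T] [Algebra.FiniteType k R] [Algebra.FiniteType k S]
  {𝒜 : ℤ → Submodule k R} [GradedAlgebra 𝒜] {ℬ : ℤ → Submodule k S} [GradedAlgebra ℬ]
  {𝒯 : ℤ → Submodule k T} [GradedAlgebra 𝒯] {ψ : T →ₐ[k] R ⊗[k] S}
  {mR : HomogeneousIdeal 𝒜} {mS : HomogeneousIdeal ℬ} {mT : HomogeneousIdeal 𝒯}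

/-- The socle and the pieces of the top local cohomology of a Segre product of Gorenstein algebras. -/
theorem top_segre_gorenstein (H : Setting k R S T 𝒜 ℬ 𝒯 ψ mR mS mT)
    (hposR : ∀ n : ℤ, n < 0 → 𝒜 n = ⊥) (h0R : 𝒜 0 = Submodule.span k {(1 : R)})
    (hposS : ∀ n : ℤ, n < 0 → ℬ n = ⊥) (h0S : ℬ 0 = Submodule.span k {(1 : S)})
    [LocCoh.IsGorensteinRing R] [LocCoh.IsGorensteinRing S]
    (I : GrLC.StarInjRes 𝒜 𝒜) (J : GrLC.StarInjRes ℬ ℬ) (F : GrLC.StarInjRes 𝒯 𝒯) {r s : ℕ}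
    (hr : ringKrullDim R = r) (hs : ringKrullDim S = s) (h2r : 2 ≤ r) (h2s : 2 ≤ s) {a b : ℤ}
    (ha : GrLC.endDeg (I.Hgr mR r) = ((a : WithTop ℤ) : WithBot (WithTop ℤ)))
    (hb : GrLC.endDeg (J.Hgr mS s) = ((b : WithTop ℤ) : WithBot (WithTop ℤ))) (hab : b ≤ a)
    (hR : ∀ d < b, ∀ u ∈ I.Hgr mR r d, (∀ c ∈ 𝒜 (b - d), c • u = 0) → u = 0) :
    Module.finrank (GrLC.deg0 𝒯) (F.Hcomp mT (r + s - 1) b) = Module.finrank k (𝒜 (a - b)) ∧
      (∀ x : F.H mT (r + s - 1), x ∈ killed mT.toIdeal (F.H mT (r + s - 1)) ↔ x ∈ F.Hcomp mT (r + s - 1) b) ∧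
      (a = b → (∀ d, ∀ x ∈ F.Hgr mT (r + s - 1) d, x ≠ 0 → d ≤ a ∧ ∃ t ∈ 𝒯 (a - d), t • x ≠ 0) ∧
        ∀ i, Module.finrank (GrLC.deg0 𝒯) (F.Hcomp mT (r + s - 1) (a - i)) = Module.finrank k (𝒯 i)) := by
  classical
  haveI := H.noethR
  haveI := H.noethS
  haveI := H.noethT
  haveI : Nontrivial R := by
    by_contra h
    rw [not_nontrivial_iff_subsingleton] at h
    rw [ringKrullDim_eq_bot_of_subsingleton] at hr
    simp at hr
  haveI : Nontrivial S := by
    by_contra h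
    rw [not_nontrivial_iff_subsingleton] at h
    rw [ringKrullDim_eq_bot_of_subsingleton] at hs
    simp at hs
  obtain ⟨a', ha', hA1, hA2, hA3⟩ := gorenstein_data hposR h0R H.hmR hr I
  obtain ⟨b', hb', hB1, hB2, hB3⟩ := gorenstein_data hposS h0S H.hmS hs J
  obtain rfl : a = a' := WithTop.coe_inj.1 (WithBot.coe_inj.1 (ha.symm.trans ha'))
  obtain rfl : b = b' := WithTop.coe_inj.1 (WithBot.coe_inj.1 (hb.symm.trans hb'))
  have hMv : ∀ i, r < i → ∀ g, I.Hcomp mR i g = ⊥ := fun i hi g => Hcomp_eq_bot_of_supportDim_lt I mR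
    (by rw [Module.supportDim_self_eq_ringKrullDim, hr]; exact_mod_cast hi) g
  have hNv : ∀ i, s < i → ∀ g, J.Hcomp mS i g = ⊥ := fun i hi g => Hcomp_eq_bot_of_supportDim_lt J mS
    (by rw [Module.supportDim_self_eq_ringKrullDim, hs]; exact_mod_cast hi) g
  have hP := isSegreMod_self H.inj H.deg
  have hdim := finrank_Hcomp_segre_top H hposR h0R hposS h0S I J hP F h2r h2s hMv hNv
  obtain ⟨p, rfl⟩ := Nat.exists_eq_add_of_le' h2r
  obtain ⟨q, rfl⟩ := Nat.exists_eq_add_of_le' h2s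
  have hn : p + 2 + (q + 2) - 1 = p + q + 1 + 1 + 1 := by omega
  rw [hn] at hdim ⊢
  letI : Module k (I.H mR (p + 1 + 1)) := Module.compHom _ (algebraMap k R)
  haveI : IsScalarTower k R (I.H mR (p + 1 + 1)) := IsScalarTower.of_algebraMap_smul fun _ _ => rfl
  letI : Module k (J.H mS (q + 1 + 1)) := Module.compHom _ (algebraMap k S)
  haveI : IsScalarTower k S (J.H mS (q + 1 + 1)) := IsScalarTower.of_algebraMap_smul fun _ _ => rfl
  letI : Module k (F.H mT (p + q + 1 + 1 + 1)) := Module.compHom _ (algebraMap k T)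
  haveI : IsScalarTower k T (F.H mT (p + q + 1 + 1 + 1)) := IsScalarTower.of_algebraMap_smul fun _ _ => rfl
  letI := (addPieces_isInternal 𝒜).chooseDecomposition
  letI := (addPieces_isInternal ℬ).chooseDecomposition
  letI := (addPieces_isInternal 𝒯).chooseDecomposition
  letI : Decomposition (I.Hgr mR (p + 1 + 1)) := (H_isInternal (addRes 𝒜 I) mR (p + 1 + 1)).chooseDecomposition
  letI : Decomposition (J.Hgr mS (q + 1 + 1)) := (H_isInternal (addRes ℬ J) mS (q + 1 + 1)).chooseDecomposition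
  letI : Decomposition (F.Hgr mT (p + q + 1 + 1 + 1)) :=
    (H_isInternal (addRes 𝒯 F) mT (p + q + 1 + 1 + 1)).chooseDecomposition
  haveI : SetLike.GradedSMul 𝒜 (I.Hgr mR (p + 1 + 1)) := ⟨fun {e g c v} hc hv => by
    obtain ⟨z, hz, rfl⟩ := hv
    exact ⟨c • z, GrInjLib.smul_mem 𝒜 (I.X _).gr hc hz, map_smul _ _ _⟩⟩
  haveI : SetLike.GradedSMul ℬ (J.Hgr mS (q + 1 + 1)) := ⟨fun {e g c v} hc hv => by
    obtain ⟨z, hz, rfl⟩ := hv
    exact ⟨c • z, GrInjLib.smul_mem ℬ (J.X _).gr hc hz, map_smul _ _ _⟩⟩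
  haveI : SetLike.GradedSMul 𝒯 (F.Hgr mT (p + q + 1 + 1 + 1)) := ⟨fun {e g c v} hc hv => by
    obtain ⟨z, hz, rfl⟩ := hv
    exact ⟨c • z, GrInjLib.smul_mem 𝒯 (F.X _).gr hc hz, map_smul _ _ _⟩⟩
  obtain ⟨Φ, hΦ⟩ := exists_isSegreMod_top H I J hP F (a := p) (b := q) hMv hNv
  have hV : ∀ d, ∀ v ∈ J.Hgr mS (q + 1 + 1) d, (∀ c ∈ ℬ (b - d), c • v = 0) → v = 0 := fun d v hv h => by
    by_contra hne
    obtain ⟨-, c, hc, hcv⟩ := hB2 d v hv hne
    exact hcv (h c hc)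
  have hV0 : ∀ d, b < d → ∀ v ∈ J.Hgr mS (q + 1 + 1) d, v = 0 := fun d hd v hv => by
    by_contra hne
    exact absurd (hB2 d v hv hne).1 (by omega)
  refine ⟨?_, mem_killed_segre_iff H.deg H.hmT hΦ hR (fun d _ => hV d) hV0, fun hab' => ⟨?_, fun i => ?_⟩⟩
  · rw [hdim b, show Module.finrank (GrLC.deg0 ℬ) (J.Hcomp mS (q + 2) b) = 1 from hB1, mul_one]
    have h := hA3 (a - b)
    rwa [sub_sub_cancel] at h
  · subst hab'
    intro d x hx hne
    refine ⟨not_lt.1 fun h => hne (segreMod_eq_zero hΦ (Or.inr (hV0 d h)) hx), ?_⟩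
    by_contra h
    push Not at h
    exact hne (segreMod_eq_zero_of_smul H.deg hΦ (fun u hu h' => by
      by_contra hu0
      obtain ⟨-, c, hc, hcu⟩ := hA2 d u hu hu0
      exact hcu (h' c hc)) (hV d) hx h)
  · subst hab'
    rw [hdim (a - i), hA3 i, hB3 i]
    have e1 : Module.finrank k (𝒯 i) = Module.finrank k ((𝒯 i).map ψ.toLinearMap) :=
      (Submodule.equivMapOfInjective ψ.toLinearMap H.inj _).finrank_eq
    have e2 : GrSeg.segrePiece k 𝒜 ℬ i = box (𝒜 i) (ℬ i) :=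
      le_antisymm (Submodule.span_le.2 fun x hx => by
          obtain ⟨c, hc, c', hc', rfl⟩ := hx
          exact tmul_mem_box hc hc')
        (box_le fun c hc c' hc' => Submodule.subset_span ⟨c, hc, c', hc', rfl⟩)
    rw [e1, H.deg i, e2, finrank_box]

end Segre

end Groth.Agent.GrKunnethLib

namespace Groth.Agent.GrKunnethLib

/-- The dimension of a Segre product of Cohen–Macaulay algebras. -/
theorem ringKrullDim_segre {k R S T : Type u} [Field k] [CommRing R] [CommRing S] [CommRing T] [Algebra k R]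
    [Algebra k S] [Algebra k T] [Algebra.FiniteType k R] [Algebra.FiniteType k S]
    {𝒜 : ℤ → Submodule k R} [GradedAlgebra 𝒜] {ℬ : ℤ → Submodule k S} [GradedAlgebra ℬ]
    {𝒯 : ℤ → Submodule k T} [GradedAlgebra 𝒯] {ψ : T →ₐ[k] R ⊗[k] S}
    (hposR : ∀ n : ℤ, n < 0 → 𝒜 n = ⊥) (h0R : 𝒜 0 = Submodule.span k {(1 : R)})
    (hposS : ∀ n : ℤ, n < 0 → ℬ n = ⊥) (h0S : ℬ 0 = Submodule.span k {(1 : S)})
    (hψ : Function.Injective ψ) (hdegT : ∀ n : ℤ, (𝒯 n).map ψ.toLinearMap = GrSeg.segrePiece k 𝒜 ℬ n)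
    [LocCoh.IsCohenMacaulayRing R] [LocCoh.IsCohenMacaulayRing S] {r s : ℕ}
    (hr : ringKrullDim R = r) (hs : ringKrullDim S = s) (h1r : 1 ≤ r) (h1s : 1 ≤ s) :
    ringKrullDim T = ((r + s - 1 : ℕ) : WithBot ℕ∞) := by
  haveI : Nontrivial R := by
    by_contra h
    rw [not_nontrivial_iff_subsingleton] at h
    rw [ringKrullDim_eq_bot_of_subsingleton] at hr
    simp at hr
  haveI : Nontrivial S := by
    by_contra h
    rw [not_nontrivial_iff_subsingleton] at h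
    rw [ringKrullDim_eq_bot_of_subsingleton] at hs
    simp at hs
  haveI : Nontrivial T := by
    refine ⟨⟨1, 0, fun h => ?_⟩⟩
    have h1 := congrArg ψ h
    rw [map_one, map_zero, Algebra.TensorProduct.one_def] at h1
    haveI : Nontrivial (R ⊗[k] S) :=
      (Algebra.TensorProduct.includeLeft_injective (R := k) (S := k) (A := R) (B := S)
        (algebraMap k S).injective).nontrivial
    exact one_ne_zero h1
  rw [← Module.supportDim_self_eq_ringKrullDim]
  exact supportDim_segre' hposR h0R hposS h0S hψ hdegT (isSegreMod_self hψ hdegT) h1r h1s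
    (by rw [Module.supportDim_self_eq_ringKrullDim, hr]) (by rw [Module.supportDim_self_eq_ringKrullDim, hs])
    ((cmRing_iff R).1 inferInstance) ((cmRing_iff S).1 inferInstance)

end Groth.Agent.GrKunnethLib
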