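import Mathlib
import Groth.Agent.GrKunnethLib.TopIso
import Groth.Agent.GrKunnethLib.TopCanon
import Groth.Agent.GrKunnethLib.Socle

/-!
# Canonical modules as pairings with the top local cohomology
-/

set_option autoImplicit false
set_option linter.style.haveILetI false
set_option linter.unusedSectionVars false
set_option maxHeartbeats 1000000
universe u

open scoped TensorProduct

namespace Groth.Agent.GrKunnethLib

open DirectSum GrInjLib Groth.Agent.GrCoreLib

/-- A pairing of the local cohomology with a graded module which is perfect degree by degree. -/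
structure IsDualPairing {k R : Type u} [Field k] [CommRing R] [Algebra k R]
    {H : Type u} [AddCommGroup H] [Module R H] [Module k H] (ℋ : ℤ → AddSubgroup H)
    {C : Type u} [AddCommGroup C] [Module R C] [Module k C] (𝒞 : ℤ → AddSubgroup C)
    (β : H →ₗ[k] C →ₗ[k] k) : Prop where
  smul : ∀ (r : R) (x : H) (c : C), β (r • x) c = β x (r • c)
  detect : ∀ j, ∀ x ∈ ℋ j, (∀ c ∈ 𝒞 (-j), β x c = 0) → x = 0
  surj : ∀ j, ∀ f : C →ₗ[k] k, ∃ x ∈ ℋ j, ∀ c ∈ 𝒞 (-j), β x c = f c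

/-- The coordinate on the socle of the hull of the residue field. -/
structure IsSocleCoord {k : Type u} [Field k] (R : Type u) [CommRing R] [Algebra k R] {E' : Type u}
    [AddCommGroup E'] [Module R E'] (𝓔 : ℤ → AddSubgroup E') (e1 : E') (σ : E' →+ k) : Prop where
  smul : ∀ (a : k) (y : E'), σ (algebraMap k R a • y) = a * σ y
  injOn : ∀ y ∈ 𝓔 0, σ y = 0 → y = 0
  socle : ∀ a : k, σ (algebraMap k R a • e1) = a

section OneFactor

variable {k R : Type u} [Field k] [CommRing R] [Algebra k R] {𝒜 : ℤ → Submodule k R} [GradedAlgebra 𝒜]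
  [Nontrivial R] [IsNoetherianRing R]
  (hpos : ∀ n : ℤ, n < 0 → 𝒜 n = ⊥) (h0 : 𝒜 0 = Submodule.span k {(1 : R)})
  {m : HomogeneousIdeal 𝒜} (hm : m.toIdeal = Ideal.span (⋃ n ∈ Set.Ioi (0 : ℤ), (𝒜 n : Set R)))
  {E' : Type u} [AddCommGroup E'] [Module R E'] {𝓔 : ℤ → AddSubgroup E'} [Decomposition 𝓔]
  [SetLike.GradedSMul 𝒜 𝓔] {e : (R ⧸ m.toIdeal) →ₗ[R] E'}
  (he : GrLC.IsStarInjHull 𝒜 (GrLC.quotGr 𝒜 m) 𝓔 e)

include hpos h0 hm he in
theorem exists_socleCoord : ∃ σ : E' →+ k, IsSocleCoord R 𝓔 (e (Submodule.Quotient.mk 1)) σ := by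
  classical
  have hpos' : ∀ n : ℤ, n < 0 → ringPieces 𝒜 n = ⊥ := fun n hn =>
    Regrade.pos_of 𝒜 n fun x hx => by rw [hpos n hn] at hx; exact (Submodule.mem_bot k).1 hx
  have h0' : IsField (GrLC.deg0 (ringPieces 𝒜)) := Regrade.isField_deg0 (deg0_isField h0)
  have hmsp : (Regrade.toA m).toIdeal = GrFieldLib.irr (ringPieces 𝒜) := hm
  have he' := Regrade.starInjHull he
  obtain ⟨i, hi⟩ := exists_deg0_equiv h0
  obtain ⟨e1, he1⟩ : ∃ e1, e (Submodule.Quotient.mk 1) = e1 := ⟨_, rfl⟩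
  rw [he1]
  have hline : ∀ y ∈ 𝓔 0, ∃ a : k, algebraMap k R a • e1 = y := by
    intro y hy
    obtain ⟨t, ht⟩ := mem_piece_zero hpos' h0' hmsp he' hy
    refine ⟨i.symm ⟨t.1, t.2⟩, ?_⟩
    rw [← hi, RingEquiv.apply_symm_apply]
    rw [← he1]
    exact ht
  have hinj : ∀ a : k, algebraMap k R a • e1 = 0 → a = 0 := by
    intro a ha
    rw [← he1] at ha
    have h := GrFieldLib.Dual.smul_socle_inj hpos' h0' hmsp he'
      ⟨algebraMap k R a, SetLike.algebraMap_mem_graded 𝒜 a⟩ ha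
    exact (algebraMap k R).injective ((congrArg Subtype.val h).trans (map_zero _).symm)
  have hproj : ∀ (a : k) (y : E'), proj 𝓔 0 (algebraMap k R a • y) = algebraMap k R a • proj 𝓔 0 y := by
    intro a y
    have h := proj_smul 𝒜 𝓔 (SetLike.algebraMap_mem_graded 𝒜 a) y 0
    rwa [zero_add] at h
  obtain ⟨σ, hσ⟩ : ∃ σ : E' → k, ∀ y, algebraMap k R (σ y) • e1 = proj 𝓔 0 y :=
    Classical.axiom_of_choice fun y : E' => hline (proj 𝓔 0 y) (proj_mem 𝓔 0 y)
  have huniq : ∀ (y : E') (a : k), algebraMap k R a • e1 = proj 𝓔 0 y → σ y = a := by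
    intro y a h
    refine sub_eq_zero.1 (hinj (σ y - a) ?_)
    rw [map_sub, sub_smul, hσ y, h, sub_self]
  have he10 : e1 ∈ 𝓔 0 := by
    rw [← he1]
    exact he.grHom 0 (Submodule.Quotient.mk 1) ⟨1, SetLike.one_mem_graded 𝒜, rfl⟩
  refine ⟨AddMonoidHom.mk' σ fun y z => huniq _ _ (by rw [map_add, add_smul, hσ, hσ, map_add]),
    fun a y => huniq _ _ ?_, fun y hy h => ?_, fun a => huniq _ _ ?_⟩
  · rw [map_mul, mul_smul, hproj, AddMonoidHom.mk'_apply, hσ]
  · rw [← proj_of_mem 𝓔 hy, ← hσ y, show σ y = 0 from h, map_zero, zero_smul]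
  · rw [hproj, proj_of_mem 𝓔 he10]

variable {C : Type u} [AddCommGroup C] [Module R C] [Module k C] [IsScalarTower k R C]
  {𝒞 : ℤ → AddSubgroup C} [Decomposition 𝒞] [SetLike.GradedSMul 𝒜 𝒞]

include hpos h0 hm he in
/-- Every functional on a piece is a homogeneous map into the hull. -/
theorem exists_hom_of_functional [Module.Finite R C] {σ : E' →+ k}
    (hσ : IsSocleCoord R 𝓔 (e (Submodule.Quotient.mk 1)) σ) (j : ℤ) (f : C →ₗ[k] k) :
    ∃ h : C →ₗ[R] E', GrLC.IsGrHomDeg 𝒞 𝓔 h j ∧ ∀ c ∈ 𝒞 (-j), σ (h c) = f c := by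
  classical
  have hpos' : ∀ n : ℤ, n < 0 → ringPieces 𝒜 n = ⊥ := fun n hn =>
    Regrade.pos_of 𝒜 n fun x hx => by rw [hpos n hn] at hx; exact (Submodule.mem_bot k).1 hx
  have h0' : IsField (GrLC.deg0 (ringPieces 𝒜)) := Regrade.isField_deg0 (deg0_isField h0)
  have hmsp : (Regrade.toA m).toIdeal = GrFieldLib.irr (ringPieces 𝒜) := hm
  have he' := Regrade.starInjHull he
  obtain ⟨i, hi⟩ := exists_deg0_equiv h0
  letI : Field (GrLC.deg0 (ringPieces 𝒜)) := h0'.toField
  let P := piecePairing (C := C) (𝒞 := 𝒞) hpos' h0' hmsp he' (-j)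
  let Pe := LinearEquiv.ofBijective P (piecePairing_bijective 𝒞 hpos' h0' hmsp he' (-j))
  let f' : GrLC.comp (ringPieces 𝒜) 𝒞 (-j) →ₗ[GrLC.deg0 (ringPieces 𝒜)] GrLC.deg0 (ringPieces 𝒜) :=
    { toFun := fun c => ⟨algebraMap k R (f c.1), SetLike.algebraMap_mem_graded 𝒜 _⟩
      map_add' := fun c c' => Subtype.ext (by
        show algebraMap k R (f (c.1 + c'.1)) = algebraMap k R (f c.1) + algebraMap k R (f c'.1)
        rw [map_add, map_add])
      map_smul' := fun b c => Subtype.ext (by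
        show algebraMap k R (f ((b : R) • c.1)) = (b : R) * algebraMap k R (f c.1)
        obtain ⟨a, ha⟩ := i.surjective ⟨b.1, b.2⟩
        have hb : (b : R) = algebraMap k R a := (congrArg Subtype.val ha).symm.trans (hi a)
        rw [hb, algebraMap_smul, map_smul, smul_eq_mul, map_mul]) }
  haveI : IsNoetherian (GrLC.deg0 (ringPieces 𝒜)) (GrLC.comp (ringPieces 𝒜) 𝒞 (-j)) :=
    isNoetherian_comp (ringPieces 𝒜) 𝒞 (-j)
  haveI : Module.Finite (GrLC.deg0 (ringPieces 𝒜))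
      (Module.Dual (GrLC.deg0 (ringPieces 𝒜)) (GrLC.homDeg (ringPieces 𝒜) 𝒞 𝓔 (- -j))) :=
    Module.Finite.equiv Pe
  haveI : Module.Finite (GrLC.deg0 (ringPieces 𝒜)) (GrLC.homDeg (ringPieces 𝒜) 𝒞 𝓔 (- -j)) :=
    Module.Finite.of_injective (Module.Dual.eval _ _) (Module.eval_apply_injective _)
  let h := (Module.evalEquiv (GrLC.deg0 (ringPieces 𝒜)) (GrLC.homDeg (ringPieces 𝒜) 𝒞 𝓔 (- -j))).symm
    (f' ∘ₗ Pe.symm.toLinearMap)
  refine ⟨h.1, fun g c hc => by simpa using h.2 g c hc, fun c hc => ?_⟩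
  have h1 : P ⟨c, hc⟩ h = f' ⟨c, hc⟩ := by
    show (Pe ⟨c, hc⟩) h = _
    rw [Module.apply_evalEquiv_symm_apply, LinearMap.comp_apply, LinearEquiv.coe_coe, Pe.symm_apply_apply]
  have h2 : h.1 c = algebraMap k R (f c) • e (Submodule.Quotient.mk 1) :=
    congrArg Subtype.val ((LinearEquiv.symm_apply_eq (socleEquiv hpos' h0' hmsp he')).1 h1)
  rw [h2, hσ.socle]

include hpos h0 hm he in
/-- A canonical module pairs perfectly with the top local cohomology. -/
theorem exists_dualPairing {r : ℕ} {I : GrLC.StarInjRes 𝒜 𝒜} (hC : GrLC.IsStarCanonical 𝒜 𝒞 𝓔 m r I)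
    [Module k (I.H m r)] [IsScalarTower k R (I.H m r)] :
    ∃ β : I.H m r →ₗ[k] C →ₗ[k] k, IsDualPairing (R := R) (I.Hgr m r) 𝒞 β := by
  classical
  have hpos' : ∀ n : ℤ, n < 0 → ringPieces 𝒜 n = ⊥ := fun n hn =>
    Regrade.pos_of 𝒜 n fun x hx => by rw [hpos n hn] at hx; exact (Submodule.mem_bot k).1 hx
  have hmsp : (Regrade.toA m).toIdeal = GrFieldLib.irr (ringPieces 𝒜) := hm
  have he' := Regrade.starInjHull he
  obtain ⟨hfin, Φ, hΦ⟩ := Regrade.starCanonical hC
  haveI : Module.Finite R C := hfin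
  obtain ⟨σ, hσ⟩ := exists_socleCoord hpos h0 hm he
  let Ψ : I.H m r ≃ₗ[R] (C →ₗ[R] E') := Φ.symm
  have hΨ : ∀ j, ∀ x ∈ I.Hgr m r j, GrLC.IsGrHomDeg 𝒞 𝓔 (Ψ x) j := fun j x hx =>
    exists_homDeg_of_mem (H_isInternal (Regrade.ringRes I) (Regrade.toA m) r) Φ hΦ hx
  refine ⟨LinearMap.mk₂ k (fun x c => σ (Ψ x c)) (fun x x' c => ?_) (fun a x c => ?_) (fun x c c' => ?_)
    (fun a x c => ?_), ⟨fun r x c => ?_, fun j x hx hc => ?_, fun j f => ?_⟩⟩
  · rw [map_add, LinearMap.add_apply, map_add]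
  · rw [← algebraMap_smul R a x, map_smul, LinearMap.smul_apply, hσ.smul, smul_eq_mul]
  · rw [map_add, map_add]
  · rw [← algebraMap_smul R a c, map_smul, hσ.smul, smul_eq_mul]
  · show σ (Ψ (r • x) c) = σ (Ψ x (r • c))
    rw [map_smul Ψ, LinearMap.smul_apply, (Ψ x).map_smul]
  · refine Ψ.map_eq_zero_iff.1 (GrFieldLib.Dual.eq_zero_of_piece hpos' hmsp he' (hΨ j x hx) fun c hc' => ?_)
    refine hσ.injOn _ ?_ (hc c hc')
    simpa using hΨ j x hx (-j) c hc'
  · obtain ⟨h, hh, hv⟩ := exists_hom_of_functional (𝒞 := 𝒞) hpos h0 hm he hσ j f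
    refine ⟨Φ h, hΦ j h hh, fun c hc => ?_⟩
    show σ (Φ.symm (Φ h) c) = f c
    rw [LinearEquiv.symm_apply_apply, hv c hc]

include hpos h0 hm he in
/-- A perfect pairing with the top local cohomology makes a canonical module. -/
theorem isStarCanonical_of_pairing [Module.Finite R C] {r : ℕ} {I : GrLC.StarInjRes 𝒜 𝒜}
    [Module k (I.H m r)] [IsScalarTower k R (I.H m r)] {β : I.H m r →ₗ[k] C →ₗ[k] k}
    (hβ : IsDualPairing (R := R) (I.Hgr m r) 𝒞 β) : GrLC.IsStarCanonical 𝒜 𝒞 𝓔 m r I := by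
  classical
  have hpos' : ∀ n : ℤ, n < 0 → ringPieces 𝒜 n = ⊥ := fun n hn =>
    Regrade.pos_of 𝒜 n fun x hx => by rw [hpos n hn] at hx; exact (Submodule.mem_bot k).1 hx
  have hmsp : (Regrade.toA m).toIdeal = GrFieldLib.irr (ringPieces 𝒜) := hm
  have he' := Regrade.starInjHull he
  obtain ⟨σ, hσ⟩ := exists_socleCoord hpos h0 hm he
  letI : Decomposition (I.Hgr m r) :=
    (H_isInternal (Regrade.ringRes I) (Regrade.toA m) r).chooseDecomposition
  have hsmulH : ∀ {a j : ℤ} {t : R} {x : I.H m r}, t ∈ 𝒜 a → x ∈ I.Hgr m r j → t • x ∈ I.Hgr m r (a + j) := by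
    intro a j t x ht hx
    obtain ⟨z, hz, rfl⟩ := hx
    exact ⟨t • z, GrInjLib.smul_mem 𝒜 (I.X r).gr ht hz, map_smul _ _ _⟩
  choose h hhdeg hhval using fun (j : ℤ) (x : I.Hgr m r j) =>
    exists_hom_of_functional (𝒞 := 𝒞) hpos h0 hm he hσ j (β (x : I.H m r))
  have huniq : ∀ (j : ℤ) (g : C →ₗ[R] E'), GrLC.IsGrHomDeg 𝒞 𝓔 g j →
      (∀ c ∈ 𝒞 (-j), σ (g c) = 0) → g = 0 := fun j g hg hz =>
    GrFieldLib.Dual.eq_zero_of_piece hpos' hmsp he' hg fun c hc =>
      hσ.injOn _ (by simpa using hg (-j) c hc) (hz c hc)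
  have hext : ∀ (j : ℤ) (g g' : C →ₗ[R] E'), GrLC.IsGrHomDeg 𝒞 𝓔 g j → GrLC.IsGrHomDeg 𝒞 𝓔 g' j →
      (∀ c ∈ 𝒞 (-j), σ (g c) = σ (g' c)) → g = g' := fun j g g' hg hg' hz =>
    sub_eq_zero.1 (huniq j (g - g') (fun d c hc => sub_mem (hg d c hc) (hg' d c hc))
      fun c hc => by rw [LinearMap.sub_apply, map_sub, hz c hc, sub_self])
  let Lj : ∀ j, I.Hgr m r j →+ (C →ₗ[R] E') := fun j =>
    AddMonoidHom.mk' (h j) fun x y => hext j _ _ (hhdeg j _)
      (fun d c hc => add_mem (hhdeg j x d c hc) (hhdeg j y d c hc)) fun c hc => by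
        rw [LinearMap.add_apply, map_add, hhval j _ c hc, hhval j _ c hc, hhval j _ c hc, AddSubgroup.coe_add,
          map_add, LinearMap.add_apply]
  let L₀ : I.H m r →+ (C →ₗ[R] E') :=
    (DirectSum.toAddMonoid Lj).comp (decomposeAddEquiv (I.Hgr m r)).toAddMonoidHom
  have hL : ∀ (j : ℤ) (x : I.H m r) (hx : x ∈ I.Hgr m r j), L₀ x = h j ⟨x, hx⟩ := by
    intro j x hx
    show DirectSum.toAddMonoid Lj (decompose (I.Hgr m r) x) = _
    rw [decompose_of_mem _ hx, DirectSum.toAddMonoid_of]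
    rfl
  have hLsmul : ∀ (t : R) (x : I.H m r), L₀ (t • x) = t • L₀ x := by
    intro t x
    induction t using DirectSum.Decomposition.inductionOn 𝒜 with
    | zero => simp
    | add u v hu hv => simp only [add_smul, map_add, hu, hv]
    | @homogeneous a t =>
      induction x using DirectSum.Decomposition.inductionOn (I.Hgr m r) with
      | zero => simp
      | add u v hu hv => simp only [smul_add, map_add, hu, hv]
      | @homogeneous j x =>
        rw [hL (a + j) _ (hsmulH t.2 x.2), hL j _ x.2]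
        refine hext (a + j) _ _ (hhdeg _ _) (fun d c hc => ?_) fun c hc => ?_
        · have := GrInjLib.smul_mem 𝒜 𝓔 t.2 (hhdeg j x d c hc)
          rwa [show a + (d + j) = d + (a + j) by ring] at this
        · have htc : (t : R) • c ∈ 𝒞 (-j) := by
            have := GrInjLib.smul_mem 𝒜 𝒞 t.2 hc
            rwa [show a + -(a + j) = -j by ring] at this
          rw [hhval (a + j) _ c hc, LinearMap.smul_apply, ← map_smul, hhval j x _ htc]
          exact hβ.smul _ _ _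
  let L : I.H m r →ₗ[R] (C →ₗ[R] E') := { toFun := L₀, map_add' := map_add L₀, map_smul' := hLsmul }
  have hcomp : ∀ (x : I.H m r) (g j : ℤ), ∀ c ∈ 𝒞 g,
      proj 𝓔 (g + j) (L x c) = h j (decompose (I.Hgr m r) x j) c := by
    intro x g j c hc
    induction x using DirectSum.Decomposition.inductionOn (I.Hgr m r) with
    | zero =>
      rw [map_zero, LinearMap.zero_apply, map_zero, decompose_zero, DirectSum.zero_apply,
        show h j 0 = 0 from map_zero (Lj j)]
      rfl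
    | add u v hu hv =>
      rw [map_add, LinearMap.add_apply, map_add, hu, hv, decompose_add, DirectSum.add_apply,
        show h j _ = _ from map_add (Lj j) _ _, LinearMap.add_apply]
      rfl
    | @homogeneous i u =>
      show proj 𝓔 (g + j) (L₀ u c) = _
      rw [hL i _ u.2]
      by_cases hij : i = j
      · subst hij
        rw [proj_of_mem 𝓔 (hhdeg i _ g c hc), decompose_coe, DirectSum.of_eq_same]
      · rw [proj_of_mem_ne 𝓔 (hhdeg i _ g c hc) (by omega), decompose_coe,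
          DirectSum.of_eq_of_ne _ _ _ (Ne.symm hij), show h j 0 = 0 from map_zero (Lj j)]
        rfl
  have hinj : Function.Injective L := by
    refine (injective_iff_map_eq_zero L).2 fun x hx => eq_zero_of_proj (I.Hgr m r) x fun j => ?_
    refine hβ.detect j _ (proj_mem _ j x) fun c hc => ?_
    rw [proj_apply, ← hhval j (decompose (I.Hgr m r) x j) c hc, ← hcomp x (-j) j c hc, hx,
      LinearMap.zero_apply, map_zero, map_zero]
  have hsurj' : ∀ (j : ℤ) (g : C →ₗ[R] E'), GrLC.IsGrHomDeg 𝒞 𝓔 g j → ∃ x ∈ I.Hgr m r j, L x = g := by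
    intro j g hg
    let f : C →ₗ[k] k :=
      { toFun := fun c => σ (g c)
        map_add' := fun c c' => by rw [map_add, map_add]
        map_smul' := fun a c => by rw [RingHom.id_apply, ← algebraMap_smul R a c, map_smul, hσ.smul, smul_eq_mul] }
    obtain ⟨x, hx, hxv⟩ := hβ.surj j f
    refine ⟨x, hx, (hL j x hx).trans (hext j _ _ (hhdeg _ _) hg fun c hc => ?_)⟩
    rw [hhval j ⟨x, hx⟩ c hc]
    exact hxv c hc
  have hsurj : Function.Surjective L := by
    intro g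
    obtain ⟨S, hS⟩ := exists_sum_parts (ringPieces 𝒜) 𝒞 𝓔 g
    choose x hx hxg using fun j => hsurj' j _ (degPart_deg (ringPieces 𝒜) 𝒞 𝓔 g j)
    exact ⟨∑ j ∈ S, x j, by rw [map_sum, hS]; exact Finset.sum_congr rfl fun j _ => hxg j⟩
  refine ⟨inferInstance, (LinearEquiv.ofBijective L ⟨hinj, hsurj⟩).symm, fun j g hg => ?_⟩
  obtain ⟨x, hx, rfl⟩ := hsurj' j g hg
  show (LinearEquiv.ofBijective L ⟨hinj, hsurj⟩).symm (L x) ∈ _
  rwa [show (LinearEquiv.ofBijective L ⟨hinj, hsurj⟩).symm (L x) = x from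
    (LinearEquiv.ofBijective L ⟨hinj, hsurj⟩).symm_apply_apply x]

end OneFactor

section Segre

variable {k R S T : Type u} [Field k] [CommRing R] [CommRing S] [CommRing T] [Algebra k R]
  [Algebra k S] [Algebra k T] {𝒜 : ℤ → Submodule k R} [GradedAlgebra 𝒜] {ℬ : ℤ → Submodule k S}
  [GradedAlgebra ℬ] {ψ : T →ₐ[k] R ⊗[k] S}
  {U : Type u} [AddCommGroup U] [Module R U] [Module k U] [IsScalarTower k R U]
  {𝒰 : ℤ → AddSubgroup U} [Decomposition 𝒰] [SetLike.GradedSMul 𝒜 𝒰]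
  {V : Type u} [AddCommGroup V] [Module S V] [Module k V] [IsScalarTower k S V]
  {𝒱 : ℤ → AddSubgroup V} [Decomposition 𝒱] [SetLike.GradedSMul ℬ 𝒱]
  {X : Type u} [AddCommGroup X] [Module T X] [Module k X] [IsScalarTower k T X]
  {𝒳 : ℤ → AddSubgroup X} [Decomposition 𝒳] {Φ : X →ₗ[k] U ⊗[k] V}
  {C : Type u} [AddCommGroup C] [Module R C] [Module k C] [IsScalarTower k R C]
  {𝒞 : ℤ → AddSubgroup C} [Decomposition 𝒞] [SetLike.GradedSMul 𝒜 𝒞]
  {D : Type u} [AddCommGroup D] [Module S D] [Module k D] [IsScalarTower k S D]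
  {𝒟 : ℤ → AddSubgroup D} [Decomposition 𝒟] [SetLike.GradedSMul ℬ 𝒟]
  {P : Type u} [AddCommGroup P] [Module T P] [Module k P] [IsScalarTower k T P]
  {𝒬 : ℤ → AddSubgroup P} [Decomposition 𝒬] {φ : P →ₗ[k] C ⊗[k] D}

/-- Segre products of modules in duality are in duality. -/
theorem exists_dualPairing_segre {β : U →ₗ[k] C →ₗ[k] k} (hβ : IsDualPairing (R := R) 𝒰 𝒞 β)
    {β' : V →ₗ[k] D →ₗ[k] k} (hβ' : IsDualPairing (R := S) 𝒱 𝒟 β')
    (hΦ : GrSeg.IsSegreMod ψ 𝒰 𝒱 𝒳 Φ) (hφ : GrSeg.IsSegreMod ψ 𝒞 𝒟 𝒬 φ)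
    (hC : ∀ g, FiniteDimensional k (piece 𝒜 𝒞 g)) (hD : ∀ g, FiniteDimensional k (piece ℬ 𝒟 g)) :
    ∃ γ : X →ₗ[k] P →ₗ[k] k, IsDualPairing (R := T) 𝒳 𝒬 γ := by
  classical
  let μ : U ⊗[k] V →ₗ[k] C ⊗[k] D →ₗ[k] k := (TensorProduct.map₂ β β').compr₂ (LinearMap.mul' k k)
  have hμ : ∀ u v c d, μ (u ⊗ₜ[k] v) (c ⊗ₜ[k] d) = β u c * β' v d := fun u v c d => by
    simp [μ, TensorProduct.map₂_apply_tmul]
  have hμact : ∀ (z : R ⊗[k] S) (w : U ⊗[k] V) (v : C ⊗[k] D),
      μ (GrSeg.act k R S U V z w) v = μ w (GrSeg.act k R S C D z v) := by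
    intro z w v
    induction z using TensorProduct.induction_on with
    | zero => simp
    | add a b ha hb => simp only [map_add, LinearMap.add_apply, ha, hb]
    | tmul r s =>
      induction w using TensorProduct.induction_on with
      | zero => simp
      | add a b ha hb => simp only [map_add, LinearMap.add_apply, ha, hb]
      | tmul u u' =>
        induction v using TensorProduct.induction_on with
        | zero => simp
        | add a b ha hb => simp only [map_add, ha, hb]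
        | tmul c d => rw [GrSeg.act_tmul, GrSeg.act_tmul, hμ, hμ, hβ.smul, hβ'.smul]
  let γ : X →ₗ[k] P →ₗ[k] k := μ.compl₁₂ Φ φ
  have hγ : ∀ x p, γ x p = μ (Φ x) (φ p) := fun x p => rfl
  refine ⟨γ, ⟨fun t x p => by rw [hγ, hγ, hΦ.map_smul, hφ.map_smul, hμact], fun j x hx hxc => ?_,
    fun j f => ?_⟩⟩
  · obtain ⟨w, hw⟩ : Φ x ∈ LinearMap.range
        (TensorProduct.map (piece 𝒜 𝒰 j).subtype (piece ℬ 𝒱 j).subtype) :=
      (segrePiece_eq_range 𝒰 𝒱 j (piece 𝒜 𝒰 j) (piece ℬ 𝒱 j) (fun _ => Iff.rfl) fun _ => Iff.rfl) ▸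
        (hΦ.image_piece j).subset ⟨x, hx, rfl⟩
    have hw0 : w = 0 := eq_zero_of_joint
      (fun c : piece 𝒜 𝒞 (-j) => (β.flip (c : C)) ∘ₗ (piece 𝒜 𝒰 j).subtype)
      (fun d : piece ℬ 𝒟 (-j) => (β'.flip (d : D)) ∘ₗ (piece ℬ 𝒱 j).subtype)
      (fun u hu => Subtype.ext (hβ.detect j u u.2 fun c hc => hu ⟨c, hc⟩))
      (fun v hv => Subtype.ext (hβ'.detect j v v.2 fun d hd => hv ⟨d, hd⟩)) w fun c d => by
        obtain ⟨p, hp, hpe⟩ := (hφ.image_piece (-j)).superset
          (Submodule.subset_span ⟨(c : C), c.2, (d : D), d.2, rfl⟩)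
        have h1 := hxc p hp
        rw [hγ, hpe, ← hw] at h1
        apply (TensorProduct.lid k k).injective
        rw [map_zero]
        refine Eq.trans ?_ h1
        clear hw h1
        induction w using TensorProduct.induction_on with
        | zero => simp
        | add a b ha hb => simp only [map_add, LinearMap.add_apply, ha, hb]
        | tmul u v =>
          simp only [TensorProduct.map_tmul, Submodule.subtype_apply, hμ]
          simp
    refine hΦ.injective ?_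
    rw [← hw, hw0, map_zero, map_zero]
  · haveI := hC (-j)
    haveI := hD (-j)
    let A := piece 𝒜 𝒞 (-j)
    let B := piece ℬ 𝒟 (-j)
    obtain ⟨g, hg⟩ := LinearMap.exists_leftInverse_of_injective φ (LinearMap.ker_eq_bot.2 hφ.injective)
    let F : C ⊗[k] D →ₗ[k] k := f ∘ₗ g
    let bA := Module.finBasis k A
    let bB := Module.finBasis k B
    obtain ⟨pA, hpA, hpA'⟩ := exists_proj A
    obtain ⟨pB, hpB, hpB'⟩ := exists_proj B
    choose x hx hxv using fun i => hβ.surj j (bA.coord i ∘ₗ pA.codRestrict A hpA)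
    choose y hy hyv using fun i => hβ'.surj j (bB.coord i ∘ₗ pB.codRestrict B hpB)
    have hwmem : (∑ i, ∑ l, F ((bA i : C) ⊗ₜ[k] (bB l : D)) • (x i ⊗ₜ[k] y l)) ∈
        GrSeg.segrePiece k 𝒰 𝒱 j :=
      Submodule.sum_mem _ fun i _ => Submodule.sum_mem _ fun l _ =>
        Submodule.smul_mem _ _ (Submodule.subset_span ⟨_, hx i, _, hy l, rfl⟩)
    obtain ⟨z, hz, hze⟩ := (hΦ.image_piece j).superset hwmem
    refine ⟨z, hz, fun p hp => ?_⟩
    have h1 : φ p ∈ GrSeg.segrePiece k 𝒞 𝒟 (-j) := (hφ.image_piece (-j)).subset ⟨p, hp, rfl⟩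
    have h2 : ∀ v ∈ GrSeg.segrePiece k 𝒞 𝒟 (-j),
        μ (∑ i, ∑ l, F ((bA i : C) ⊗ₜ[k] (bB l : D)) • (x i ⊗ₜ[k] y l)) v = F v := by
      intro v hv
      induction hv using Submodule.span_induction with
      | mem v hv =>
        obtain ⟨c, hc, d, hd, rfl⟩ := hv
        simp only [map_sum, map_smul, LinearMap.sum_apply, LinearMap.smul_apply, hμ]
        have e1 : ∀ i, β (x i) c = bA.repr ⟨c, hc⟩ i := fun i => by
          rw [hxv i c hc, LinearMap.comp_apply, Module.Basis.coord_apply]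
          congr 2
          exact Subtype.ext (hpA' c hc)
        have e2 : ∀ l, β' (y l) d = bB.repr ⟨d, hd⟩ l := fun l => by
          rw [hyv l d hd, LinearMap.comp_apply, Module.Basis.coord_apply]
          congr 2
          exact Subtype.ext (hpB' d hd)
        conv_rhs => rw [show c = ∑ i, bA.repr ⟨c, hc⟩ i • (bA i : C) from by
            conv_lhs => rw [show c = ((⟨c, hc⟩ : A) : C) from rfl, ← bA.sum_repr ⟨c, hc⟩]
            rw [Submodule.coe_sum]
            rfl,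
          show d = ∑ l, bB.repr ⟨d, hd⟩ l • (bB l : D) from by
            conv_lhs => rw [show d = ((⟨d, hd⟩ : B) : D) from rfl, ← bB.sum_repr ⟨d, hd⟩]
            rw [Submodule.coe_sum]
            rfl]
        rw [TensorProduct.sum_tmul, map_sum]
        refine Finset.sum_congr rfl fun i _ => ?_
        rw [TensorProduct.tmul_sum, map_sum]
        refine Finset.sum_congr rfl fun l _ => ?_
        rw [e1, e2, TensorProduct.smul_tmul_smul, map_smul, smul_eq_mul, smul_eq_mul]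
        ring
      | zero => simp
      | add a b _ _ ha hb => simp only [map_add, ha, hb]
      | smul c a _ ha => simp only [map_smul, ha]
    rw [hγ, hze, h2 _ h1]
    show f (g (φ p)) = f p
    rw [← LinearMap.comp_apply g φ, hg, LinearMap.id_apply]

end Segre

end Groth.Agent.GrKunnethLib
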