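import Mathlib
import Groth.Agent.GrKunnethLib.RingCM
import Groth.Agent.GrFieldLib.Top

/-!
# One-dimensional standard graded algebras with negative a-invariant
-/

set_option autoImplicit false
set_option linter.style.haveILetI false
set_option linter.unusedSectionVars false
universe u

namespace Groth.Agent.GrKunnethLib

open DirectSum GrInjLib

variable {k R : Type u} [Field k] [CommRing R] [Algebra k R] {𝒜 : ℤ → Submodule k R} [GradedAlgebra 𝒜]
  (hpos : ∀ n : ℤ, n < 0 → 𝒜 n = ⊥) (h0 : 𝒜 0 = Submodule.span k {(1 : R)}) [Algebra.FiniteType k R]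
  (hr : ringKrullDim R = 1) [LocCoh.IsCohenMacaulayRing R]

include hr in
theorem nontrivial_of_dim : Nontrivial R := by
  by_contra h
  rw [not_nontrivial_iff_subsingleton] at h
  rw [ringKrullDim_eq_bot_of_subsingleton] at hr
  simp at hr

include hpos h0 hr in
/-- The irrelevant ideal is the radical of a regular element of positive degree. -/
theorem irr_le_radical {x : R} (hx : IsSMulRegular R x) {D : ℤ} (hD : 0 < D) (hxD : x ∈ 𝒜 D) :
    GrSegreLib.irr 𝒜 ≤ (Ideal.span {x}).radical := by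
  haveI := nontrivial_of_dim hr
  haveI := GrSegreLib.irr_isMaximal 𝒜 hpos h0
  have h1 := ringKrullDim_quotient_succ_le_of_nonZeroDivisor
    (show x ∈ nonZeroDivisors R from mem_nonZeroDivisors_iff_right.2 fun z hz =>
      hx (show x • z = x • 0 by rw [smul_zero, smul_eq_mul, mul_comm]; exact hz))
  rw [hr] at h1
  have h2 : Ring.KrullDimLE 0 (R ⧸ Ideal.span {x}) := by
    refine (Order.krullDimLE_iff 0 _).2 ?_
    show ringKrullDim (R ⧸ Ideal.span {x}) ≤ 0
    generalize ringKrullDim (R ⧸ Ideal.span {x}) = y at h1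
    induction y using WithBot.recBotCoe with
    | bot => exact bot_le
    | coe a =>
      rw [← WithBot.coe_one, ← WithBot.coe_add, WithBot.coe_le_coe] at h1
      rw [← WithBot.coe_zero, WithBot.coe_le_coe]
      exact (ENat.add_le_add_iff_right ENat.one_ne_top).1 (h1.trans_eq (zero_add 1).symm)
  rw [← Ideal.sInf_minimalPrimes]
  refine le_sInf fun q hq => ?_
  haveI := hq.1.1
  have hqhom : q.IsHomogeneous 𝒜 := GrSegreLib.minimalPrimes_homogeneous 𝒜
    (Ideal.homogeneous_span 𝒜 _ (by rintro _ rfl; exact ⟨D, hxD⟩)) hq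
  haveI : (q.map (Ideal.Quotient.mk (Ideal.span {x}))).IsPrime :=
    Ideal.map_isPrime_of_surjective Ideal.Quotient.mk_surjective (by rw [Ideal.mk_ker]; exact hq.1.2)
  have hmax : (q.map (Ideal.Quotient.mk (Ideal.span {x}))).IsMaximal := Ideal.IsPrime.isMaximal' inferInstance
  have hqmax : q.IsMaximal := by
    have h3 : (q.map (Ideal.Quotient.mk (Ideal.span {x}))).comap (Ideal.Quotient.mk (Ideal.span {x})) = q := by
      rw [Ideal.comap_map_of_surjective _ Ideal.Quotient.mk_surjective, ← RingHom.ker_eq_comap_bot, Ideal.mk_ker,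
        sup_eq_left.2 hq.1.2]
    exact h3 ▸ Ideal.comap_isMaximal_of_surjective _ Ideal.Quotient.mk_surjective
  exact (hqmax.eq_of_le (Ideal.IsMaximal.ne_top inferInstance) (GrSegreLib.le_irr 𝒜 hpos h0 hqhom hqmax.ne_top)).ge

include hpos h0 hr in
/-- There is a regular element of positive degree. -/
theorem exists_regular_mem {mR : HomogeneousIdeal 𝒜}
    (hmR : mR.toIdeal = Ideal.span (⋃ n ∈ Set.Ioi (0 : ℤ), (𝒜 n : Set R))) (I : GrLC.StarInjRes 𝒜 𝒜) :
    ∃ (D : ℤ) (x : R), 0 < D ∧ x ∈ 𝒜 D ∧ IsSMulRegular R x := by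
  classical
  haveI := nontrivial_of_dim hr
  haveI : IsNoetherianRing R := Algebra.FiniteType.isNoetherianRing k R
  have hI := irr_smul_top_ne hpos h0 hmR (P := R) (𝒬 := 𝒜)
  have hdep : (1 : ℕ∞) ≤ LocCoh.idealDepth mR.toIdeal R := by
    refine (natCast_le_idealDepth_iff_H hI 1).2 fun i hi => (subsingleton_locCoh_iff I mR i).2 fun g => ?_
    exact Hcomp_eq_bot_of_cm hpos h0 I hmR (r := 1)
      (by rw [Module.supportDim_self_eq_ringKrullDim, hr]; rfl) ((cmRing_iff R).1 inferInstance) i (by omega) g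
  obtain ⟨rs, hlen, hmem, hreg⟩ := (Depth.le_idealDepth_iff hI 1).1 (by exact_mod_cast hdep)
  obtain ⟨y, rfl⟩ := List.length_eq_one_iff.1 hlen
  have hy : IsSMulRegular R y := ((RingTheory.Sequence.isWeaklyRegular_cons_iff R y []).1 hreg).1
  have hfin := associatedPrimes.finite R R
  let s : Finset (Ideal R) := hfin.toFinset.image fun p => (p.homogeneousCore 𝒜).toIdeal
  have hs : ∀ q ∈ s, q.IsPrime := fun q hq => by
    obtain ⟨p, hp, rfl⟩ := Finset.mem_image.1 hq
    exact Ideal.IsPrime.homogeneousCore (hfin.mem_toFinset.1 hp).isPrime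
  have hhom : ∀ q ∈ s, q.IsHomogeneous 𝒜 := fun q hq => by
    obtain ⟨p, -, rfl⟩ := Finset.mem_image.1 hq
    exact (p.homogeneousCore 𝒜).isHomogeneous
  have hirr : ∀ q ∈ s, ¬ GrSegreLib.irr 𝒜 ≤ q := fun q hq hle => by
    obtain ⟨p, hp, rfl⟩ := Finset.mem_image.1 hq
    obtain ⟨hpp, z, hz⟩ := isAssociatedPrime_iff.1 (hfin.mem_toFinset.1 hp)
    have hyp : y ∈ p := (hle.trans (Ideal.toIdeal_homogeneousCore_le 𝒜 p))
      (by rw [← show mR.toIdeal = GrSegreLib.irr 𝒜 from hmR]; exact hmem y (by simp))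
    rw [hz, Submodule.mem_colon_singleton, Submodule.mem_bot] at hyp
    have hz0 : z = 0 := hy (show y • z = y • 0 by rw [smul_zero]; exact hyp)
    exact hpp.ne_top (by rw [hz, hz0]; simp)
  obtain ⟨D, x, hD, hxD, hx⟩ := GrSegreLib.exists_homogeneous_avoiding 𝒜 hpos s hs hhom hirr
  refine ⟨D, x, hD, hxD, ?_⟩
  rw [isSMulRegular_iff_right_eq_zero_of_smul]
  intro z hz
  by_contra hz0
  obtain ⟨p, hp, hzp⟩ := exists_le_isAssociatedPrime_of_isNoetherianRing (R := R) z hz0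
  have hxp : x ∈ p := hzp (by rw [Submodule.mem_colon_singleton, Submodule.mem_bot]; exact hz)
  exact hx _ (Finset.mem_image.2 ⟨p, hfin.mem_toFinset.2 hp, rfl⟩)
    (Ideal.mem_homogeneousCore_of_homogeneous_of_mem ⟨D, hxD⟩ hxp)

include hpos h0 hr in
/-- The a-invariant is negative exactly when a regular element divides everything from its degree on. -/
theorem H1_vanish_iff {mR : HomogeneousIdeal 𝒜}
    (hmR : mR.toIdeal = Ideal.span (⋃ n ∈ Set.Ioi (0 : ℤ), (𝒜 n : Set R))) (I : GrLC.StarInjRes 𝒜 𝒜)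
    {x : R} (hreg : IsSMulRegular R x) {D : ℤ} (hD : 0 < D) (hxD : x ∈ 𝒜 D) :
    (∀ g : ℤ, 0 ≤ g → I.Hcomp mR 1 g = ⊥) ↔ ∀ g : ℤ, D ≤ g → ∀ z ∈ 𝒜 g, ∃ w, x * w = z := by
  haveI := nontrivial_of_dim hr
  haveI : IsNoetherianRing R := Algebra.FiniteType.isNoetherianRing k R
  haveI : Module.Finite R (addG 𝒜 𝒜).carrier := inferInstanceAs (Module.Finite R R)
  let M : GrLC.GMod.{u} 𝒜 := addG 𝒜 𝒜
  have hf : GrLC.IsGrHomDeg M.gr M.gr (x • (LinearMap.id : M.carrier →ₗ[R] M.carrier)) D := fun b z hz => by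
    show x • (show R from z) ∈ 𝒜 (b + D)
    rw [smul_eq_mul]
    rw [add_comm]
    exact SetLike.GradedMul.mul_mem (A := 𝒜) hxD hz
  have hR := range_homogeneous M.gr M.gr hf
  let N := quotG 𝒜 M.gr hR
  have htor : GrLC.gam mR.toIdeal N.carrier = ⊤ := by
    obtain ⟨e, he⟩ := Ideal.exists_pow_le_of_le_radical_of_fg (irr_le_radical hpos h0 hr hreg hD hxD)
      (IsNoetherian.noetherian _)
    rw [eq_top_iff]
    intro y _
    obtain ⟨z, rfl⟩ := quotMk_surjective 𝒜 M.gr hR y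
    refine ⟨e, fun t ht => ?_⟩
    rw [hmR] at ht
    obtain ⟨c, hc⟩ := Ideal.mem_span_singleton'.1 (he ht)
    rw [← map_smul, ← LinearMap.mem_ker, ker_quotMk]
    refine ⟨c • z, ?_⟩
    show x • c • z = t • z
    rw [← hc, smul_smul, mul_comm]
  have hM : ∀ i, i < 0 + 1 → ∀ g, Van mR M i g := fun i hi g => (van_iff I mR i g).2
    (Hcomp_eq_bot_of_cm hpos h0 I hmR (r := 1) (by rw [Module.supportDim_self_eq_ringKrullDim, hr]; rfl)
      ((cmRing_iff R).1 inferInstance) i (by omega) g)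
  have key := GrFieldLib.van_quot_end (m := mR) hxD (M := M) (N := N) hreg (quotMk_surjective 𝒜 M.gr hR)
    (quotMk_grHom 𝒜 M.gr hR) (ker_quotMk 𝒜 M.gr hR) hD hmR
    (fun m hm z hz => by rw [hpos m hm] at hz; exact (Submodule.mem_bot k).1 hz) hM (D - 1)
  have hN : ∀ g, Van mR N 0 g ↔ ∀ z ∈ 𝒜 g, ∃ w, x * w = z := fun g => by
    rw [GrFieldLib.van_zero_torsion_iff htor g]
    constructor
    · intro h z hz
      have h1 : quotMk 𝒜 M.gr hR z = 0 := h _ (quotMk_grHom 𝒜 M.gr hR g z hz)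
      rw [← LinearMap.mem_ker, ker_quotMk] at h1
      exact h1
    · rintro h y ⟨z, hz, rfl⟩
      show quotMk 𝒜 M.gr hR z = 0
      rw [← LinearMap.mem_ker, ker_quotMk]
      exact h z hz
  constructor
  · intro h g hg
    exact (hN g).1 (key.2 (fun n hn => (van_iff I mR 1 n).2 (h n (by omega))) g (by omega))
  · intro h g hg
    exact (van_iff I mR 1 g).1 (key.1 (fun n hn => (hN n).2 (h n (by omega))) g (by omega))

include hpos h0 hr in
/-- With negative a-invariant every degree is a line spanned by a power of one linear form. -/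
theorem exists_line
    (hstd : Ideal.span (⋃ n ∈ Set.Ioi (0 : ℤ), (𝒜 n : Set R)) = Ideal.span ((𝒜 1 : Submodule k R) : Set R))
    {mR : HomogeneousIdeal 𝒜} (hmR : mR.toIdeal = Ideal.span (⋃ n ∈ Set.Ioi (0 : ℤ), (𝒜 n : Set R)))
    (I : GrLC.StarInjRes 𝒜 𝒜) (h : ∀ g : ℤ, 0 ≤ g → I.Hcomp mR 1 g = ⊥) :
    ∃ y ∈ 𝒜 1, (∀ n : ℕ, y ^ n ≠ 0) ∧ (∀ n : ℕ, ∀ z ∈ 𝒜 (n : ℤ), ∃ c : k, z = c • y ^ n) ∧
      Function.Bijective (Polynomial.aeval (R := k) y) := by
  classical
  haveI := nontrivial_of_dim hr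
  haveI := GrSegreLib.irr_isMaximal 𝒜 hpos h0
  have hcomp0 : ∀ r : R, ∃ c : k, (decompose 𝒜 r 0 : R) = c • 1 := fun r => by
    have h : (decompose 𝒜 r 0 : R) ∈ Submodule.span k {(1 : R)} := h0 ▸ (decompose 𝒜 r 0).2
    obtain ⟨c, hc⟩ := Submodule.mem_span_singleton.1 h
    exact ⟨c, hc.symm⟩
  -- components of multiples of a homogeneous element
  have hmul : ∀ {d : ℤ} {a : R}, a ∈ 𝒜 d → ∀ (n : ℤ) (w : R), (decompose 𝒜 (a * w) n : R) = a * decompose 𝒜 w (n - d) := by
    intro d a ha n w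
    have := coe_decompose_mul_add_of_left_mem 𝒜 (b := w) (j := n - d) ha
    rwa [add_sub_cancel] at this
  obtain ⟨D, x, hD, hxD, hreg⟩ := exists_regular_mem hpos h0 hr hmR I
  have hdiv := (H1_vanish_iff hpos h0 hr hmR I hreg hD hxD).1 h
  obtain ⟨D, rfl⟩ := Int.eq_ofNat_of_zero_le hD.le
  have hline : ∀ z ∈ 𝒜 (D : ℤ), ∃ c : k, z = c • x := by
    intro z hz
    obtain ⟨w, hw⟩ := hdiv _ le_rfl z hz
    obtain ⟨c, hc⟩ := hcomp0 w
    refine ⟨c, ?_⟩
    have h1 := hmul hxD D w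
    rw [hw, decompose_of_mem_same 𝒜 hz, sub_self, hc, Algebra.mul_smul_comm, mul_one] at h1
    exact h1
  -- a regular linear form
  obtain ⟨y, hy, hyreg⟩ : ∃ y ∈ 𝒜 1, IsSMulRegular R y := by
    by_contra hcon
    push Not at hcon
    have hirr : GrSegreLib.irr 𝒜 ≤ nilradical R := by
      rw [show GrSegreLib.irr 𝒜 = _ from hstd, Ideal.span_le]
      intro y hy
      refine ⟨D, ?_⟩
      have h1 := SetLike.pow_mem_graded D (show y ∈ 𝒜 1 from hy)
      rw [nsmul_eq_mul, mul_one] at h1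
      obtain ⟨c, hc⟩ := hline _ h1
      rcases eq_or_ne c 0 with rfl | hc0
      · rw [hc, zero_smul]
        exact Submodule.zero_mem _
      exfalso
      refine hcon y hy (IsSMulRegular.of_mul (a := y ^ (D - 1)) ?_)
      rw [← pow_succ, Nat.sub_add_cancel (by omega), hc, isSMulRegular_iff_right_eq_zero_of_smul]
      intro z hz
      rw [smul_eq_mul, Algebra.smul_mul_assoc, smul_eq_zero] at hz
      exact hreg (show x • z = x • 0 by rw [smul_zero]; exact hz.resolve_left hc0)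
    have hxnil : IsNilpotent x := hirr (GrSegreLib.mem_irr_of_mem 𝒜 hD hxD)
    obtain ⟨e, he⟩ := hxnil
    exact one_ne_zero ((hreg.pow e) (show (x ^ e) • (1 : R) = (x ^ e) • 0 by simp [he]))
  have hpow : ∀ n : ℕ, y ^ n ∈ 𝒜 (n : ℤ) := fun n => by
    have h1 := SetLike.pow_mem_graded n (show y ∈ 𝒜 1 from hy)
    rwa [nsmul_eq_mul, mul_one] at h1
  have hpowreg : ∀ n : ℕ, y ^ n ≠ 0 := fun n h0n => by
    exact one_ne_zero ((hyreg.pow n) (show (y ^ n) • (1 : R) = (y ^ n) • 0 by simp [h0n]))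
  -- `R₁` is a line
  have hone : ∀ z ∈ 𝒜 1, ∃ c : k, z = c • y := by
    intro z hz
    obtain ⟨e, he⟩ : ∃ e, D = e + 1 := ⟨D - 1, by omega⟩
    have h1 : y ^ e * z ∈ 𝒜 (D : ℤ) := by
      have := SetLike.GradedMul.mul_mem (A := 𝒜) (hpow e) hz
      rwa [show (e : ℤ) + 1 = (D : ℤ) by omega] at this
    obtain ⟨a, ha⟩ := hline _ h1
    obtain ⟨b, hb⟩ := hline _ (hpow D)
    have hb0 : b ≠ 0 := fun h => hpowreg D (by rw [hb, h, zero_smul])
    refine ⟨a * b⁻¹, (hyreg.pow e) (show y ^ e * z = y ^ e * ((a * b⁻¹) • y) from ?_)⟩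
    rw [ha, Algebra.mul_smul_comm, ← pow_succ, ← he, hb, smul_smul, inv_mul_cancel_right₀ hb0]
  have hspan : ∀ n : ℕ, ∀ z ∈ 𝒜 (n : ℤ), ∃ c : k, z = c • y ^ n := by
    intro n
    induction n with
    | zero =>
      intro z hz
      simp only [Nat.cast_zero] at hz
      obtain ⟨c, hc⟩ := hcomp0 z
      rw [decompose_of_mem_same 𝒜 hz] at hc
      exact ⟨c, by rw [pow_zero, hc]⟩
    | succ n ih =>
      intro z hz
      have hzi : z ∈ Ideal.span ({y} : Set R) := by
        have h1 : z ∈ GrSegreLib.irr 𝒜 := GrSegreLib.mem_irr_of_mem 𝒜 (by push_cast; omega) hz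
        rw [show GrSegreLib.irr 𝒜 = _ from hstd] at h1
        refine Ideal.span_le.2 (fun t ht => ?_) h1
        obtain ⟨c, rfl⟩ := hone t ht
        exact Submodule.smul_of_tower_mem _ c (Ideal.mem_span_singleton_self y)
      obtain ⟨w, hw⟩ := Ideal.mem_span_singleton'.1 hzi
      have h1 := hmul hy ((n + 1 : ℕ) : ℤ) w
      rw [mul_comm y w, hw, decompose_of_mem_same 𝒜 hz,
        show ((n + 1 : ℕ) : ℤ) - 1 = (n : ℤ) by push_cast; ring] at h1
      obtain ⟨c, hc⟩ := ih _ (decompose 𝒜 w (n : ℤ)).2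
      exact ⟨c, by rw [h1, hc, pow_succ', Algebra.mul_smul_comm]⟩
  refine ⟨y, hy, hpowreg, hspan, ⟨(injective_iff_map_eq_zero _).2 fun p hp => ?_, fun r => ?_⟩⟩
  · ext n
    let π : R →+ R :=
      { toFun := fun r => (decompose 𝒜 r (n : ℤ) : R)
        map_zero' := by simp
        map_add' := fun r r' => by simp }
    have h1 : π (∑ j ∈ Finset.range (p.natDegree + 1), p.coeff j • y ^ j) = 0 := by
      rw [← Polynomial.aeval_eq_sum_range, hp, map_zero]
    rw [map_sum] at h1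
    simp only [π, AddMonoidHom.coe_mk, ZeroHom.coe_mk] at h1
    rw [Polynomial.coeff_zero]
    by_cases hn : n ∈ Finset.range (p.natDegree + 1)
    · rw [Finset.sum_eq_single n (fun j _ hj => decompose_of_mem_ne 𝒜 (Submodule.smul_mem _ _ (hpow j))
        (by exact_mod_cast hj)) (fun h => absurd hn h),
        decompose_of_mem_same 𝒜 (Submodule.smul_mem _ _ (hpow n)), smul_eq_zero] at h1
      exact h1.resolve_right (hpowreg n)
    · exact Polynomial.coeff_eq_zero_of_natDegree_lt (by simpa using hn)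
  · show r ∈ (Polynomial.aeval (R := k) y).range
    rw [← sum_support_decompose 𝒜 r]
    refine Subalgebra.sum_mem _ fun g _ => ?_
    rcases lt_or_ge g 0 with hg | hg
    · have h1 := (decompose 𝒜 r g).2
      simp only [hpos g hg, Submodule.mem_bot] at h1
      rw [h1]
      exact zero_mem _
    · obtain ⟨g, rfl⟩ := Int.eq_ofNat_of_zero_le hg
      obtain ⟨c, hc⟩ := hspan g _ (decompose 𝒜 r (g : ℤ)).2
      exact ⟨c • Polynomial.X ^ g, by simp [hc]⟩

include hpos h0 hr in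
/-- Negative a-invariant characterises the polynomial ring. -/
theorem H1_vanish_iff_polynomial
    (hstd : Ideal.span (⋃ n ∈ Set.Ioi (0 : ℤ), (𝒜 n : Set R)) = Ideal.span ((𝒜 1 : Submodule k R) : Set R))
    {mR : HomogeneousIdeal 𝒜} (hmR : mR.toIdeal = Ideal.span (⋃ n ∈ Set.Ioi (0 : ℤ), (𝒜 n : Set R)))
    (I : GrLC.StarInjRes 𝒜 𝒜) :
    (∀ g : ℤ, 0 ≤ g → I.Hcomp mR 1 g = ⊥) ↔ Nonempty (R ≃ₐ[k] Polynomial k) := by
  classical
  haveI := nontrivial_of_dim hr
  haveI := GrSegreLib.irr_isMaximal 𝒜 hpos h0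
  have hcomp0 : ∀ r : R, ∃ c : k, (decompose 𝒜 r 0 : R) = c • 1 := fun r => by
    have h : (decompose 𝒜 r 0 : R) ∈ Submodule.span k {(1 : R)} := h0 ▸ (decompose 𝒜 r 0).2
    obtain ⟨c, hc⟩ := Submodule.mem_span_singleton.1 h
    exact ⟨c, hc.symm⟩
  -- components of multiples of a homogeneous element
  have hmul : ∀ {d : ℤ} {a : R}, a ∈ 𝒜 d → ∀ (n : ℤ) (w : R), (decompose 𝒜 (a * w) n : R) = a * decompose 𝒜 w (n - d) := by
    intro d a ha n w
    have := coe_decompose_mul_add_of_left_mem 𝒜 (b := w) (j := n - d) ha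
    rwa [add_sub_cancel] at this
  constructor
  · intro h
    obtain ⟨y, -, -, -, hbij⟩ := exists_line hpos h0 hr hstd hmR I h
    exact ⟨(AlgEquiv.ofBijective (Polynomial.aeval y) hbij).symm⟩
  · rintro ⟨e⟩
    haveI : IsDomain R := e.toRingEquiv.toMulEquiv.isDomain (Polynomial k)
    haveI : IsPrincipalIdealRing R := IsPrincipalIdealRing.of_surjective e.symm.toRingEquiv.toRingHom e.symm.surjective
    obtain ⟨a, ha⟩ : ∃ a, GrSegreLib.irr 𝒜 = Ideal.span {a} :=
      ⟨_, (Ideal.span_singleton_generator (GrSegreLib.irr 𝒜)).symm⟩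
    set a₁ : R := (decompose 𝒜 a 1 : R) with ha₁
    have haneg : ∀ i : ℤ, i < 1 → (decompose 𝒜 a i : R) = 0 := by
      intro i hi
      have h1 := (decompose 𝒜 a i).2
      rcases lt_or_ge i 0 with hi0 | hi0
      · simp only [hpos i hi0, Submodule.mem_bot] at h1
        exact h1
      · obtain rfl : i = 0 := by omega
        by_contra hne
        have hmem : (decompose 𝒜 a 0 : R) ∈ GrSegreLib.irr 𝒜 :=
          GrSegreLib.irr_homogeneous 𝒜 0 (ha ▸ Ideal.mem_span_singleton_self a)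
        obtain ⟨c, hc⟩ := hcomp0 a
        rw [hc] at hne hmem
        have hc0 : c ≠ 0 := fun h => hne (by rw [h, zero_smul])
        exact Ideal.IsPrime.ne_top (I := GrSegreLib.irr 𝒜) inferInstance ((Ideal.eq_top_iff_one _).2 (by
          simpa [smul_smul, inv_mul_cancel₀ hc0] using Submodule.smul_of_tower_mem (GrSegreLib.irr 𝒜) c⁻¹ hmem))
    have hR1 : ∀ z ∈ 𝒜 1, z ∈ Ideal.span ({a₁} : Set R) := by
      intro z hz
      have hzi : z ∈ GrSegreLib.irr 𝒜 := GrSegreLib.mem_irr_of_mem 𝒜 one_pos hz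
      rw [ha, Ideal.mem_span_singleton'] at hzi
      obtain ⟨r, hr'⟩ := hzi
      have h1 : z = (decompose 𝒜 (r * a) 1 : R) := by rw [hr', decompose_of_mem_same 𝒜 hz]
      rw [h1, ← sum_support_decompose 𝒜 r, Finset.sum_mul, decompose_sum, DirectSum.sum_apply, AddSubmonoidClass.coe_finsetSum]
      refine Ideal.sum_mem _ fun i _ => ?_
      rw [hmul (decompose 𝒜 r i).2 1 a]
      rcases lt_trichotomy i 0 with hi | rfl | hi
      · have h2 := (decompose 𝒜 r i).2
        simp only [hpos i hi, Submodule.mem_bot] at h2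
        rw [h2, zero_mul]
        exact zero_mem _
      · rw [sub_zero]
        exact Ideal.mul_mem_left _ _ (Ideal.mem_span_singleton_self a₁)
      · rw [haneg _ (by omega), mul_zero]
        exact zero_mem _
    have hirr : GrSegreLib.irr 𝒜 = Ideal.span {a₁} := le_antisymm
      (by rw [show GrSegreLib.irr 𝒜 = _ from hstd, Ideal.span_le]; exact hR1)
      ((Ideal.span_singleton_le_iff_mem _).2 (GrSegreLib.mem_irr_of_mem 𝒜 one_pos (decompose 𝒜 a 1).2))
    have ha₁0 : a₁ ≠ 0 := fun h => by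
      rw [h, Ideal.span_singleton_zero] at hirr
      haveI : Ring.KrullDimLE 0 R := Ring.krullDimLE_zero_iff.2 fun p hp => by
        have h2 : (⊥ : Ideal R).IsMaximal := hirr ▸ (inferInstance : (GrSegreLib.irr 𝒜).IsMaximal)
        rw [← h2.eq_of_le hp.ne_top bot_le]
        exact h2
      have h0' : ringKrullDim R ≤ 0 := Order.krullDimLE_iff 0 _ |>.1 inferInstance
      rw [hr] at h0'
      exact absurd h0' (by decide)
    refine (H1_vanish_iff hpos h0 hr hmR I (x := a₁)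
      (isSMulRegular_iff_right_eq_zero_of_smul.2 fun z hz => (mul_eq_zero.1 hz).resolve_left ha₁0)
      one_pos (decompose 𝒜 a 1).2).2 fun g hg z hz => ?_
    obtain ⟨w, hw⟩ := Ideal.mem_span_singleton'.1 (hirr ▸ GrSegreLib.mem_irr_of_mem 𝒜 (by omega) hz)
    exact ⟨w, by rw [mul_comm, hw]⟩

end Groth.Agent.GrKunnethLib
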