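import Mathlib
import Groth.Agent.GrKunnethLib.Socle
import Groth.Agent.GrKunnethLib.DimOne
import Groth.Agent.GorLib.CM
import Groth.Agent.GorLib.Ring

/-!
# Gorenstein Segre products of one-dimensional algebras
-/

set_option autoImplicit false
set_option linter.style.haveILetI false
set_option linter.unusedSectionVars false
set_option maxHeartbeats 1000000
universe u

open scoped TensorProduct

namespace Groth.Agent.GrKunnethLib

open DirectSum GrInjLib Groth.Agent.GrCoreLib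

section OneFactor

variable {k R : Type u} [Field k] [CommRing R] [Algebra k R] {𝒜 : ℤ → Submodule k R} [GradedAlgebra 𝒜]
  [Algebra.FiniteType k R] [LocCoh.IsCohenMacaulayRing R]
  (hpos : ∀ n : ℤ, n < 0 → 𝒜 n = ⊥) (h0 : 𝒜 0 = Submodule.span k {(1 : R)})
  (hr : ringKrullDim R = 1)
  (hstd : Ideal.span (⋃ n ∈ Set.Ioi (0 : ℤ), (𝒜 n : Set R)) = Ideal.span ((𝒜 1 : Submodule k R) : Set R))
  {mR : HomogeneousIdeal 𝒜} (hmR : mR.toIdeal = Ideal.span (⋃ n ∈ Set.Ioi (0 : ℤ), (𝒜 n : Set R)))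
  (I : GrLC.StarInjRes 𝒜 𝒜)

include hpos h0 hr hstd hmR in
/-- A degree which is a line forces negative a-invariant. -/
theorem vanish_of_finrank_one {c : ℤ} (hc : 0 ≤ c) (hline : Module.finrank k (𝒜 c) = 1)
    (htop : ∀ g, c ≤ g → I.Hcomp mR 1 g = ⊥) : ∀ g : ℤ, 0 ≤ g → I.Hcomp mR 1 g = ⊥ := by
  classical
  rcases eq_or_lt_of_le hc with rfl | hc'
  · exact htop
  haveI := nontrivial_of_dim hr
  haveI : IsNoetherianRing R := Algebra.FiniteType.isNoetherianRing k R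
  obtain ⟨c, rfl⟩ := Int.eq_ofNat_of_zero_le hc
  obtain ⟨⟨v, hv⟩, hv0, hvs⟩ := finrank_eq_one_iff'.1 hline
  obtain ⟨D, x, hD, hxD, hxreg⟩ := exists_regular_mem hpos h0 hr hmR I
  obtain ⟨D, rfl⟩ := Int.eq_ofNat_of_zero_le hD.le
  have hstd' : GrFieldLib.irr (ringPieces 𝒜) =
      Ideal.span ((ringPieces 𝒜 1 : AddSubgroup R) : Set R) := hstd
  have hdivv : ∀ r ∈ 𝒜 (c : ℤ), ∃ a : k, r = a • v := fun r hr' => by
    obtain ⟨a, ha⟩ := hvs ⟨r, hr'⟩
    exact ⟨a, (congrArg Subtype.val ha).symm⟩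
  have hreg : IsSMulRegular R v := by
    refine isSMulRegular_iff_right_eq_zero_of_smul.2 fun z hz => ?_
    have hk : ∀ r ∈ ringPieces 𝒜 (c : ℤ), r • z = 0 := fun r hr' => by
      obtain ⟨a, rfl⟩ := hdivv r hr'
      rw [smul_assoc, hz, smul_zero]
    have h1 : x ^ c ∈ ringPieces 𝒜 ((c * D : ℕ) : ℤ) := by
      have h := SetLike.pow_mem_graded c hxD
      rwa [nsmul_eq_mul, ← Nat.cast_mul] at h
    refine (hxreg.pow c) (show x ^ c • z = x ^ c • 0 from ?_)
    rw [smul_zero]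
    exact smul_eq_zero_of_std hstd' z c hk (c * D) (Nat.le_mul_of_pos_right c (by omega)) _ h1
  refine (H1_vanish_iff hpos h0 hr hmR I hreg hc' hv).2 fun g hg z hz => ?_
  obtain ⟨g, rfl⟩ := Int.eq_ofNat_of_zero_le (hc.trans hg)
  have h := smul_eq_zero_of_std hstd' (Submodule.Quotient.mk (1 : R) : R ⧸ Ideal.span {v}) c
    (fun r hr' => by
      obtain ⟨a, rfl⟩ := hdivv r hr'
      rw [← Submodule.Quotient.mk_smul, Submodule.Quotient.mk_eq_zero, smul_eq_mul, mul_one]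
      exact Submodule.smul_of_tower_mem _ a (Ideal.mem_span_singleton_self v))
    g (by omega) z hz
  rw [← Submodule.Quotient.mk_smul, Submodule.Quotient.mk_eq_zero, smul_eq_mul, mul_one] at h
  obtain ⟨w, hw⟩ := Ideal.mem_span_singleton'.1 h
  exact ⟨w, by rw [mul_comm, hw]⟩

end OneFactor

section Segre

variable {k R S T : Type u} [Field k] [CommRing R] [CommRing S] [CommRing T] [Algebra k R]
  [Algebra k S] [Algebra k T]
  {𝒜 : ℤ → Submodule k R} [GradedAlgebra 𝒜] {ℬ : ℤ → Submodule k S} [GradedAlgebra ℬ]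
  {𝒯 : ℤ → Submodule k T} [GradedAlgebra 𝒯] {ψ : T →ₐ[k] R ⊗[k] S}

/-- Segre product with a polynomial ring in one variable. -/
theorem exists_equiv_of_line (hposR : ∀ n : ℤ, n < 0 → 𝒜 n = ⊥) (hψ : Function.Injective ψ)
    (hdegT : ∀ n : ℤ, (𝒯 n).map ψ.toLinearMap = GrSeg.segrePiece k 𝒜 ℬ n)
    {y : S} (hy : y ∈ ℬ 1) (hspan : ∀ n : ℕ, ∀ z ∈ ℬ (n : ℤ), ∃ c : k, z = c • y ^ n)
    (hbij : Function.Bijective (Polynomial.aeval (R := k) y)) : Nonempty (T ≃ₐ[k] R) := by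
  classical
  let ev : S →ₐ[k] k := (Polynomial.aeval (1 : k)).comp
    (AlgEquiv.ofBijective (Polynomial.aeval y) hbij).symm.toAlgHom
  have hev : ∀ n : ℕ, ev (y ^ n) = 1 := fun n => by
    have h1 : (AlgEquiv.ofBijective (Polynomial.aeval y) hbij).symm (y ^ n) = Polynomial.X ^ n := by
      rw [AlgEquiv.symm_apply_eq]
      simp
    simp [ev, h1]
  let π : R ⊗[k] S →ₐ[k] R :=
    (Algebra.TensorProduct.rid k k R).toAlgHom.comp (Algebra.TensorProduct.map (AlgHom.id k R) ev)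
  have hπ : ∀ (a : R) (b : S), π (a ⊗ₜ[k] b) = ev b • a := fun a b => by simp [π]
  let f : T →ₐ[k] R := π.comp ψ
  -- the pieces
  have hpc : ∀ (g : ℤ), ∀ w ∈ GrSeg.segrePiece k 𝒜 ℬ g, π w ∈ 𝒜 g ∧ (π w = 0 → w = 0) := by
    intro g w hw
    rcases lt_or_ge g 0 with hg | hg
    · have h0 : w = 0 := by
        refine (Submodule.mem_bot k).1 ((Submodule.span_le.2 ?_ : GrSeg.segrePiece k 𝒜 ℬ g ≤ ⊥) hw)
        rintro _ ⟨a, ha, b, -, rfl⟩
        rw [(Submodule.mem_bot k).1 ((hposR g hg).le ha), TensorProduct.zero_tmul]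
        exact zero_mem _
      rw [h0, map_zero]
      exact ⟨zero_mem _, fun _ => rfl⟩
    · obtain ⟨g, rfl⟩ := Int.eq_ofNat_of_zero_le hg
      obtain ⟨a, ha, rfl⟩ : ∃ a ∈ 𝒜 (g : ℤ), a ⊗ₜ[k] (y ^ g) = w := by
        induction hw using Submodule.span_induction with
        | mem x hx =>
          obtain ⟨a, ha, b, hb, rfl⟩ := hx
          obtain ⟨c, rfl⟩ := hspan g b hb
          exact ⟨c • a, Submodule.smul_mem _ c ha, by rw [TensorProduct.smul_tmul]⟩
        | zero => exact ⟨0, zero_mem _, TensorProduct.zero_tmul _ _⟩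
        | add u v _ _ hu hv =>
          obtain ⟨a, ha, rfl⟩ := hu
          obtain ⟨a', ha', rfl⟩ := hv
          exact ⟨a + a', add_mem ha ha', TensorProduct.add_tmul _ _ _⟩
        | smul c u _ hu =>
          obtain ⟨a, ha, rfl⟩ := hu
          exact ⟨c • a, Submodule.smul_mem _ c ha, (TensorProduct.smul_tmul' c a _).symm⟩
      rw [hπ, hev, one_smul]
      exact ⟨ha, fun h => by rw [h, TensorProduct.zero_tmul]⟩
  have hfg : ∀ g, ∀ t ∈ 𝒯 g, f t ∈ 𝒜 g ∧ (f t = 0 → t = 0) := fun g t ht => by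
    obtain ⟨h1, h2⟩ := hpc g (ψ t) ((hdegT g).le ⟨t, ht, rfl⟩)
    exact ⟨h1, fun h => hψ ((h2 h).trans (map_zero ψ).symm)⟩
  have hdec : ∀ (t : T) (g : ℤ), (decompose 𝒜 (f t) g : R) = f (decompose 𝒯 t g : T) := by
    intro t g
    induction t using DirectSum.Decomposition.inductionOn 𝒯 with
    | zero => simp
    | add u v hu hv => simp only [map_add, decompose_add, DirectSum.add_apply, Submodule.coe_add, hu, hv]
    | @homogeneous i u =>
      by_cases h : i = g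
      · subst h
        rw [decompose_of_mem_same 𝒜 (hfg i u u.2).1, decompose_of_mem_same 𝒯 u.2]
      · rw [decompose_of_mem_ne 𝒜 (hfg i u u.2).1 h, decompose_of_mem_ne 𝒯 u.2 h, map_zero]
  refine ⟨AlgEquiv.ofBijective f ⟨(injective_iff_map_eq_zero f).2 fun t ht => ?_, fun r => ?_⟩⟩
  · rw [← sum_support_decompose 𝒯 t]
    refine Finset.sum_eq_zero fun g _ => (hfg g _ (decompose 𝒯 t g).2).2 ?_
    rw [← hdec, ht, decompose_zero]
    rfl
  · show r ∈ f.range
    rw [← sum_support_decompose 𝒜 r]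
    refine Subalgebra.sum_mem _ fun g _ => ?_
    rcases lt_or_ge g 0 with hg | hg
    · rw [(Submodule.mem_bot k).1 ((hposR g hg).le (decompose 𝒜 r g).2)]
      exact zero_mem _
    · obtain ⟨g, rfl⟩ := Int.eq_ofNat_of_zero_le hg
      have hyg : y ^ g ∈ ℬ (g : ℤ) := by
        have h := SetLike.pow_mem_graded g hy
        rwa [nsmul_eq_mul, mul_one] at h
      obtain ⟨t, -, ht⟩ := (hdegT (g : ℤ)).ge
        (Submodule.subset_span ⟨_, (decompose 𝒜 r (g : ℤ)).2, _, hyg, rfl⟩)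
      refine ⟨t, ?_⟩
      show π (ψ t) = _
      rw [show ψ t = _ from ht, hπ, hev, one_smul]

variable [Algebra.FiniteType k R] [Algebra.FiniteType k S]

/-- A Gorenstein Segre product of one-dimensional standard algebras. -/
theorem polynomial_of_gorenstein (hposR : ∀ n : ℤ, n < 0 → 𝒜 n = ⊥) (h0R : 𝒜 0 = Submodule.span k {(1 : R)})
    (hposS : ∀ n : ℤ, n < 0 → ℬ n = ⊥) (h0S : ℬ 0 = Submodule.span k {(1 : S)})
    (hψ : Function.Injective ψ) (hdegT : ∀ n : ℤ, (𝒯 n).map ψ.toLinearMap = GrSeg.segrePiece k 𝒜 ℬ n)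
    [LocCoh.IsCohenMacaulayRing R] [LocCoh.IsCohenMacaulayRing S]
    (hstdR : Ideal.span (⋃ n ∈ Set.Ioi (0 : ℤ), (𝒜 n : Set R)) = Ideal.span ((𝒜 1 : Submodule k R) : Set R))
    (hstdS : Ideal.span (⋃ n ∈ Set.Ioi (0 : ℤ), (ℬ n : Set S)) = Ideal.span ((ℬ 1 : Submodule k S) : Set S))
    (hr : ringKrullDim R = 1) (hs : ringKrullDim S = 1) (hR : IsEmpty (R ≃ₐ[k] Polynomial k))
    [LocCoh.IsGorensteinRing T] : Nonempty (S ≃ₐ[k] Polynomial k) ∧ LocCoh.IsGorensteinRing R := by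
  classical
  haveI := nontrivial_of_dim hr
  haveI := nontrivial_of_dim hs
  haveI := GrSegreLib.finiteType_segre 𝒜 ℬ 𝒯 ψ hposR h0R hposS h0S hψ hdegT
  haveI : IsNoetherianRing R := Algebra.FiniteType.isNoetherianRing k R
  haveI : IsNoetherianRing S := Algebra.FiniteType.isNoetherianRing k S
  let mR : HomogeneousIdeal 𝒜 := ⟨GrSegreLib.irr 𝒜, GrSegreLib.irr_homogeneous 𝒜⟩
  let mS : HomogeneousIdeal ℬ := ⟨GrSegreLib.irr ℬ, GrSegreLib.irr_homogeneous ℬ⟩
  let mT : HomogeneousIdeal 𝒯 := ⟨GrSegreLib.irr 𝒯, GrSegreLib.irr_homogeneous 𝒯⟩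
  have H : Setting k R S T 𝒜 ℬ 𝒯 ψ mR mS mT := setting_of hposR h0R hposS h0S hψ hdegT rfl rfl rfl
  obtain ⟨hT', h0T⟩ := deg0_segre H h0R h0S
  haveI := hT'
  have hposT := pos_segre hposR hposS hψ hdegT
  obtain ⟨I⟩ := exists_selfRes 𝒜
  obtain ⟨J⟩ := exists_selfRes ℬ
  obtain ⟨F⟩ := exists_selfRes 𝒯
  have hr' : ringKrullDim R = ((1 : ℕ) : WithBot ℕ∞) := by rw [hr, Nat.cast_one]
  have hs' : ringKrullDim S = ((1 : ℕ) : WithBot ℕ∞) := by rw [hs, Nat.cast_one]
  have hT : ringKrullDim T = ((1 : ℕ) : WithBot ℕ∞) :=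
    ringKrullDim_segre hposR h0R hposS h0S hψ hdegT hr' hs' le_rfl le_rfl
  have hMv := Hcomp_eq_bot_of_cm hposR h0R I (mR := mR) rfl (r := 1)
    (by rw [Module.supportDim_self_eq_ringKrullDim, hr']) ((cmRing_iff R).1 inferInstance)
  have hNv := Hcomp_eq_bot_of_cm hposS h0S J (mR := mS) rfl (r := 1)
    (by rw [Module.supportDim_self_eq_ringKrullDim, hs']) ((cmRing_iff S).1 inferInstance)
  obtain ⟨c, -, hone, hd2, -⟩ := gorenstein_data hposT h0T (m := mT) rfl hT F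
  have hform : ∀ d, Module.finrank (GrLC.deg0 𝒯) (F.Hcomp mT 1 d) =
      Module.finrank k (𝒜 d) * Module.finrank (GrLC.deg0 ℬ) (J.Hcomp mS 1 d) +
      Module.finrank (GrLC.deg0 𝒜) (I.Hcomp mR 1 d) * Module.finrank k (ℬ d) +
      Module.finrank (GrLC.deg0 𝒜) (I.Hcomp mR 1 d) * Module.finrank (GrLC.deg0 ℬ) (J.Hcomp mS 1 d) := by
    intro d
    obtain ⟨-, h⟩ := finrank_Hcomp_segre_formula H I J (isSegreMod_self hψ hdegT) hposR h0R hposS h0S F d
      (hMv 0 (by omega) d) (hNv 0 (by omega) d)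
    rw [h 0, finrank_comp_self h0R, finrank_comp_self h0S]
    congr 1
    rw [show 0 + 3 = 3 from rfl, Finset.sum_range_succ, Finset.sum_range_succ, Finset.sum_range_succ,
      Finset.sum_range_zero, hMv 0 (by omega) d, hMv 2 (by omega) d, finrank_bot]
    simp
  have hne : ∀ g : ℤ, 0 ≤ g → 0 < Module.finrank k (𝒜 g) ∧ 0 < Module.finrank k (ℬ g) := by
    intro g hg
    rw [← finrank_comp_self h0R, ← finrank_comp_self h0S, Nat.pos_iff_ne_zero, Nat.pos_iff_ne_zero, Ne, Ne,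
      finrank_comp_eq_zero_iff h0R 𝒜, finrank_comp_eq_zero_iff h0S ℬ]
    exact ⟨fun h => piece_ne_bot hposR h0R hstdR hr.ge g hg ((Submodule.eq_bot_iff _).2 h),
      fun h => piece_ne_bot hposS h0S hstdS hs.ge g hg ((Submodule.eq_bot_iff _).2 h)⟩
  have hup : ∀ d, c < d → Module.finrank (GrLC.deg0 𝒯) (F.Hcomp mT 1 d) = 0 := fun d hd => by
    rw [show F.Hcomp mT 1 d = ⊥ from (Submodule.eq_bot_iff _).2 fun x hx => by
      by_contra hx0
      exact absurd (hd2 d x hx hx0).1 (by omega), finrank_bot]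
  have hnp : ¬ ∀ g : ℤ, 0 ≤ g → I.Hcomp mR 1 g = ⊥ := fun h =>
    hR.false ((H1_vanish_iff_polynomial hposR h0R hr hstdR rfl I).1 h).some
  obtain ⟨g, hg, hgR⟩ : ∃ g : ℤ, 0 ≤ g ∧ I.Hcomp mR 1 g ≠ ⊥ := by
    by_contra hh
    push Not at hh
    exact hnp hh
  have hc : 0 ≤ c := by
    by_contra hlt
    have h := hup g (by omega)
    rw [hform] at h
    have h1 : Module.finrank (GrLC.deg0 𝒜) (I.Hcomp mR 1 g) ≠ 0 := fun h0 =>
      hgR ((finrank_Hcomp_eq_zero_iff hposR h0R I (a := mR) rfl 1 g).1 h0)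
    have := Nat.mul_pos (Nat.pos_of_ne_zero h1) (hne g hg).2
    omega
  have hvanS : ∀ d, c < d → J.Hcomp mS 1 d = ⊥ := fun d hd => by
    refine (finrank_Hcomp_eq_zero_iff hposS h0S J (a := mS) rfl 1 d).1 ?_
    have h := hup d hd
    rw [hform] at h
    by_contra h0
    have := Nat.mul_pos (hne d (by omega)).1 (Nat.pos_of_ne_zero h0)
    omega
  have hvanR : ∀ d, c < d → I.Hcomp mR 1 d = ⊥ := fun d hd => by
    refine (finrank_Hcomp_eq_zero_iff hposR h0R I (a := mR) rfl 1 d).1 ?_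
    have h := hup d hd
    rw [hform] at h
    by_contra h0
    have := Nat.mul_pos (Nat.pos_of_ne_zero h0) (hne d (by omega)).2
    omega
  have h1 := hone
  rw [hform] at h1
  obtain ⟨hA, hB⟩ := hne c hc
  generalize hu : Module.finrank (GrLC.deg0 𝒜) (I.Hcomp mR 1 c) = u at h1
  generalize hv : Module.finrank (GrLC.deg0 ℬ) (J.Hcomp mS 1 c) = v at h1
  rcases Nat.eq_zero_or_pos v with hv0 | hv0
  · subst hv0
    simp only [mul_zero, zero_add, add_zero] at h1
    have hSc := Nat.eq_one_of_mul_eq_one_left h1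
    have hS := vanish_of_finrank_one hposS h0S hs hstdS (mR := mS) rfl J hc hSc fun d hd => by
      rcases eq_or_lt_of_le hd with rfl | hd
      · exact (finrank_Hcomp_eq_zero_iff hposS h0S J (a := mS) rfl 1 c).1 hv
      · exact hvanS d hd
    obtain ⟨y, hy, -, hspan, hbij⟩ := exists_line hposS h0S hs hstdS (mR := mS) rfl J hS
    obtain ⟨e⟩ := exists_equiv_of_line hposR hψ hdegT hy hspan hbij
    exact ⟨⟨(AlgEquiv.ofBijective (Polynomial.aeval y) hbij).symm⟩,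
      GorLib.gorensteinRing_of_ringEquiv e.toRingEquiv inferInstance⟩
  · have hpv := Nat.mul_pos hA hv0
    rcases Nat.eq_zero_or_pos u with hu0 | hu0
    · subst hu0
      simp only [zero_mul, add_zero] at h1
      refine absurd (vanish_of_finrank_one hposR h0R hr hstdR (mR := mR) rfl I hc
        (Nat.eq_one_of_mul_eq_one_right h1) fun d hd => ?_) hnp
      rcases eq_or_lt_of_le hd with rfl | hd
      · exact (finrank_Hcomp_eq_zero_iff hposR h0R I (a := mR) rfl 1 c).1 hu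
      · exact hvanR d hd
    · have := Nat.mul_pos hu0 hv0
      omega

end Segre

end Groth.Agent.GrKunnethLib
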