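import Mathlib
import Groth.Agent.GrKunnethLib.Socle
import Groth.Agent.GorLib.CM

/-!
# The factors of a Gorenstein Segre product
-/

set_option autoImplicit false
set_option linter.style.haveILetI false
set_option linter.unusedSectionVars false
set_option maxHeartbeats 1000000
universe u

open scoped TensorProduct

namespace Groth.Agent.GrKunnethLib

open DirectSum GrInjLib Groth.Agent.GrCoreLib

section Abstract

variable {k R S T : Type u} [Field k] [CommRing R] [CommRing S] [CommRing T] [Algebra k R]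
  [Algebra k S] [Algebra k T] {𝒜 : ℤ → Submodule k R} [GradedAlgebra 𝒜] {ℬ : ℤ → Submodule k S}
  [GradedAlgebra ℬ] {𝒯 : ℤ → Submodule k T} [GradedAlgebra 𝒯] {ψ : T →ₐ[k] R ⊗[k] S}
  {U : Type u} [AddCommGroup U] [Module R U] [Module k U] [IsScalarTower k R U]
  {𝒰 : ℤ → AddSubgroup U}
  {V : Type u} [AddCommGroup V] [Module S V] [Module k V] [IsScalarTower k S V]
  {𝒱 : ℤ → AddSubgroup V}
  {X : Type u} [AddCommGroup X] [Module T X] [Module k X] [IsScalarTower k T X]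
  {𝒳 : ℤ → AddSubgroup X} [Decomposition 𝒳] {Φ : X →ₗ[k] U ⊗[k] V}

/-- A tensor of two nonzero vectors is nonzero. -/
theorem tmul_ne_zero' {x : U} {y : V} (hx : x ≠ 0) (hy : y ≠ 0) : x ⊗ₜ[k] y ≠ 0 := by
  intro h
  obtain ⟨f, hf⟩ := Module.Projective.exists_dual_ne_zero k hy
  have h1 := congrArg ((TensorProduct.rid k U).toLinearMap ∘ₗ TensorProduct.map (LinearMap.id : U →ₗ[k] U) f) h
  simp only [LinearMap.comp_apply, TensorProduct.map_tmul, LinearMap.id_apply, map_zero,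
    LinearEquiv.coe_coe, TensorProduct.rid_tmul] at h1
  exact hx ((smul_eq_zero.1 h1).resolve_left hf)

/-- A nonzero homogeneous element of a Segre module moved to another degree moves both factors. -/
theorem exists_smul_ne_of_segre (hdeg : ∀ n : ℤ, (𝒯 n).map ψ.toLinearMap = GrSeg.segrePiece k 𝒜 ℬ n)
    (hΦ : GrSeg.IsSegreMod ψ 𝒰 𝒱 𝒳 Φ) {d e : ℤ}
    (hX : ∀ w ∈ 𝒳 d, w ≠ 0 → ∃ t ∈ 𝒯 e, t • w ≠ 0) {u : U} (hu : u ∈ 𝒰 d) (hu0 : u ≠ 0) {v : V}
    (hv : v ∈ 𝒱 d) (hv0 : v ≠ 0) : (∃ r ∈ 𝒜 e, r • u ≠ 0) ∧ ∃ s ∈ ℬ e, s • v ≠ 0 := by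
  obtain ⟨w, hw, hwe⟩ := (hΦ.image_piece d).superset (Submodule.subset_span ⟨u, hu, v, hv, rfl⟩)
  have hw0 : w ≠ 0 := fun h => tmul_ne_zero' hu0 hv0 (by rw [← hwe, h, map_zero])
  obtain ⟨t, ht, htw⟩ := hX w hw hw0
  have key : ∀ z ∈ GrSeg.segrePiece k 𝒜 ℬ e, ((∀ r ∈ 𝒜 e, r • u = 0) ∨ ∀ s ∈ ℬ e, s • v = 0) →
      GrSeg.act k R S U V z (u ⊗ₜ[k] v) = 0 := by
    intro z hz h
    induction hz using Submodule.span_induction with
    | mem x hx =>
      obtain ⟨r, hr, s, hs, rfl⟩ := hx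
      rw [GrSeg.act_tmul]
      rcases h with h | h
      · rw [h r hr, TensorProduct.zero_tmul]
      · rw [h s hs, TensorProduct.tmul_zero]
    | zero => rw [map_zero, LinearMap.zero_apply]
    | add x y _ _ hx hy => rw [map_add, LinearMap.add_apply, hx, hy, add_zero]
    | smul c x _ hx => rw [map_smul, LinearMap.smul_apply, hx, smul_zero]
  have hne : ¬ ((∀ r ∈ 𝒜 e, r • u = 0) ∨ ∀ s ∈ ℬ e, s • v = 0) := fun h => htw (hΦ.injective (by
    rw [hΦ.map_smul, hwe, key (ψ t) ((hdeg e).le ⟨t, ht, rfl⟩) h, map_zero]))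
  push Not at hne
  exact hne

end Abstract

section OneFactor

variable {k R : Type u} [Field k] [CommRing R] [Algebra k R] {𝒜 : ℤ → Submodule k R} [GradedAlgebra 𝒜]
  [Nontrivial R] [Algebra.FiniteType k R] [LocCoh.IsCohenMacaulayRing R]
  (hpos : ∀ n : ℤ, n < 0 → 𝒜 n = ⊥) (h0 : 𝒜 0 = Submodule.span k {(1 : R)})
  {m : HomogeneousIdeal 𝒜} (hm : m.toIdeal = Ideal.span (⋃ n ∈ Set.Ioi (0 : ℤ), (𝒜 n : Set R)))
  (hstd : Ideal.span (⋃ n ∈ Set.Ioi (0 : ℤ), (𝒜 n : Set R)) = Ideal.span ((𝒜 1 : Submodule k R) : Set R))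
  {n : ℕ} (hn : ringKrullDim R = n) (h2 : 2 ≤ n) (I : GrLC.StarInjRes 𝒜 𝒜)

include hpos h0 hm hstd hn h2 in
/-- A standard algebra whose top local cohomology is dual to it up to a degree is Gorenstein. -/
theorem gorenstein_of_partial_duality {c : ℤ} (hone : Module.finrank (GrLC.deg0 𝒜) (I.Hcomp m n c) = 1)
    (hneg : ∀ g : ℤ, 0 ≤ g → I.Hcomp m n g = ⊥)
    (hP : ∀ d ≤ c, ∀ x ∈ I.Hgr m n d, x ≠ 0 → ∃ r ∈ 𝒜 (c - d), r • x ≠ 0)
    (hdim : ∀ i, 0 ≤ i → Module.finrank k (𝒜 i) ≤ Module.finrank (GrLC.deg0 𝒜) (I.Hcomp m n (c - i))) :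
    LocCoh.IsGorensteinRing R ∧ GrLC.endDeg (I.Hgr m n) = ((c : WithTop ℤ) : WithBot (WithTop ℤ)) := by
  classical
  haveI : IsNoetherianRing R := Algebra.FiniteType.isNoetherianRing k R
  have hpos' : ∀ n : ℤ, n < 0 → ringPieces 𝒜 n = ⊥ := fun n hn =>
    Regrade.pos_of 𝒜 n fun x hx => by rw [hpos n hn] at hx; exact (Submodule.mem_bot k).1 hx
  have h0' : IsField (GrLC.deg0 (ringPieces 𝒜)) := Regrade.isField_deg0 (deg0_isField h0)
  have hmsp : (Regrade.toA m).toIdeal = GrFieldLib.irr (ringPieces 𝒜) := hm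
  have hm' : GrLC.IsStarLocal (ringPieces 𝒜) (Regrade.toA m) := by
    rw [show Regrade.toA m = irrH (ringPieces 𝒜) from HomogeneousIdeal.toIdeal_injective hmsp]
    exact isStarLocal_irrH hpos' h0'
  letI : Field (GrLC.deg0 (ringPieces 𝒜)) := h0'.toField
  let I' := Regrade.ringRes I
  rw [← finrank_Hcomp_ringRes] at hone
  haveI : Module.Finite (GrLC.deg0 (ringPieces 𝒜)) (I'.Hcomp (Regrade.toA m) n c) :=
    Module.finite_of_finrank_eq_succ hone
  obtain ⟨σ, hσ0, hσ⟩ := finrank_eq_one_iff'.1 hone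
  have hS : ∀ i : ℤ, ∀ φ : GrLC.comp (ringPieces 𝒜) (ringPieces 𝒜) i →ₗ[GrLC.deg0 (ringPieces 𝒜)]
      I'.Hcomp (Regrade.toA m) n c, ∃ y ∈ I'.Hgr (Regrade.toA m) n (c - i),
        ∀ r : GrLC.comp (ringPieces 𝒜) (ringPieces 𝒜) i, (r : R) • y = (φ r).1 := by
    intro i φ
    rcases lt_or_ge i 0 with hi | hi
    · refine ⟨0, zero_mem _, fun r => ?_⟩
      have hr : r = 0 := Subtype.ext ((Submodule.mem_bot k).1 ((hpos i hi).le r.2))
      rw [hr, map_zero]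
      exact smul_zero _
    haveI : IsNoetherian (GrLC.deg0 (ringPieces 𝒜)) (GrLC.comp (ringPieces 𝒜) (ringPieces 𝒜) i) :=
      isNoetherian_comp (ringPieces 𝒜) (ringPieces 𝒜) i
    let H := HMod I' (Regrade.toA m) n
    let P : I'.Hcomp (Regrade.toA m) n (c - i) →ₗ[GrLC.deg0 (ringPieces 𝒜)]
        GrLC.comp (ringPieces 𝒜) (ringPieces 𝒜) i →ₗ[GrLC.deg0 (ringPieces 𝒜)] I'.Hcomp (Regrade.toA m) n c :=
      LinearMap.mk₂ _ (fun x r => ⟨(r : R) • x.1, by
          have h : (r : R) • (x.1 : H.carrier) ∈ H.gr (i + (c - i)) := smul_mem (ringPieces 𝒜) H.gr r.2 x.2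
          rwa [add_sub_cancel] at h⟩)
        (fun x x' r => Subtype.ext (smul_add _ _ _))
        (fun a x r => Subtype.ext (show (r : R) • ((a : R) • x.1) = (a : R) • ((r : R) • x.1) from smul_comm _ _ _))
        (fun x r r' => Subtype.ext (add_smul _ _ _))
        (fun a x r => Subtype.ext (show ((a : R) • (r : R)) • x.1 = (a : R) • ((r : R) • x.1) from smul_assoc _ _ _))
    have hinj : Function.Injective P := by
      refine (injective_iff_map_eq_zero P).2 fun x hx => Subtype.ext ?_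
      by_contra hne
      obtain ⟨r, hr, hrx⟩ := hP (c - i) (by omega) x.1 x.2 hne
      rw [sub_sub_cancel] at hr
      exact hrx (congrArg Subtype.val (LinearMap.congr_fun hx ⟨r, hr⟩))
    haveI : Module.Finite (GrLC.deg0 (ringPieces 𝒜)) (I'.Hcomp (Regrade.toA m) n (c - i)) :=
      Module.Finite.of_injective P hinj
    have hle := LinearMap.finrank_le_finrank_of_injective hinj
    rw [Module.finrank_linearMap, hone, mul_one] at hle
    obtain ⟨x, hx⟩ := (LinearMap.injective_iff_surjective_of_finrank_eq_finrank (by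
      rw [Module.finrank_linearMap, hone, mul_one]
      refine le_antisymm hle ?_
      rw [finrank_Hcomp_ringRes, finrank_comp_ringPieces, finrank_comp_self h0]
      exact hdim i hi)).1 hinj φ
    exact ⟨x.1, x.2, fun r => congrArg Subtype.val (LinearMap.congr_fun hx r)⟩
  obtain ⟨q, hq, hqneg⟩ : ∃ q : ℕ, 0 < q ∧ 0 ≤ c + q := ⟨(-c).toNat + 1, Nat.succ_pos _, by omega⟩
  obtain ⟨hP', hS'⟩ := selfdual_of_veronese (m := Regrade.toA m) hpos' h0' hmsp hstd hn h2 I' hq (a := c)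
    (fun d hdvd x hx hx0 => by
      rcases le_or_gt d c with hd | hd
      · exact hP d hd x hx hx0
      · refine absurd ?_ hx0
        obtain ⟨l, hl⟩ := hdvd
        have hl0 : l ≤ -1 := by
          by_contra h
          have h1 : (0 : ℤ) ≤ q * l := mul_nonneg (by positivity) (by omega)
          omega
        have h2 : (q : ℤ) * l ≤ q * (-1) := mul_le_mul_of_nonneg_left hl0 (by positivity)
        exact (Submodule.mem_bot (GrLC.deg0 𝒜)).1 ((hneg d (by omega)).le hx))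
    (fun i _ => hS i)
  refine ⟨isGorensteinRing_of_selfdual hpos' h0' hm' hmsp hn I' (a := c) (σ := σ.1) σ.2
    (fun h => hσ0 (Subtype.ext h)) (fun y hy => ?_) hP' hS', ?_⟩
  · obtain ⟨a, ha⟩ := hσ ⟨y, hy⟩
    exact ⟨a.1, a.2, congrArg Subtype.val ha⟩
  · refine le_antisymm (iSup₂_le fun g hg => ?_)
      (le_iSup₂ (f := fun (g : ℤ) (_ : I.Hgr m n g ≠ ⊥) => ((g : WithTop ℤ) : WithBot (WithTop ℤ))) c
        fun h => hσ0 (Subtype.ext ((AddSubgroup.eq_bot_iff_forall _).1 h _ σ.2)))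
    obtain ⟨y, hy, hy0⟩ : ∃ y ∈ I.Hgr m n g, y ≠ 0 := by
      by_contra h
      push Not at h
      exact hg ((AddSubgroup.eq_bot_iff_forall _).2 h)
    exact WithBot.coe_le_coe.2 (WithTop.coe_le_coe.2 (hP' g y hy hy0).1)

end OneFactor

section Segre

variable {k R S T : Type u} [Field k] [CommRing R] [CommRing S] [CommRing T] [Algebra k R]
  [Algebra k S] [Algebra k T] [Algebra.FiniteType k R] [Algebra.FiniteType k S]
  {𝒜 : ℤ → Submodule k R} [GradedAlgebra 𝒜] {ℬ : ℤ → Submodule k S} [GradedAlgebra ℬ]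
  {𝒯 : ℤ → Submodule k T} [GradedAlgebra 𝒯] {ψ : T →ₐ[k] R ⊗[k] S}
  {mR : HomogeneousIdeal 𝒜} {mS : HomogeneousIdeal ℬ} {mT : HomogeneousIdeal 𝒯}

/-- The factors of a Gorenstein Segre product of standard algebras. -/
theorem gorenstein_factors (H : Setting k R S T 𝒜 ℬ 𝒯 ψ mR mS mT)
    (hposR : ∀ n : ℤ, n < 0 → 𝒜 n = ⊥) (h0R : 𝒜 0 = Submodule.span k {(1 : R)})
    (hposS : ∀ n : ℤ, n < 0 → ℬ n = ⊥) (h0S : ℬ 0 = Submodule.span k {(1 : S)})
    [LocCoh.IsCohenMacaulayRing R] [LocCoh.IsCohenMacaulayRing S] [LocCoh.IsGorensteinRing T]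
    (hstdR : Ideal.span (⋃ n ∈ Set.Ioi (0 : ℤ), (𝒜 n : Set R)) = Ideal.span ((𝒜 1 : Submodule k R) : Set R))
    (hstdS : Ideal.span (⋃ n ∈ Set.Ioi (0 : ℤ), (ℬ n : Set S)) = Ideal.span ((ℬ 1 : Submodule k S) : Set S))
    (I : GrLC.StarInjRes 𝒜 𝒜) (J : GrLC.StarInjRes ℬ ℬ) (F : GrLC.StarInjRes 𝒯 𝒯) {r s : ℕ}
    (hr : ringKrullDim R = r) (hs : ringKrullDim S = s) (h2r : 2 ≤ r) (h2s : 2 ≤ s) :
    ∃ c : ℤ, c < 0 ∧ (LocCoh.IsGorensteinRing R ∧ GrLC.endDeg (I.Hgr mR r) = ((c : WithTop ℤ) : WithBot (WithTop ℤ))) ∧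
      LocCoh.IsGorensteinRing S ∧ GrLC.endDeg (J.Hgr mS s) = ((c : WithTop ℤ) : WithBot (WithTop ℤ)) := by
  classical
  haveI := H.noethR
  haveI := H.noethS
  haveI := H.noethT
  haveI : Nontrivial R := by
    by_contra h
    rw [not_nontrivial_iff_subsingleton] at h
    rw [ringKrullDim_eq_bot_of_subsingleton] at hr
    simp at hr
  haveI : Nontrivial S := by
    by_contra h
    rw [not_nontrivial_iff_subsingleton] at h
    rw [ringKrullDim_eq_bot_of_subsingleton] at hs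
    simp at hs
  obtain ⟨hT', h0T⟩ := deg0_segre H h0R h0S
  haveI := hT'
  haveI := GrSegreLib.finiteType_segre 𝒜 ℬ 𝒯 ψ hposR h0R hposS h0S H.inj H.deg
  haveI : LocCoh.IsCohenMacaulayRing T := ⟨fun p hp => GorLib.isCohenMacaulay (Localization.AtPrime p)
    (LocCoh.IsGorensteinRing.isGorensteinLocalRing_localization p)⟩
  have hposT := pos_segre hposR hposS H.inj H.deg
  have hT := ringKrullDim_segre hposR h0R hposS h0S H.inj H.deg hr hs (by omega) (by omega)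
  obtain ⟨hA, hB⟩ := (cm_segre_ring_iff hposR h0R hposS h0S H.inj H.deg H.hmR H.hmS I J hr hs
    (by omega) (by omega)).1 inferInstance
  have hnegR : ∀ g : ℤ, 0 ≤ g → I.Hcomp mR r g = ⊥ := fun g hg => (hB h2s g).resolve_right
    (piece_ne_bot hposS h0S hstdS (by rw [hs]; exact_mod_cast (show 1 ≤ s by omega)) g hg)
  have hnegS : ∀ g : ℤ, 0 ≤ g → J.Hcomp mS s g = ⊥ := fun g hg => (hA h2r g).resolve_left
    (piece_ne_bot hposR h0R hstdR (by rw [hr]; exact_mod_cast (show 1 ≤ r by omega)) g hg)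
  have hMv : ∀ i, r < i → ∀ g, I.Hcomp mR i g = ⊥ := fun i hi g => Hcomp_eq_bot_of_supportDim_lt I mR
    (by rw [Module.supportDim_self_eq_ringKrullDim, hr]; exact_mod_cast hi) g
  have hNv : ∀ i, s < i → ∀ g, J.Hcomp mS i g = ⊥ := fun i hi g => Hcomp_eq_bot_of_supportDim_lt J mS
    (by rw [Module.supportDim_self_eq_ringKrullDim, hs]; exact_mod_cast hi) g
  have hP := isSegreMod_self H.inj H.deg
  have hdim := finrank_Hcomp_segre_top H hposR h0R hposS h0S I J hP F h2r h2s hMv hNv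
  obtain ⟨c, -, hone, hd2, hdual⟩ := gorenstein_data hposT h0T H.hmT hT F
  have h1 := hone
  rw [hdim c] at h1
  obtain ⟨h1R, h1S⟩ := Nat.eq_one_of_mul_eq_one_right h1, Nat.eq_one_of_mul_eq_one_left h1
  have hc : c < 0 := by
    by_contra h
    rw [hnegR c (by omega), finrank_bot] at h1R
    exact absurd h1R zero_ne_one
  have hpiece : ∀ i : ℤ, Module.finrank k (𝒯 i) = Module.finrank k (𝒜 i) * Module.finrank k (ℬ i) := by
    intro i
    rw [(Submodule.equivMapOfInjective ψ.toLinearMap H.inj (𝒯 i)).finrank_eq, H.deg i,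
      show GrSeg.segrePiece k 𝒜 ℬ i = box (𝒜 i) (ℬ i) from
        le_antisymm (Submodule.span_le.2 fun x hx => by
            obtain ⟨a, ha, a', ha', rfl⟩ := hx
            exact tmul_mem_box ha ha')
          (box_le fun a ha a' ha' => Submodule.subset_span ⟨a, ha, a', ha', rfl⟩), finrank_box]
  have hprod : ∀ i : ℤ, Module.finrank (GrLC.deg0 𝒜) (I.Hcomp mR r (c - i)) *
      Module.finrank (GrLC.deg0 ℬ) (J.Hcomp mS s (c - i)) = Module.finrank k (𝒜 i) * Module.finrank k (ℬ i) :=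
    fun i => by rw [← hdim, hdual, hpiece]
  have hfin : ∀ i : ℤ, 0 ≤ i → Module.finrank k (𝒜 i) ≠ 0 ∧ Module.finrank k (ℬ i) ≠ 0 := by
    intro i hi
    rw [← finrank_comp_self h0R, ← finrank_comp_self h0S, Ne, Ne, finrank_comp_eq_zero_iff h0R 𝒜,
      finrank_comp_eq_zero_iff h0S ℬ]
    exact ⟨fun h => piece_ne_bot hposR h0R hstdR (by rw [hr]; exact_mod_cast (show 1 ≤ r by omega)) i hi
        ((Submodule.eq_bot_iff _).2 h),
      fun h => piece_ne_bot hposS h0S hstdS (by rw [hs]; exact_mod_cast (show 1 ≤ s by omega)) i hi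
        ((Submodule.eq_bot_iff _).2 h)⟩
  obtain ⟨p, rfl⟩ := Nat.exists_eq_add_of_le' h2r
  obtain ⟨q, rfl⟩ := Nat.exists_eq_add_of_le' h2s
  have hn : p + 2 + (q + 2) - 1 = p + q + 1 + 1 + 1 := by omega
  rw [hn] at hd2
  letI : Module k (I.H mR (p + 1 + 1)) := Module.compHom _ (algebraMap k R)
  haveI : IsScalarTower k R (I.H mR (p + 1 + 1)) := IsScalarTower.of_algebraMap_smul fun _ _ => rfl
  letI : Module k (J.H mS (q + 1 + 1)) := Module.compHom _ (algebraMap k S)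
  haveI : IsScalarTower k S (J.H mS (q + 1 + 1)) := IsScalarTower.of_algebraMap_smul fun _ _ => rfl
  letI : Module k (F.H mT (p + q + 1 + 1 + 1)) := Module.compHom _ (algebraMap k T)
  haveI : IsScalarTower k T (F.H mT (p + q + 1 + 1 + 1)) := IsScalarTower.of_algebraMap_smul fun _ _ => rfl
  letI := (addPieces_isInternal 𝒯).chooseDecomposition
  letI : Decomposition (F.Hgr mT (p + q + 1 + 1 + 1)) :=
    (H_isInternal (addRes 𝒯 F) mT (p + q + 1 + 1 + 1)).chooseDecomposition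
  obtain ⟨Φ, hΦ⟩ := exists_isSegreMod_top H I J hP F (a := p) (b := q) hMv hNv
  have hex : ∀ d ≤ c, (∃ u ∈ I.Hgr mR (p + 1 + 1) d, u ≠ 0) ∧ ∃ v ∈ J.Hgr mS (q + 1 + 1) d, v ≠ 0 := by
    intro d hd
    have h := hprod (c - d)
    rw [sub_sub_cancel] at h
    obtain ⟨hA', hB'⟩ := hfin (c - d) (by omega)
    constructor <;> by_contra hh <;> push Not at hh
    · rw [show I.Hcomp mR (p + 2) d = ⊥ from (Submodule.eq_bot_iff _).2 hh, finrank_bot, zero_mul] at h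
      exact Nat.mul_ne_zero hA' hB' h.symm
    · rw [show J.Hcomp mS (q + 2) d = ⊥ from (Submodule.eq_bot_iff _).2 hh, finrank_bot, mul_zero] at h
      exact Nat.mul_ne_zero hA' hB' h.symm
  have hkey : ∀ d ≤ c, ∀ u ∈ I.Hgr mR (p + 1 + 1) d, u ≠ 0 → ∀ v ∈ J.Hgr mS (q + 1 + 1) d, v ≠ 0 →
      (∃ a ∈ 𝒜 (c - d), a • u ≠ 0) ∧ ∃ a ∈ ℬ (c - d), a • v ≠ 0 := fun d hd u hu hu0 v hv hv0 =>
    exists_smul_ne_of_segre H.deg hΦ (fun w hw hw0 => (hd2 d w hw hw0).2) hu hu0 hv hv0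
  have hPR : ∀ d ≤ c, ∀ x ∈ I.Hgr mR (p + 2) d, x ≠ 0 → ∃ a ∈ 𝒜 (c - d), a • x ≠ 0 := by
    intro d hd x hx hx0
    obtain ⟨v, hv, hv0⟩ := (hex d hd).2
    exact (hkey d hd x hx hx0 v hv hv0).1
  have hPS : ∀ d ≤ c, ∀ x ∈ J.Hgr mS (q + 2) d, x ≠ 0 → ∃ a ∈ ℬ (c - d), a • x ≠ 0 := by
    intro d hd x hx hx0
    obtain ⟨u, hu, hu0⟩ := (hex d hd).1
    exact (hkey d hd u hu hu0 x hx hx0).2
  have hub : ∀ {A : Type u} [CommRing A] [Algebra k A] [Nontrivial A] [Algebra.FiniteType k A]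
      {𝒜₁ : ℤ → Submodule k A} [GradedAlgebra 𝒜₁] (_ : 𝒜₁ 0 = Submodule.span k {(1 : A)})
      {m₁ : HomogeneousIdeal 𝒜₁} {l : ℕ} (E : GrLC.StarInjRes 𝒜₁ 𝒜₁)
      (_ : Module.finrank (GrLC.deg0 𝒜₁) (E.Hcomp m₁ l c) = 1)
      (_ : ∀ d ≤ c, ∀ x ∈ E.Hgr m₁ l d, x ≠ 0 → ∃ a ∈ 𝒜₁ (c - d), a • x ≠ 0) (i : ℤ) (_ : 0 ≤ i),
      Module.finrank (GrLC.deg0 𝒜₁) (E.Hcomp m₁ l (c - i)) ≤ Module.finrank k (𝒜₁ i) := by
    intro A _ _ _ _ 𝒜₁ _ h01 m₁ l E h1 hPA i hi
    haveI : IsNoetherianRing A := Algebra.FiniteType.isNoetherianRing k A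
    letI := (deg0_isField h01).toField
    letI := (addPieces_isInternal 𝒜₁).chooseDecomposition
    haveI : IsNoetherian (GrLC.deg0 𝒜₁) (GrLC.comp 𝒜₁ 𝒜₁ i) :=
      isNoetherian_comp 𝒜₁ (addPieces 𝒜₁) i
    haveI : Module.Finite (GrLC.deg0 𝒜₁) (E.Hcomp m₁ l c) := Module.finite_of_finrank_eq_succ h1
    let P : E.Hcomp m₁ l (c - i) →ₗ[GrLC.deg0 𝒜₁]
        GrLC.comp 𝒜₁ 𝒜₁ i →ₗ[GrLC.deg0 𝒜₁] E.Hcomp m₁ l c :=
      LinearMap.mk₂ _ (fun x a => ⟨(a : A) • x.1, by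
          obtain ⟨z, hz, hzx⟩ := x.2
          refine ⟨(a : A) • z, ?_, by rw [map_smul, hzx]⟩
          have h := GrInjLib.smul_mem 𝒜₁ (E.X l).gr a.2 hz
          rwa [add_sub_cancel] at h⟩)
        (fun x x' a => Subtype.ext (smul_add _ _ _))
        (fun b x a => Subtype.ext (show (a : A) • ((b : A) • x.1) = (b : A) • ((a : A) • x.1) from smul_comm _ _ _))
        (fun x a a' => Subtype.ext (add_smul _ _ _))
        (fun b x a => Subtype.ext (show ((b : A) • (a : A)) • x.1 = (b : A) • ((a : A) • x.1) from smul_assoc _ _ _))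
    have hinj : Function.Injective P := by
      refine (injective_iff_map_eq_zero P).2 fun x hx => Subtype.ext ?_
      by_contra hne
      obtain ⟨a, ha, hax⟩ := hPA (c - i) (by omega) x.1 x.2 hne
      rw [sub_sub_cancel] at ha
      exact hax (congrArg Subtype.val (LinearMap.congr_fun hx ⟨a, ha⟩))
    have hle := LinearMap.finrank_le_finrank_of_injective hinj
    rwa [Module.finrank_linearMap, h1, mul_one, finrank_comp_self h01] at hle
  have heq : ∀ i : ℤ, 0 ≤ i → Module.finrank k (𝒜 i) ≤ Module.finrank (GrLC.deg0 𝒜) (I.Hcomp mR (p + 2) (c - i)) ∧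
      Module.finrank k (ℬ i) ≤ Module.finrank (GrLC.deg0 ℬ) (J.Hcomp mS (q + 2) (c - i)) := by
    intro i hi
    have hu := hub h0R I h1R hPR i hi
    have hv := hub h0S J h1S hPS i hi
    have h := hprod i
    obtain ⟨ha, hb⟩ := hfin i hi
    constructor
    · by_contra hlt
      have := Nat.mul_lt_mul_of_lt_of_le (not_le.1 hlt) hv (Nat.pos_of_ne_zero hb)
      omega
    · by_contra hlt
      have := Nat.mul_lt_mul_of_le_of_lt hu (not_le.1 hlt) (Nat.pos_of_ne_zero ha)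
      omega
  exact ⟨c, hc, gorenstein_of_partial_duality hposR h0R H.hmR hstdR hr h2r I h1R hnegR hPR fun i hi => (heq i hi).1,
    gorenstein_of_partial_duality hposS h0S H.hmS hstdS hs h2s J h1S hnegS hPS fun i hi => (heq i hi).2⟩

end Segre

end Groth.Agent.GrKunnethLib
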