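import Mathlib
import Groth.Agent.GrKunnethLib.CMSegre
import Groth.Agent.GrFieldLib.Top
import Groth.Agent.GrRegLib.Poly
import Groth.Prelude.Def_GrSyz

/-!
# Segre products of shifted polynomial rings
-/

set_option autoImplicit false
set_option linter.style.haveILetI false
set_option linter.unusedSectionVars false
universe u

open scoped TensorProduct
attribute [local instance] MvPolynomial.weightedGradedAlgebra

namespace Groth.Agent.GrKunnethLib

open DirectSum GrInjLib

section Shift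

variable {k R : Type u} [Field k] [CommRing R] [Algebra k R] {𝒜 : ℤ → Submodule k R} [GradedAlgebra 𝒜]

variable (𝒜) in
/-- The shifted pieces of the ring. -/
def shiftGr (a : ℤ) : ℤ → Submodule k R := fun n => 𝒜 (n + a)

variable (𝒜) in
theorem shiftGr_isInternal (a : ℤ) : DirectSum.IsInternal (addPieces (shiftGr 𝒜 a)) := by
  classical
  refine isInternal_of_proj _ (fun g =>
    { toFun := fun x => (decompose 𝒜 x (g + a) : R)
      map_zero' := by simp
      map_add' := fun x y => by simp }) (fun g x hx => decompose_of_mem_same 𝒜 hx)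
    (fun g h hne x hx => decompose_of_mem_ne 𝒜 hx (fun e => hne (by omega))) (fun x => ?_)
  rw [← DirectSum.sum_support_decompose 𝒜 x]
  refine sum_mem fun g _ => AddSubgroup.mem_iSup_of_mem (g - a) ?_
  show (decompose 𝒜 x g : R) ∈ 𝒜 (g - a + a)
  rw [sub_add_cancel]
  exact (decompose 𝒜 x g).2

instance shiftGr_smul (a : ℤ) : SetLike.GradedSMul 𝒜 (addPieces (shiftGr 𝒜 a)) :=
  ⟨fun {i j r m} hr hm => (by
    show r * m ∈ 𝒜 (i + j + a)
    rw [add_assoc]
    exact SetLike.GradedMul.mul_mem (A := 𝒜) hr hm)⟩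

noncomputable instance shiftGr_dec (a : ℤ) : Decomposition (addPieces (shiftGr 𝒜 a)) :=
  (shiftGr_isInternal 𝒜 a).chooseDecomposition

theorem decompose_shift (a : ℤ) (x : R) (g : ℤ) :
    ((decompose (addPieces (shiftGr 𝒜 a)) x g : R)) = (decompose 𝒜 x (g + a) : R) := by
  classical
  induction x using Decomposition.inductionOn 𝒜 with
  | zero => simp
  | homogeneous m =>
    rename_i j
    have hm : (m : R) ∈ addPieces (shiftGr 𝒜 a) (j - a) := by
      show (m : R) ∈ 𝒜 (j - a + a)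
      rw [sub_add_cancel]
      exact m.2
    by_cases h : j = g + a
    · rw [decompose_of_mem_same _ (show (m : R) ∈ addPieces (shiftGr 𝒜 a) g by
        rwa [show j - a = g by omega] at hm), decompose_of_mem_same 𝒜 (h ▸ m.2)]
    · rw [decompose_of_mem_ne _ hm (show j - a ≠ g by omega), decompose_of_mem_ne 𝒜 m.2 h]
  | add x y hx hy => simp only [decompose_add, DirectSum.add_apply, AddMemClass.coe_add, hx, hy]

end Shift

section Poly

variable {k : Type u} [Field k] {r : ℕ}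


theorem poly_pos (n : ℤ) (hn : n < 0) : ((MvPolynomial.weightedHomogeneousSubmodule k (fun _ : Fin r => (1 : ℤ))) n) = ⊥ := by
  refine (Submodule.eq_bot_iff _).2 fun p hp => ?_
  refine MvPolynomial.IsWeightedHomogeneous.eq_zero_of_no_monomials hp fun m hm => ?_
  rw [Finsupp.weight_apply, Finsupp.sum] at hm
  have : (0 : ℤ) ≤ ∑ j ∈ m.support, m j • (1 : ℤ) := Finset.sum_nonneg fun j _ => by positivity
  omega

theorem poly_zero : ((MvPolynomial.weightedHomogeneousSubmodule k (fun _ : Fin r => (1 : ℤ))) 0) = Submodule.span k {(1 : MvPolynomial (Fin r) k)} := by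
  refine le_antisymm (fun p hp => Submodule.mem_span_singleton.2 ⟨MvPolynomial.coeff 0 p, ?_⟩) ?_
  · ext m
    rw [MvPolynomial.coeff_smul, MvPolynomial.coeff_one, smul_eq_mul]
    split_ifs with hm
    · rw [← hm, mul_one]
    · rw [mul_zero]
      by_contra hne
      have hw := hp (Ne.symm hne)
      rw [Finsupp.weight_apply, Finsupp.sum] at hw
      obtain ⟨j, hj⟩ := Finsupp.support_nonempty_iff.2 (Ne.symm hm)
      have h0 := (Finset.sum_eq_zero_iff_of_nonneg fun j _ => by positivity).1 hw j hj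
      simp at h0
      exact Finsupp.mem_support_iff.1 hj h0
  · rw [Submodule.span_le, Set.singleton_subset_iff]
    exact SetLike.GradedOne.one_mem (A := (MvPolynomial.weightedHomogeneousSubmodule k (fun _ : Fin r => (1 : ℤ))))

theorem poly_ne_bot (h1 : 1 ≤ r) (n : ℤ) (hn : 0 ≤ n) : ((MvPolynomial.weightedHomogeneousSubmodule k (fun _ : Fin r => (1 : ℤ))) n) ≠ ⊥ := by
  intro h
  obtain ⟨n, rfl⟩ := Int.eq_ofNat_of_zero_le hn
  have hm : (MvPolynomial.X (⟨0, h1⟩ : Fin r) : MvPolynomial (Fin r) k) ^ n ∈ ((MvPolynomial.weightedHomogeneousSubmodule k (fun _ : Fin r => (1 : ℤ))) (n : ℤ)) := by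
    have := SetLike.pow_mem_graded (A := (MvPolynomial.weightedHomogeneousSubmodule k (fun _ : Fin r => (1 : ℤ)))) n
      (MvPolynomial.isWeightedHomogeneous_X k (fun _ : Fin r => (1 : ℤ)) ⟨0, h1⟩)
    rwa [nsmul_eq_mul, mul_one] at this
  rw [h, Submodule.mem_bot] at hm
  exact pow_ne_zero n (MvPolynomial.X_ne_zero _) hm

theorem poly_dim : Module.supportDim (MvPolynomial (Fin r) k) (MvPolynomial (Fin r) k) = (r : WithBot ℕ∞) := by
  rw [Module.supportDim_self_eq_ringKrullDim, MvPolynomial.ringKrullDim_of_isNoetherianRing,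
    ringKrullDim_eq_zero_of_field, zero_add, Nat.card_eq_fintype_card, Fintype.card_fin]

theorem poly_irr (h1 : 1 ≤ r) : GrSegreLib.irr (MvPolynomial.weightedHomogeneousSubmodule k (fun _ : Fin r => (1 : ℤ))) =
    Ideal.ofList (List.ofFn fun j : Fin r => (MvPolynomial.X j : MvPolynomial (Fin r) k)) := by
  obtain ⟨e, rfl⟩ := Nat.exists_eq_add_of_le' h1
  show Ideal.span _ = _
  refine ((GrInjLib.Poly.ha (k := k) (r := e)).symm.trans GrInjLib.Poly.irrel_eq_X).trans ?_
  rw [Ideal.ofList]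
  rw [Set.image_univ]
  congr 1
  ext p
  simp only [List.mem_ofFn, Set.mem_range, Set.mem_setOf_eq]

variable {mR : HomogeneousIdeal (MvPolynomial.weightedHomogeneousSubmodule k (fun _ : Fin r => (1 : ℤ)))}
  (hmR : mR.toIdeal = GrSegreLib.irr (MvPolynomial.weightedHomogeneousSubmodule k (fun _ : Fin r => (1 : ℤ))))
  (a : ℤ) (E : GrLC.StarInjRes (MvPolynomial.weightedHomogeneousSubmodule k (fun _ : Fin r => (1 : ℤ))) (addPieces (shiftGr (MvPolynomial.weightedHomogeneousSubmodule k (fun _ : Fin r => (1 : ℤ))) a))) (h1 : 1 ≤ r)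

include hmR h1 in
theorem poly_Hcomp_low (i : ℕ) (hi : i < r) (g : ℤ) : E.Hcomp mR i g = ⊥ := by
  refine (subsingleton_locCoh_iff E mR i).1 ?_ g
  obtain ⟨e, rfl⟩ := Nat.exists_eq_add_of_le' h1
  refine LocCohLib.subsingleton_of_isWeaklyRegular mR.toIdeal
    (ModuleCat.of _ (MvPolynomial (Fin (e + 1)) k)) _ (GrInjLib.Poly.isWeaklyRegular_X (k := k) (r := e))
    (fun x hx => ?_) i (by simpa using hi)
  rw [hmR, poly_irr h1]
  exact Ideal.subset_span hx

include hmR h1 E in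
theorem poly_cm (q : Ideal (MvPolynomial (Fin r) k)) [q.IsPrime] :
    Subsingleton (LocalizedModule q.primeCompl (MvPolynomial (Fin r) k)) ∨
      LocCoh.IsCohenMacaulayModule (Localization.AtPrime q)
        (LocalizedModule q.primeCompl (MvPolynomial (Fin r) k)) :=
  (cm_iff_Hcomp (poly_pos (k := k) (r := r)) poly_zero E hmR poly_dim).2
    (poly_Hcomp_low hmR a E h1) q

include hmR h1 in
/-- The top cohomology of a shifted polynomial ring ends in degree `-r - a`. -/
theorem poly_Hcomp_top :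
    (∀ g, -(r : ℤ) - a < g → E.Hcomp mR r g = ⊥) ∧ E.Hcomp mR r (-(r : ℤ) - a) ≠ ⊥ := by
  classical
  obtain ⟨e, rfl⟩ := Nat.exists_eq_add_of_le' h1
  let R := MvPolynomial (Fin (e + 1)) k
  let 𝒜 := MvPolynomial.weightedHomogeneousSubmodule k (fun _ : Fin (e + 1) => (1 : ℤ))
  letI : GradedAlgebra 𝒜 := MvPolynomial.weightedGradedAlgebra k (fun _ : Fin (e + 1) => (1 : ℤ))
  let M : GrLC.GMod.{u} 𝒜 := GrLC.GMod.of 𝒜 R (addPieces (shiftGr 𝒜 a))
  haveI : Module.Finite R M.carrier := inferInstanceAs (Module.Finite R R)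
  let L : List (R × ℤ) := List.ofFn fun j => ((MvPolynomial.X j : R), (1 : ℤ))
  have hL : ∀ p ∈ L, p.1 ∈ 𝒜 p.2 ∧ 0 < p.2 := fun p hp => by
    obtain ⟨j, rfl⟩ := List.mem_ofFn.1 hp
    exact ⟨MvPolynomial.isWeightedHomogeneous_X k (fun _ : Fin (e + 1) => (1 : ℤ)) j, show (0 : ℤ) < 1 from one_pos⟩
  have hL1 : L.map Prod.fst = List.ofFn fun j => (MvPolynomial.X j : R) := by simp [L, Function.comp_def]
  have hsum : (L.map Prod.snd).sum = ((e + 1 : ℕ) : ℤ) := by
    simp [L, List.sum_ofFn, Function.comp_def, add_comm]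
  have hlen : L.length = e + 1 := by simp [L]
  have hirr : GrSegreLib.irr 𝒜 = Ideal.ofList (L.map Prod.fst) := by rw [hL1]; exact poly_irr h1
  let J : Submodule R M.carrier := Ideal.ofList (L.map Prod.fst) • (⊤ : Submodule R M.carrier)
  have hJeq : ∀ x : R, (x : M.carrier) ∈ J ↔ x ∈ GrSegreLib.irr 𝒜 := fun x => by
    show x ∈ Ideal.ofList (L.map Prod.fst) • (⊤ : Submodule R R) ↔ _
    rw [hirr, smul_eq_mul, Ideal.mul_top]
  have hJ : J.IsHomogeneous M.gr := fun g x hx => by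
    have h2 : (decompose 𝒜 (x : R) (g + a) : R) ∈ GrSegreLib.irr 𝒜 :=
      GrSegreLib.irr_homogeneous 𝒜 (g + a) ((hJeq x).1 hx)
    have h3 : ((decompose M.gr x g : M.carrier) : R) = (decompose 𝒜 (x : R) (g + a) : R) :=
      decompose_shift (𝒜 := 𝒜) a (x : R) g
    exact (hJeq _).2 (h3 ▸ h2)
  let N := quotG 𝒜 M.gr hJ
  have htor : GrLC.gam mR.toIdeal N.carrier = ⊤ := by
    rw [eq_top_iff]
    intro y _
    obtain ⟨z, rfl⟩ := quotMk_surjective 𝒜 M.gr hJ y
    refine ⟨1, fun t ht => ?_⟩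
    rw [pow_one, hmR, hirr] at ht
    rw [← map_smul, ← LinearMap.mem_ker, ker_quotMk]
    exact Submodule.smul_mem_smul ht Submodule.mem_top
  have hwr : RingTheory.Sequence.IsWeaklyRegular M.carrier (L.map Prod.fst) := by
    rw [hL1]
    exact GrInjLib.Poly.isWeaklyRegular_X (k := k) (r := e)
  have hvan : ∀ i, i < L.length → ∀ g, Van mR M i g := fun i hi g => Van.of_res (X := M) E
    (poly_Hcomp_low hmR a E h1 i (hlen ▸ hi) g)
  have key := GrFieldLib.van_end_seq (m := mR)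
    (fun n hn x hx => by rw [poly_pos n hn] at hx; exact (Submodule.mem_bot k).1 hx) hmR L hL M N
    (quotMk 𝒜 M.gr hJ) hwr (quotMk_surjective 𝒜 M.gr hJ) (quotMk_grHom 𝒜 M.gr hJ)
    (ker_quotMk 𝒜 M.gr hJ) hvan htor
  rw [hlen, hsum] at key
  constructor
  · intro g hg
    refine (key (-((e + 1 : ℕ) : ℤ) - a)).2 (fun d hd x hx => ?_) g hg E
    rw [← LinearMap.mem_ker, ker_quotMk]
    exact (hJeq x).2 (GrSegreLib.mem_irr_of_mem 𝒜 (show (0 : ℤ) < d + a by omega) hx)
  · intro hbot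
    have h2 := (key (-((e + 1 : ℕ) : ℤ) - a - 1)).1 (fun g hg => by
      rcases eq_or_ne g (-((e + 1 : ℕ) : ℤ) - a) with rfl | hne
      · exact Van.of_res (X := M) E hbot
      · refine (key (-((e + 1 : ℕ) : ℤ) - a)).2 (fun d hd x hx => ?_) g (by omega)
        rw [← LinearMap.mem_ker, ker_quotMk]
        exact (hJeq x).2 (GrSegreLib.mem_irr_of_mem 𝒜 (show (0 : ℤ) < d + a by omega) hx))
      (-a) (by omega) (1 : R) (by
        show (1 : R) ∈ 𝒜 (-a + a)
        rw [neg_add_cancel]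
        exact SetLike.GradedOne.one_mem (A := 𝒜))
    rw [← LinearMap.mem_ker, ker_quotMk] at h2
    haveI := GrSegreLib.irr_isMaximal 𝒜 poly_pos poly_zero
    exact Ideal.IsPrime.ne_top (I := GrSegreLib.irr 𝒜) inferInstance
      ((Ideal.eq_top_iff_one _).2 ((hJeq 1).1 h2))

end Poly

section Segre

variable {k : Type u} [Field k] {r s : ℕ} {T : Type u} [CommRing T] [Algebra k T]
  {𝒯 : ℤ → Submodule k T} [GradedAlgebra 𝒯]
  {ψ : T →ₐ[k] TensorProduct k (MvPolynomial (Fin r) k) (MvPolynomial (Fin s) k)}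
  {P : Type u} [AddCommGroup P] [Module T P] [Module k P] [IsScalarTower k T P]
  {𝒬 : ℤ → AddSubgroup P} [Decomposition 𝒬]
  {φ : P →ₗ[k] TensorProduct k (MvPolynomial (Fin r) k) (MvPolynomial (Fin s) k)}


variable (hT : GrSeg.IsSegreRing (MvPolynomial.weightedHomogeneousSubmodule k (fun _ : Fin r => (1 : ℤ)))
    (MvPolynomial.weightedHomogeneousSubmodule k (fun _ : Fin s => (1 : ℤ))) 𝒯 ψ)
  {a b : ℤ} (hP : GrSeg.IsSegreMod ψ
    (fun n : ℤ => (MvPolynomial.weightedHomogeneousSubmodule k (fun _ : Fin r => (1 : ℤ))) (n + a))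
    (fun n : ℤ => (MvPolynomial.weightedHomogeneousSubmodule k (fun _ : Fin s => (1 : ℤ))) (n + b)) 𝒬 φ)
  (h1r : 1 ≤ r) (h1s : 1 ≤ s)

include hT hP h1r h1s in
/-- Cohen–Macaulayness and depth of Segre products of shifted polynomial rings. -/
theorem segre_shift {mT : HomogeneousIdeal 𝒯}
    (hmT : mT.toIdeal = Ideal.span (⋃ n ∈ Set.Ioi (0 : ℤ), (𝒯 n : Set T))) :
    ((∀ (q : Ideal T) [q.IsPrime], Subsingleton (LocalizedModule q.primeCompl P) ∨
      LocCoh.IsCohenMacaulayModule (Localization.AtPrime q) (LocalizedModule q.primeCompl P)) ↔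
        (2 ≤ r → a - b < (s : ℤ)) ∧ (2 ≤ s → -(r : ℤ) < a - b)) ∧
    (2 ≤ r → (s : ℤ) ≤ a - b → LocCoh.idealDepth mT.toIdeal P = (s : ℕ∞)) ∧
    (2 ≤ s → a - b ≤ -(r : ℤ) → LocCoh.idealDepth mT.toIdeal P = (r : ℕ∞)) := by
  classical
  obtain ⟨hψ, hdegT⟩ := hT
  let R := MvPolynomial (Fin r) k
  let S := MvPolynomial (Fin s) k
  let mR : HomogeneousIdeal (MvPolynomial.weightedHomogeneousSubmodule k (fun _ : Fin r => (1 : ℤ))) := ⟨GrSegreLib.irr (MvPolynomial.weightedHomogeneousSubmodule k (fun _ : Fin r => (1 : ℤ))), GrSegreLib.irr_homogeneous (MvPolynomial.weightedHomogeneousSubmodule k (fun _ : Fin r => (1 : ℤ)))⟩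
  let mS : HomogeneousIdeal (MvPolynomial.weightedHomogeneousSubmodule k (fun _ : Fin s => (1 : ℤ))) := ⟨GrSegreLib.irr (MvPolynomial.weightedHomogeneousSubmodule k (fun _ : Fin s => (1 : ℤ))), GrSegreLib.irr_homogeneous (MvPolynomial.weightedHomogeneousSubmodule k (fun _ : Fin s => (1 : ℤ)))⟩
  have hP' : GrSeg.IsSegreMod ψ (addPieces (shiftGr (MvPolynomial.weightedHomogeneousSubmodule k (fun _ : Fin r => (1 : ℤ))) a)) (addPieces (shiftGr (MvPolynomial.weightedHomogeneousSubmodule k (fun _ : Fin s => (1 : ℤ))) b)) 𝒬 φ :=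
    ⟨hP.injective, hP.image_piece, hP.map_smul⟩
  obtain ⟨EM⟩ := exists_starInjRes (MvPolynomial.weightedHomogeneousSubmodule k (fun _ : Fin r => (1 : ℤ))) (addPieces (shiftGr (MvPolynomial.weightedHomogeneousSubmodule k (fun _ : Fin r => (1 : ℤ))) a))
  obtain ⟨EN⟩ := exists_starInjRes (MvPolynomial.weightedHomogeneousSubmodule k (fun _ : Fin s => (1 : ℤ))) (addPieces (shiftGr (MvPolynomial.weightedHomogeneousSubmodule k (fun _ : Fin s => (1 : ℤ))) b))
  obtain ⟨htopM, hneM⟩ := poly_Hcomp_top (mR := mR) rfl a EM h1r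
  obtain ⟨htopN, hneN⟩ := poly_Hcomp_top (mR := mS) rfl b EN h1s
  have hMcm : ∀ (q : Ideal R) [q.IsPrime], Subsingleton (LocalizedModule q.primeCompl R) ∨
      LocCoh.IsCohenMacaulayModule (Localization.AtPrime q) (LocalizedModule q.primeCompl R) :=
    fun q _ => poly_cm (mR := mR) rfl a EM h1r q
  have hNcm : ∀ (q : Ideal S) [q.IsPrime], Subsingleton (LocalizedModule q.primeCompl S) ∨
      LocCoh.IsCohenMacaulayModule (Localization.AtPrime q) (LocalizedModule q.primeCompl S) :=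
    fun q _ => poly_cm (mR := mS) rfl b EN h1s q
  haveI := GrSegreLib.finiteType_segre (MvPolynomial.weightedHomogeneousSubmodule k (fun _ : Fin r => (1 : ℤ))) (MvPolynomial.weightedHomogeneousSubmodule k (fun _ : Fin s => (1 : ℤ))) 𝒯 ψ poly_pos poly_zero poly_pos poly_zero hψ hdegT
  haveI : IsNoetherianRing T := Algebra.FiniteType.isNoetherianRing k T
  haveI : Module.Finite T P := moduleFinite_segre' poly_pos poly_zero poly_pos poly_zero hdegT hP'
  haveI : SetLike.GradedSMul 𝒯 𝒬 := gradedSMul_segre hdegT hP'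
  have hR0 : ∀ d, (∀ x ∈ addPieces (shiftGr (MvPolynomial.weightedHomogeneousSubmodule k (fun _ : Fin r => (1 : ℤ))) a) d, x = 0) ↔ d + a < 0 := fun d => by
    refine ⟨fun h => not_le.1 fun hd => poly_ne_bot h1r (d + a) hd ((Submodule.eq_bot_iff _).2 h), fun hd x hx => ?_⟩
    have hx' : x ∈ (MvPolynomial.weightedHomogeneousSubmodule k (fun _ : Fin r => (1 : ℤ))) (d + a) := hx
    rwa [poly_pos _ hd, Submodule.mem_bot] at hx'
  have hS0 : ∀ d, (∀ x ∈ addPieces (shiftGr (MvPolynomial.weightedHomogeneousSubmodule k (fun _ : Fin s => (1 : ℤ))) b) d, x = 0) ↔ d + b < 0 := fun d => by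
    refine ⟨fun h => not_le.1 fun hd => poly_ne_bot h1s (d + b) hd ((Submodule.eq_bot_iff _).2 h), fun hd x hx => ?_⟩
    have hx' : x ∈ (MvPolynomial.weightedHomogeneousSubmodule k (fun _ : Fin s => (1 : ℤ))) (d + b) := hx
    rwa [poly_pos _ hd, Submodule.mem_bot] at hx'
  haveI : Nontrivial P := by
    let d : ℤ := max (-a) (-b)
    obtain ⟨x, hx, hx0⟩ : ∃ x ∈ addPieces (shiftGr (MvPolynomial.weightedHomogeneousSubmodule k (fun _ : Fin r => (1 : ℤ))) a) d, x ≠ 0 := by
      by_contra h; push Not at h; have := (hR0 d).1 h; omega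
    obtain ⟨y, hy, hy0⟩ : ∃ y ∈ addPieces (shiftGr (MvPolynomial.weightedHomogeneousSubmodule k (fun _ : Fin s => (1 : ℤ))) b) d, y ≠ 0 := by
      by_contra h; push Not at h; have := (hS0 d).1 h; omega
    have hxy : x ⊗ₜ[k] y ∈ (GrSeg.segrePiece k (addPieces (shiftGr (MvPolynomial.weightedHomogeneousSubmodule k (fun _ : Fin r => (1 : ℤ))) a)) (addPieces (shiftGr (MvPolynomial.weightedHomogeneousSubmodule k (fun _ : Fin s => (1 : ℤ))) b)) d : Set _) :=
      Submodule.subset_span ⟨x, hx, y, hy, rfl⟩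
    rw [← hP'.image_piece] at hxy
    obtain ⟨p, -, hp⟩ := hxy
    refine ⟨p, 0, fun h => ?_⟩
    rw [h, map_zero] at hp
    refine absurd hp.symm fun h0 => ?_
    obtain ⟨f, hf⟩ := Module.Projective.exists_dual_ne_zero k hx0
    have h1 := congrArg ((TensorProduct.lid k S).toLinearMap ∘ₗ LinearMap.rTensor S f) h0
    exact hy0 (by simpa [hf] using h1)
  have hA : ∀ d, ((∀ x ∈ addPieces (shiftGr (MvPolynomial.weightedHomogeneousSubmodule k (fun _ : Fin r => (1 : ℤ))) a) d, x = 0) ∨ EN.Hcomp mS s d = ⊥) ∨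
      (d + a ≥ 0 ∧ d ≤ -(s : ℤ) - b) := fun d => by
    rcases lt_or_ge (d + a) 0 with h | h
    · exact Or.inl (Or.inl ((hR0 d).2 h))
    · rcases lt_or_ge (-(s : ℤ) - b) d with h' | h'
      · exact Or.inl (Or.inr (htopN d h'))
      · exact Or.inr ⟨h, h'⟩
  have hB : ∀ d, (EM.Hcomp mR r d = ⊥ ∨ ∀ y ∈ addPieces (shiftGr (MvPolynomial.weightedHomogeneousSubmodule k (fun _ : Fin s => (1 : ℤ))) b) d, y = 0) ∨
      (d + b ≥ 0 ∧ d ≤ -(r : ℤ) - a) := fun d => by
    rcases lt_or_ge (d + b) 0 with h | h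
    · exact Or.inl (Or.inr ((hS0 d).2 h))
    · rcases lt_or_ge (-(r : ℤ) - a) d with h' | h'
      · exact Or.inl (Or.inl (htopM d h'))
      · exact Or.inr ⟨h, h'⟩
  have hAiff : (∀ d, (∀ x ∈ addPieces (shiftGr (MvPolynomial.weightedHomogeneousSubmodule k (fun _ : Fin r => (1 : ℤ))) a) d, x = 0) ∨ EN.Hcomp mS s d = ⊥) ↔ a - b < (s : ℤ) := by
    refine ⟨fun h => not_le.1 fun hle => ?_, fun h d => (hA d).resolve_right (by omega)⟩
    rcases h (-(s : ℤ) - b) with h' | h'
    · have := (hR0 _).1 h'; omega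
    · exact hneN h'
  have hBiff : (∀ d, EM.Hcomp mR r d = ⊥ ∨ ∀ y ∈ addPieces (shiftGr (MvPolynomial.weightedHomogeneousSubmodule k (fun _ : Fin s => (1 : ℤ))) b) d, y = 0) ↔ -(r : ℤ) < a - b := by
    refine ⟨fun h => not_le.1 fun hle => ?_, fun h d => (hB d).resolve_right (by omega)⟩
    rcases h (-(r : ℤ) - a) with h' | h'
    · exact hneM h'
    · have := (hS0 _).1 h'; omega
  refine ⟨?_, fun h2r hle => ?_, fun h2s hle => ?_⟩
  · rw [cm_segre_iff poly_pos poly_zero poly_pos poly_zero hψ hdegT hP' (mR := mR) rfl (mS := mS) rfl EM EN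
      h1r h1s poly_dim poly_dim hMcm hNcm, hAiff, hBiff]
  all_goals
    haveI : Nontrivial T := Module.nontrivial T P
    have H : Setting k R S T (MvPolynomial.weightedHomogeneousSubmodule k (fun _ : Fin r => (1 : ℤ))) (MvPolynomial.weightedHomogeneousSubmodule k (fun _ : Fin s => (1 : ℤ))) 𝒯 ψ mR mS mT :=
      setting_of poly_pos poly_zero poly_pos poly_zero hψ hdegT rfl rfl hmT
    obtain ⟨F⟩ := exists_starInjRes 𝒯 𝒬
    have hMv := Hcomp_eq_bot_of_cm poly_pos poly_zero EM (mR := mR) rfl poly_dim hMcm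
    have hNv := Hcomp_eq_bot_of_cm poly_pos poly_zero EN (mR := mS) rfl poly_dim hNcm
    have hlow := fun q (hq : q + 1 < r + s) d =>
      low_Hcomp H poly_pos poly_zero poly_pos poly_zero hP' EM EN F h1r h1s hMv hNv q d hq
    obtain ⟨-, h0T⟩ := deg0_segre H poly_zero poly_zero
    have hposT := pos_segre poly_pos poly_pos hψ hdegT
  · refine idealDepth_eq hposT h0T F hmT s (fun i hi g => (hlow i (by omega) g).2 ⟨fun h => by omega,
      fun h => hBiff.2 (by omega) g⟩) (-(s : ℤ) - b) fun h => ?_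
    rcases ((hlow s (by omega) _).1 h).1 rfl with h' | h'
    · have := (hR0 _).1 h'; omega
    · exact hneN h'
  · refine idealDepth_eq hposT h0T F hmT r (fun i hi g => (hlow i (by omega) g).2 ⟨
      fun h => hAiff.2 (by omega) g, fun h => by omega⟩) (-(r : ℤ) - a) fun h => ?_
    rcases ((hlow r (by omega) _).1 h).2 rfl with h' | h'
    · exact hneM h'
    · have := (hS0 _).1 h'; omega

end Segre

end Groth.Agent.GrKunnethLib
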